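import Cfsg.Agent.Lib.J4Iso59.Spec
import Cfsg.Agent.Lib.J4Two56.Cover

/-!
# The action on the second subgroup of the elements that are known on its first 128 members
-/

set_option autoImplicit false

universe u

namespace Cfsg.Agent.Lib.J4Iso59

open Cfsg Cfsg.Agent.Lib Cfsg.Agent.Lib.J4Two56 Subgroup

/-- The pairs in a list of pair classes cover every point twice with different partners. -/
def coverD (D : List ℕ) : Bool :=
  (List.range 24).all fun i => (List.range 24).any fun j => (List.range 24).any fun k =>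
    decide (i ≠ j ∧ i ≠ k ∧ j ≠ k ∧ cdList.getD i 0 ^^^ cdList.getD j 0 ∈ D ∧
      cdList.getD i 0 ^^^ cdList.getD k 0 ∈ D)

/-- A permutation fixing the pair classes of a covering list is trivial. -/
theorem eq_one_of_fix {σ : Equiv.Perm GolayPt} (hσ : σ ∈ Cfsg.M24) {D : List ℕ} (hD : coverD D = true)
    (h : ∀ d ∈ D, act σ d = d) : σ = 1 := by
  refine Equiv.ext fun p => ?_
  obtain ⟨j, hj, k, hk, hij, hik, hjk, d1, d2⟩ : ∃ j < 24, ∃ k < 24, (Golay.idx p).val ≠ j ∧ (Golay.idx p).val ≠ k ∧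
      j ≠ k ∧ cdList.getD (Golay.idx p).val 0 ^^^ cdList.getD j 0 ∈ D ∧
      cdList.getD (Golay.idx p).val 0 ^^^ cdList.getD k 0 ∈ D := by
    simp only [coverD, List.all_eq_true, List.any_eq_true, List.mem_range, decide_eq_true_eq] at hD
    exact hD _ (Golay.idx p).isLt
  have hne : ∀ {m : ℕ}, m < 24 → (Golay.idx p).val ≠ m → p ≠ Golay.ptN m := fun hm hne he => hne (by
    rw [he, Golay.idx_ptN hm])
  have key : ∀ m, m < 24 → (Golay.idx p).val ≠ m → cdList.getD (Golay.idx p).val 0 ^^^ cdList.getD m 0 ∈ D →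
      σ p = p ∨ σ p = Golay.ptN m := by
    intro m hm hne' hmem
    have he := h _ hmem
    rw [show cdList.getD (Golay.idx p).val 0 = cd p from rfl, ← cd_ptN hm, act_pair hσ] at he
    have := pair_inj (fun e => hne hm hne' (σ.injective e)) (hne hm hne') he
    rcases pair_eq_cases this with ⟨h1, -⟩ | ⟨h1, -⟩
    · exact Or.inl h1
    · exact Or.inr h1
  show σ p = p
  rcases key j hj hij d1 with h1 | h1
  · exact h1
  rcases key k hk hik d2 with h2 | h2
  · exact h2
  exact absurd (congrArg (fun q => (Golay.idx q).val) (h1.symm.trans h2))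
    (by simp only [Golay.idx_ptN hj, Golay.idx_ptN hk]; exact hjk)

/-- The pair classes below 128. -/
def lowD : List ℕ := (List.range 128).filter isD

theorem lowD_cover : coverD lowD = true := by decide +kernel

theorem act_low_inj {σ τ : Equiv.Perm GolayPt} (hσ : σ ∈ Cfsg.M24) (hτ : τ ∈ Cfsg.M24)
    (h : ∀ a, a < 128 → act σ a = act τ a) : σ = τ := by
  have h1 : τ⁻¹ * σ = 1 := eq_one_of_fix (mul_mem (inv_mem hτ) hσ) lowD_cover fun d hd => by
    have hd' : d < 128 := List.mem_range.1 (List.mem_filter.1 hd).1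
    rw [act_mul (inv_mem hτ), h d hd', act_inv_act hτ (by omega)]
  exact (inv_mul_eq_one.1 h1).symm

theorem xor_top_lt {a k : ℕ} (hb : ¬a < 2 ^ k) (ha : a < 2 ^ (k + 1)) : a ^^^ 2 ^ k < 2 ^ k := by
  refine Nat.lt_pow_two_of_testBit _ fun i hi => ?_
  rw [Nat.testBit_xor, Nat.testBit_two_pow]
  rcases eq_or_lt_of_le hi with rfl | hi'
  · have h1 : a / 2 ^ k = 1 := by
      rw [pow_succ] at ha
      exact Nat.div_eq_of_lt_le (by omega) (by omega)
    rw [Nat.testBit_eq_decide_div_mod_eq, h1]; simp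
  · rw [Nat.testBit_eq_false_of_lt (lt_of_lt_of_le ha (Nat.pow_le_pow_right (by norm_num) hi')), decide_eq_false (by omega)]
    rfl

/-- Agreement on the unit vectors gives agreement on their span. -/
theorem act_eq_of_units {σ τ : Equiv.Perm GolayPt} :
    ∀ k, k ≤ 11 → (∀ i, i < k → act σ (2 ^ i) = act τ (2 ^ i)) → ∀ a, a < 2 ^ k → act σ a = act τ a
  | 0, _, _, a, ha => by
    obtain rfl : a = 0 := by omega
    rw [act_zero, act_zero]
  | k + 1, hk, h, a, ha => by
    have ih := act_eq_of_units k (by omega) (fun i hi => h i (by omega))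
    by_cases hb : a < 2 ^ k
    · exact ih a hb
    · have e : a = (a ^^^ 2 ^ k) ^^^ 2 ^ k := by rw [Nat.xor_assoc, Nat.xor_self, Nat.xor_zero]
      obtain ⟨r, hr, rfl⟩ : ∃ r, r < 2 ^ k ∧ a = r ^^^ 2 ^ k := ⟨_, xor_top_lt hb ha, e⟩
      rw [act_xor, act_xor, ih r hr, h k (by omega)]

variable {G : Type u} [Group G] {z : G} {T : Todd G z} {S : Split56 G z T}

namespace Second

variable (R : Second S)

theorem low_lt {a : ℕ} (ha : a < 128) : a < 2048 := by omega

/-- Sending a pair element into the subgroup onto a pair element normalises. -/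
theorem norm_of_conj {k : G} {a b : ℕ} (ha : a < 2048) (hb : b < 2048) (hDa : isD a = true) (hDb : isD b = true)
    (h : k * R.T2.el a * k⁻¹ = R.T2.el b) : k ∈ normalizer (R.T2.V : Set G) := by
  refine R.T2.uniq k fun v hv => R.centD b hb hDb (mem_centralizer_singleton_iff.2 ?_)
  obtain ⟨c, hc, rfl⟩ := (R.T2.mem_V v).1 hv
  rw [← h]
  calc k * R.T2.el c * k⁻¹ * (k * R.T2.el a * k⁻¹) = k * (R.T2.el c * R.T2.el a) * k⁻¹ := by group
    _ = k * (R.T2.el a * R.T2.el c) * k⁻¹ := by rw [R.T2.el_comm hc ha]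
    _ = k * R.T2.el a * k⁻¹ * (k * R.T2.el c * k⁻¹) := by group

/-- Conjugation is determined by the first seven unit vectors. -/
theorem conj_el {k : G} {τ : Equiv.Perm GolayPt} (hτ : τ ∈ Cfsg.M24) (hlow : ∀ a, a < 128 → act τ a < 128)
    (h : ∀ i, i < 7 → k * R.T2.el (2 ^ i) * k⁻¹ = R.T2.el (act τ (2 ^ i))) :
    ∀ a, a < 2048 → k * R.T2.el a * k⁻¹ = R.T2.el (act τ a) := by
  have h1 : (2 : ℕ) < 2048 := by norm_num
  have hN : k ∈ normalizer (R.T2.V : Set G) :=
    R.norm_of_conj h1 (act_lt τ 2) isD_two (by rw [isD_act hτ h1]; exact isD_two) (h 1 (by norm_num))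
  have hρ : (R.T2.ρ ⟨k, hN⟩ : Equiv.Perm GolayPt) = τ := by
    refine act_low_inj (R.T2.ρ ⟨k, hN⟩).2 hτ fun a ha => ?_
    refine act_eq_of_units 7 (by norm_num) (fun i hi => ?_) a ha
    have h2 : 2 ^ i < 2048 := lt_of_lt_of_le (Nat.pow_lt_pow_right (by norm_num) hi) (by norm_num)
    exact R.T2.el_inj _ (act_lt _ _) _ (act_lt _ _) ((R.T2.ρ_spec ⟨k, hN⟩ _ h2).symm.trans (h i hi))
  intro a ha
  have h2 := R.T2.ρ_spec ⟨k, hN⟩ a ha
  rw [hρ] at h2
  exact h2

theorem el_low {a : ℕ} (ha : a < 128) : R.T2.el a = T.el (a % 2) * kk S (wP a) := by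
  rw [R.low a ha]
  rcases Nat.mod_two_eq_zero_or_one a with e | e <;> rw [e]
  · rw [pow_zero, T.el_zero]
  · rw [pow_one, T.el_z]

end Second

variable (S)

theorem kl_mem {l : List ℕ} (h : Golay.inM24 l = true) : kl S l ∈ S.K := kk_mem S (Golay.toPerm_mem_M24 h)

theorem kl_conj_el {l : List ℕ} (h : Golay.inM24 l = true) {a : ℕ} (ha : a < 2048) :
    kl S l * T.el a * (kl S l)⁻¹ = T.el (actL l a) := by
  rw [← act_toPerm (Golay.inM24.valid h)]
  exact kk_conj_el S (Golay.toPerm_mem_M24 h) ha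

theorem kl_comp {l m : List ℕ} (hl : Golay.inM24 l = true) (hm : Golay.inM24 m = true)
    (h : Golay.validList (Golay.compList l m) = true) : kl S (Golay.compList l m) = kl S l * kl S m := by
  rw [kl, Golay.toPerm_mul (Golay.inM24.valid hl) (Golay.inM24.valid hm) h,
    kk_mul S (Golay.toPerm_mem_M24 hl) (Golay.toPerm_mem_M24 hm)]
  rfl

/-- The translation numbered by `a`. -/
def wl (a : ℕ) : List ℕ := wList.getD (a / 2) []

theorem wl_ok : ∀ a < 128, Golay.inM24 (wl a) = true := by decide +kernel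

/-- A list for the action on the second subgroup of the member of the complement given by a list. -/
def thetaOK (l m : List ℕ) : Bool :=
  Golay.inM24 l && Golay.inM24 m && actL l 1 == 1 && (List.range 7).all fun i =>
    decide (actL m (2 ^ i) < 128) && decide (actL m (2 ^ i) % 2 = 2 ^ i % 2) &&
      Golay.compList l (wl (2 ^ i)) == Golay.compList (wl (actL m (2 ^ i))) l &&
      Golay.validList (Golay.compList l (wl (2 ^ i)))

/-- A list for the action on the second subgroup of the member of the first numbered by `c`. -/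
def theta0OK (c : ℕ) (m : List ℕ) : Bool :=
  decide (c < 128) && Golay.inM24 m && (List.range 7).all fun i =>
    decide (actL m (2 ^ i) < 128) && decide (wl (actL m (2 ^ i)) = wl (2 ^ i)) &&
      decide (actL (wl (2 ^ i)) c ^^^ c = actL m (2 ^ i) % 2 ^^^ 2 ^ i % 2)

theorem low_of_units {m : List ℕ} (hm : Golay.inM24 m = true) (h : ∀ i, i < 7 → actL m (2 ^ i) < 128) :
    ∀ k, k ≤ 7 → ∀ a, a < 2 ^ k → act (Golay.toPerm m) a < 128
  | 0, _, a, ha => by
    obtain rfl : a = 0 := by omega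
    rw [act_zero]; norm_num
  | k + 1, hk, a, ha => by
    have ih := low_of_units hm h k (by omega)
    by_cases hb : a < 2 ^ k
    · exact ih a hb
    · have e : a = (a ^^^ 2 ^ k) ^^^ 2 ^ k := by rw [Nat.xor_assoc, Nat.xor_self, Nat.xor_zero]
      have hlt : a ^^^ 2 ^ k < 2 ^ k := xor_top_lt hb ha
      rw [e, act_xor, act_toPerm (Golay.inM24.valid hm) (2 ^ k)]
      exact Nat.xor_lt_two_pow (n := 7) (ih _ hlt) (h k (by omega))

variable {S}

theorem theta {R : Second S} {l m : List ℕ} (h : thetaOK l m = true) {a : ℕ} (ha : a < 2048) :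
    kl S l * R.T2.el a * (kl S l)⁻¹ = R.T2.el (actL m a) := by
  simp only [thetaOK, Bool.and_eq_true, beq_iff_eq, List.all_eq_true, List.mem_range, decide_eq_true_eq] at h
  obtain ⟨⟨⟨hl, hm⟩, h1⟩, hu⟩ := h
  have hmv := Golay.inM24.valid hm
  rw [← act_toPerm hmv]
  refine R.conj_el (Golay.toPerm_mem_M24 hm)
    (fun a ha => low_of_units hm (fun i hi => (hu i hi).1.1.1) 7 le_rfl a ha) (fun i hi => ?_) a ha
  obtain ⟨⟨⟨hlt, hpar⟩, hcomp⟩, hval⟩ := hu i hi
  have h2 : 2 ^ i < 128 := Nat.pow_lt_pow_right (by norm_num) hi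
  rw [act_toPerm hmv, R.el_low h2, R.el_low hlt, hpar]
  have e : kl S l * T.el (2 ^ i % 2) * (kl S l)⁻¹ = T.el (2 ^ i % 2) := by
    rw [kl_conj_el S hl (by omega)]
    rcases Nat.mod_two_eq_zero_or_one (2 ^ i) with e | e <;> rw [e]
    · rw [← act_toPerm (Golay.inM24.valid hl), act_zero]
    · rw [h1]
  have e2 : kl S l * kk S (wP (2 ^ i)) = kk S (wP (actL m (2 ^ i))) * kl S l := by
    show kl S l * kl S (wl (2 ^ i)) = kl S (wl (actL m (2 ^ i))) * kl S l
    rw [← kl_comp S hl (wl_ok _ h2) hval, hcomp, kl_comp S (wl_ok _ hlt) hl (hcomp ▸ hval)]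
  calc kl S l * (T.el (2 ^ i % 2) * kk S (wP (2 ^ i))) * (kl S l)⁻¹
      = kl S l * T.el (2 ^ i % 2) * (kl S l)⁻¹ * (kl S l * kk S (wP (2 ^ i))) * (kl S l)⁻¹ := by group
    _ = T.el (2 ^ i % 2) * kk S (wP (actL m (2 ^ i))) := by rw [e, e2]; group

theorem theta0 {R : Second S} {c : ℕ} {m : List ℕ} (h : theta0OK c m = true) {a : ℕ} (ha : a < 2048) :
    T.el c * R.T2.el a * (T.el c)⁻¹ = R.T2.el (actL m a) := by
  simp only [theta0OK, Bool.and_eq_true, List.all_eq_true, List.mem_range, decide_eq_true_eq] at h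
  obtain ⟨⟨hc, hm⟩, hu⟩ := h
  have hmv := Golay.inM24.valid hm
  rw [← act_toPerm hmv]
  refine R.conj_el (Golay.toPerm_mem_M24 hm)
    (fun a ha => low_of_units hm (fun i hi => (hu i hi).1.1) 7 le_rfl a ha) (fun i hi => ?_) a ha
  obtain ⟨⟨hlt, hw⟩, hx⟩ := hu i hi
  have h2 : 2 ^ i < 128 := Nat.pow_lt_pow_right (by norm_num) hi
  have hc' : c < 2048 := by omega
  rw [act_toPerm hmv, R.el_low h2, R.el_low hlt, T.el_inv hc']
  show T.el c * (T.el (2 ^ i % 2) * kl S (wl (2 ^ i))) * T.el c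
    = T.el (actL m (2 ^ i) % 2) * kl S (wl (actL m (2 ^ i)))
  rw [hw]
  have hb : actL m (2 ^ i) % 2 = 2 ^ i % 2 ^^^ (actL (wl (2 ^ i)) c ^^^ c) := by
    rw [hx, Nat.xor_comm (actL m (2 ^ i) % 2), ← Nat.xor_assoc, Nat.xor_self, Nat.zero_xor]
  have hwc : actL (wl (2 ^ i)) c < 2048 := by
    rw [← act_toPerm (Golay.inM24.valid (wl_ok _ h2))]; exact act_lt _ _
  rw [hb, T.el_xor _ (by omega) _ (xor_lt hwc hc'), T.el_xor _ hwc _ hc', ← kl_conj_el S (wl_ok _ h2) hc']
  have := T.el_comm hc' (show 2 ^ i % 2 < 2048 by omega)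
  calc T.el c * (T.el (2 ^ i % 2) * kl S (wl (2 ^ i))) * T.el c
      = T.el (2 ^ i % 2) * T.el c * kl S (wl (2 ^ i)) * T.el c := by rw [← mul_assoc, this]
    _ = T.el (2 ^ i % 2) * (T.el c * (kl S (wl (2 ^ i)) * T.el c * (kl S (wl (2 ^ i)))⁻¹)) * kl S (wl (2 ^ i)) := by
        group
    _ = _ := by
        rw [kl_conj_el S (wl_ok _ h2) hc', T.el_comm hc' hwc]

end Cfsg.Agent.Lib.J4Iso59
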