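import Cfsg.Agent.Lib.J4Iso59.Coord

/-! Words in the generators of the trio stabiliser, one for each image of the first point and some fixing it. -/

set_option autoImplicit false

namespace Cfsg.Agent.Lib.J4Iso59

/-- The words. -/
def centWords : List (List Bool) := [
  [],
  [true, false, true],
  [true, true],
  [true, true, true, false, true],
  [true, false],
  [true, false, true, true, true],
  [false, true, false, true, false],
  [false, true, false, true, true, true],
  [true, true, false],
  [false, true, true, true],
  [false, true, true],
  [false, true, true, false, true],
  [false, true, true, true, false, true],
  [true, true, true],
  [true, false, true, true, false, true],
  [false],
  [false, true, false, true, true, false, true],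
  [true, false, true, false, true, false],
  [true],
  [false, true, false, true, false, true, false],
  [false, true],
  [true, true, false, true],
  [true, false, true, false],
  [false, true, false],
  [false, true, false, true, true]]

end Cfsg.Agent.Lib.J4Iso59
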