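import Cfsg.Agent.Lib.Golay.M24
import Cfsg.Agent.Lib.J4Iso59.Coord

/-!
# The two generators of the Janko presentation generate `M₂₄`

A straight-line programme from `qX`, `qY` reaching the translation, the inversion and the cube twist.
-/

set_option autoImplicit false
set_option maxRecDepth 20000

namespace Cfsg.Agent.Lib.J4Iso59

open Cfsg Cfsg.Agent.Lib

/-- The programme. -/
def genProg : List Golay.Step := [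
  (1, 1, false, [0, 3, 7, 16, 5, 21, 6, 14, 18, 10, 15, 11, 12, 13, 2, 9, 1, 17, 20, 23, 8, 4, 19, 22]),
  (0, 1, false, [9, 18, 15, 12, 22, 14, 19, 21, 3, 13, 7, 4, 16, 10, 1, 0, 2, 23, 8, 17, 20, 11, 6, 5]),
  (0, 1, false, [9, 12, 21, 2, 14, 11, 19, 1, 8, 7, 0, 4, 16, 10, 15, 13, 18, 23, 20, 5, 3, 22, 17, 6]),
  (0, 3, false, [13, 8, 0, 16, 6, 1, 17, 11, 12, 10, 21, 22, 2, 7, 18, 9, 15, 5, 3, 23, 20, 4, 19, 14]),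
  (0, 5, false, [13, 15, 18, 8, 4, 6, 17, 0, 20, 9, 10, 22, 2, 7, 11, 21, 16, 5, 12, 19, 3, 1, 14, 23]),
  (0, 5, false, [21, 20, 10, 2, 23, 0, 14, 6, 15, 7, 18, 1, 8, 9, 16, 13, 11, 19, 3, 5, 12, 22, 17, 4]),
  (0, 5, false, [21, 2, 6, 11, 0, 22, 14, 16, 3, 18, 13, 1, 8, 9, 10, 7, 20, 19, 12, 4, 15, 23, 5, 17]),
  (0, 7, false, [7, 3, 13, 8, 17, 16, 5, 22, 2, 9, 6, 23, 11, 18, 20, 21, 10, 4, 15, 19, 12, 1, 14, 0]),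
  (0, 7, false, [7, 8, 22, 10, 16, 1, 5, 20, 15, 6, 21, 23, 11, 18, 13, 9, 3, 4, 12, 0, 2, 17, 19, 14]),
  (0, 9, false, [9, 15, 21, 11, 14, 20, 19, 1, 8, 18, 22, 17, 10, 6, 3, 7, 13, 0, 2, 4, 12, 23, 5, 16]),
  (0, 9, false, [9, 11, 1, 13, 20, 23, 19, 3, 2, 22, 7, 17, 10, 6, 21, 18, 15, 0, 12, 16, 8, 14, 4, 5]),
  (0, 11, false, [18, 2, 7, 10, 5, 3, 4, 23, 11, 6, 1, 14, 13, 22, 15, 9, 21, 16, 8, 0, 12, 17, 19, 20]),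
  (0, 11, false, [18, 10, 23, 21, 3, 17, 4, 15, 8, 1, 9, 14, 13, 22, 7, 6, 2, 16, 12, 20, 11, 5, 0, 19]),
  (0, 13, false, [6, 8, 9, 13, 19, 15, 0, 17, 10, 22, 23, 5, 21, 1, 2, 18, 7, 20, 11, 16, 12, 14, 4, 3]),
  (0, 15, false, [6, 7, 2, 8, 14, 19, 0, 9, 12, 18, 22, 5, 21, 1, 17, 23, 13, 20, 10, 4, 11, 15, 3, 16]),
  (0, 15, false, [23, 12, 22, 21, 16, 9, 3, 19, 7, 1, 2, 15, 8, 18, 13, 6, 17, 4, 11, 20, 10, 5, 0, 14]),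
  (0, 15, false, [23, 21, 19, 17, 9, 5, 3, 13, 11, 2, 6, 15, 8, 18, 22, 1, 12, 4, 10, 14, 7, 16, 20, 0]),
  (0, 17, false, [1, 11, 6, 8, 0, 13, 20, 5, 21, 18, 19, 16, 17, 2, 12, 23, 22, 14, 7, 4, 10, 15, 3, 9]),
  (0, 19, false, [1, 22, 12, 11, 15, 0, 20, 6, 10, 23, 18, 16, 17, 2, 5, 19, 8, 14, 21, 3, 7, 13, 9, 4]),
  (0, 19, false, [19, 10, 18, 17, 4, 6, 9, 0, 22, 2, 12, 13, 11, 23, 8, 1, 5, 3, 7, 14, 21, 16, 20, 15]),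
  (0, 21, false, [19, 5, 8, 10, 16, 4, 9, 18, 21, 1, 2, 13, 11, 23, 0, 12, 17, 3, 22, 20, 7, 6, 15, 14]),
  (0, 21, false, [12, 21, 2, 11, 14, 18, 15, 4, 5, 23, 8, 6, 10, 1, 17, 19, 0, 20, 7, 3, 22, 13, 9, 16]),
  (0, 21, false, [12, 11, 4, 0, 18, 13, 15, 17, 7, 8, 19, 6, 10, 1, 2, 23, 21, 20, 22, 16, 5, 14, 3, 9]),
  (0, 23, false, [23, 7, 19, 10, 9, 17, 3, 13, 11, 1, 4, 14, 0, 8, 21, 12, 2, 16, 5, 20, 22, 6, 15, 18]),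
  (0, 23, false, [23, 10, 13, 2, 17, 6, 3, 21, 5, 4, 12, 14, 0, 8, 19, 1, 7, 16, 22, 18, 11, 9, 20, 15]),
  (0, 25, false, [1, 5, 12, 0, 15, 21, 20, 6, 10, 8, 13, 9, 2, 4, 7, 23, 19, 18, 11, 16, 22, 14, 3, 17]),
  (0, 25, false, [1, 0, 6, 19, 21, 14, 20, 7, 11, 13, 23, 9, 2, 4, 12, 8, 5, 18, 22, 17, 10, 15, 16, 3]),
  (0, 27, false, [8, 11, 23, 2, 3, 7, 16, 14, 0, 4, 6, 15, 19, 13, 5, 1, 12, 17, 10, 18, 22, 9, 20, 21]),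
  (0, 29, false, [8, 12, 5, 11, 9, 3, 16, 23, 22, 1, 4, 15, 19, 13, 14, 6, 2, 17, 0, 20, 10, 7, 21, 18]),
  (0, 29, false, [6, 22, 4, 19, 18, 23, 21, 3, 12, 13, 5, 7, 11, 1, 2, 8, 14, 20, 10, 17, 0, 15, 16, 9]),
  (0, 31, false, [6, 14, 2, 22, 15, 18, 21, 4, 0, 8, 13, 7, 11, 1, 3, 5, 19, 20, 12, 16, 10, 23, 9, 17]),
  (0, 31, false, [5, 0, 13, 11, 17, 4, 9, 18, 14, 1, 2, 23, 22, 8, 19, 6, 3, 16, 10, 20, 12, 7, 21, 15]),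
  (0, 33, false, [5, 3, 19, 0, 7, 17, 9, 13, 12, 6, 1, 23, 22, 8, 18, 2, 11, 16, 14, 21, 10, 4, 15, 20]),
  (0, 33, false, [2, 12, 1, 22, 20, 13, 15, 17, 3, 8, 19, 4, 0, 6, 11, 5, 18, 21, 10, 16, 14, 23, 9, 7]),
  (0, 33, false, [2, 22, 17, 18, 13, 23, 15, 11, 10, 19, 5, 4, 0, 6, 1, 8, 12, 21, 14, 7, 3, 20, 16, 9]),
  (0, 35, false, [8, 10, 5, 0, 9, 11, 16, 23, 22, 6, 17, 20, 18, 19, 12, 2, 1, 7, 3, 21, 14, 4, 15, 13]),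
  (0, 35, false, [8, 0, 23, 1, 11, 4, 16, 12, 3, 17, 2, 20, 18, 19, 5, 6, 10, 7, 14, 13, 22, 9, 21, 15]),
  (0, 37, false, [6, 3, 2, 18, 15, 12, 21, 4, 0, 19, 23, 9, 1, 17, 10, 8, 5, 13, 22, 7, 14, 20, 16, 11]),
  (0, 37, false, [6, 18, 4, 5, 12, 20, 21, 10, 22, 23, 8, 9, 1, 17, 2, 19, 3, 13, 14, 11, 0, 15, 7, 16]),
  (0, 39, false, [19, 22, 8, 1, 16, 10, 7, 20, 18, 17, 4, 15, 5, 23, 3, 6, 2, 11, 0, 13, 14, 9, 21, 12]),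
  (0, 39, false, [19, 1, 20, 2, 10, 9, 7, 3, 0, 4, 6, 15, 5, 23, 8, 17, 22, 11, 14, 12, 18, 16, 13, 21]),
  (0, 41, false, [17, 0, 6, 5, 21, 3, 13, 9, 1, 23, 20, 16, 2, 4, 22, 19, 8, 12, 18, 11, 14, 15, 7, 10]),
  (0, 41, false, [17, 5, 9, 8, 3, 15, 13, 22, 18, 20, 19, 16, 2, 4, 6, 23, 0, 12, 14, 10, 1, 21, 11, 7]),
  (0, 43, false, [23, 18, 19, 2, 7, 22, 11, 15, 5, 4, 9, 21, 8, 20, 0, 17, 6, 10, 1, 12, 14, 16, 13, 3]),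
  (0, 43, false, [23, 2, 15, 6, 22, 16, 11, 0, 1, 9, 17, 21, 8, 20, 19, 4, 18, 10, 14, 3, 5, 7, 12, 13]),
  (0, 45, false, [4, 1, 17, 8, 13, 0, 12, 16, 2, 20, 15, 7, 6, 9, 18, 23, 19, 3, 5, 10, 14, 21, 11, 22]),
  (0, 45, false, [4, 8, 16, 19, 0, 21, 12, 18, 5, 15, 23, 7, 6, 9, 17, 20, 1, 3, 14, 22, 2, 13, 10, 11]),
  (0, 47, false, [20, 5, 23, 6, 11, 18, 10, 21, 8, 9, 16, 13, 19, 15, 1, 4, 17, 22, 2, 3, 14, 7, 12, 0]),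
  (0, 49, false, [20, 17, 1, 5, 7, 11, 10, 23, 14, 4, 9, 13, 19, 15, 21, 16, 6, 22, 8, 12, 2, 18, 0, 3]),
  (0, 49, false, [16, 14, 9, 19, 3, 23, 0, 11, 17, 15, 1, 18, 5, 4, 6, 20, 21, 12, 2, 22, 8, 13, 10, 7]),
  (0, 49, false, [16, 19, 11, 21, 23, 13, 0, 6, 2, 1, 20, 18, 5, 4, 9, 15, 14, 12, 8, 7, 17, 3, 22, 10]),
  (0, 51, false, [15, 2, 20, 5, 10, 6, 22, 13, 19, 4, 11, 3, 21, 1, 14, 16, 9, 7, 17, 12, 8, 18, 0, 23]),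
  (0, 53, false, [15, 9, 14, 2, 18, 10, 22, 20, 8, 16, 4, 3, 21, 1, 13, 11, 5, 7, 19, 0, 17, 6, 23, 12]),
  (0, 53, false, [11, 8, 4, 21, 12, 20, 23, 10, 9, 1, 14, 6, 2, 16, 5, 15, 13, 0, 17, 7, 19, 3, 22, 18]),
  (0, 53, false, [11, 21, 10, 13, 20, 3, 23, 5, 17, 14, 15, 6, 2, 16, 4, 1, 8, 0, 19, 18, 9, 12, 7, 22]),
  (0, 55, false, [1, 17, 15, 2, 22, 5, 7, 3, 21, 16, 10, 12, 13, 14, 8, 11, 4, 18, 9, 0, 19, 6, 23, 20]),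
  (0, 55, false, [1, 2, 3, 4, 5, 6, 7, 8, 9, 10, 11, 12, 13, 14, 15, 16, 17, 18, 19, 20, 21, 22, 0, 23]),
  (57, 58, false, [15, 14, 16, 8, 11, 23, 22, 10, 18, 0, 13, 21, 3, 9, 5, 2, 12, 19, 1, 6, 20, 7, 4, 17]),
  (0, 58, false, [2, 18, 13, 3, 17, 10, 4, 23, 14, 9, 16, 7, 8, 0, 12, 15, 5, 6, 20, 19, 1, 21, 22, 11]),
  (0, 58, false, [2, 3, 23, 5, 10, 21, 4, 12, 20, 16, 15, 7, 8, 0, 13, 9, 18, 6, 1, 11, 14, 17, 19, 22]),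
  (0, 60, false, [9, 20, 15, 8, 22, 12, 19, 21, 3, 0, 23, 17, 5, 16, 18, 2, 13, 11, 14, 6, 1, 7, 4, 10]),
  (0, 60, false, [9, 8, 21, 13, 12, 7, 19, 18, 14, 23, 2, 17, 5, 16, 15, 0, 20, 11, 1, 10, 3, 22, 6, 4]),
  (0, 62, false, [0, 14, 2, 5, 4, 18, 6, 7, 8, 16, 21, 22, 13, 23, 20, 9, 15, 10, 3, 11, 1, 17, 19, 12]),
  (0, 64, false, [0, 15, 20, 14, 17, 4, 6, 2, 1, 9, 16, 22, 13, 23, 7, 21, 5, 10, 8, 19, 3, 18, 12, 11]),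
  (0, 64, false, [21, 1, 16, 13, 11, 2, 12, 4, 15, 23, 20, 18, 14, 9, 5, 0, 7, 19, 3, 10, 8, 22, 6, 17]),
  (0, 66, false, [21, 7, 5, 1, 22, 11, 12, 16, 8, 0, 23, 18, 14, 9, 4, 20, 13, 19, 15, 6, 3, 2, 17, 10]),
  (0, 66, false, [20, 8, 23, 14, 10, 16, 17, 11, 7, 9, 5, 2, 1, 0, 13, 21, 4, 6, 3, 19, 15, 18, 12, 22]),
  (0, 66, false, [20, 14, 11, 4, 16, 18, 17, 13, 3, 5, 21, 2, 1, 0, 23, 9, 8, 6, 15, 22, 7, 10, 19, 12]),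
  (0, 68, false, [9, 3, 21, 1, 12, 13, 19, 18, 14, 0, 11, 10, 4, 5, 8, 20, 23, 22, 7, 6, 15, 2, 17, 16]),
  (0, 70, false, [9, 23, 8, 3, 2, 12, 19, 21, 15, 20, 0, 10, 4, 5, 18, 11, 1, 22, 14, 17, 7, 13, 16, 6]),
  (0, 70, false, [11, 15, 0, 4, 6, 21, 16, 12, 23, 5, 8, 13, 3, 20, 1, 9, 18, 17, 7, 22, 14, 10, 19, 2]),
  (0, 72, false, [11, 18, 1, 15, 10, 6, 16, 0, 14, 9, 5, 13, 3, 20, 12, 8, 4, 17, 23, 19, 7, 21, 2, 22]),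
  (0, 72, false, [8, 14, 5, 3, 22, 0, 2, 6, 18, 20, 1, 21, 15, 9, 4, 11, 12, 19, 7, 17, 23, 13, 16, 10]),
  (0, 74, false, [8, 12, 4, 14, 13, 22, 2, 5, 23, 11, 20, 21, 15, 9, 6, 1, 3, 19, 18, 16, 7, 0, 10, 17]),
  (0, 74, false, [1, 23, 20, 15, 17, 5, 10, 22, 12, 9, 4, 0, 14, 11, 3, 8, 6, 16, 7, 19, 18, 21, 2, 13]),
  (0, 76, false, [1, 6, 3, 23, 21, 17, 10, 20, 18, 8, 9, 0, 14, 11, 22, 4, 15, 16, 12, 2, 7, 5, 13, 19]),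
  (0, 76, false, [4, 18, 9, 14, 19, 20, 13, 17, 6, 11, 3, 5, 23, 8, 15, 1, 22, 2, 7, 16, 12, 0, 10, 21]),
  (0, 78, false, [4, 22, 15, 18, 0, 19, 13, 9, 12, 1, 11, 5, 23, 8, 17, 3, 14, 2, 6, 10, 7, 20, 21, 16]),
  (0, 78, false, [3, 12, 11, 23, 16, 9, 21, 19, 22, 8, 15, 20, 18, 1, 14, 4, 17, 10, 7, 2, 6, 5, 13, 0]),
  (0, 78, false, [3, 23, 19, 17, 9, 5, 21, 14, 7, 15, 4, 20, 18, 1, 11, 8, 12, 10, 6, 0, 22, 16, 2, 13]),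
  (0, 80, false, [8, 7, 4, 18, 13, 14, 2, 5, 23, 1, 19, 16, 17, 15, 12, 3, 11, 0, 22, 10, 6, 20, 21, 9]),
  (0, 80, false, [8, 18, 5, 11, 14, 20, 2, 12, 22, 19, 3, 16, 17, 15, 4, 1, 7, 0, 6, 9, 23, 13, 10, 21]),
  (0, 82, false, [1, 22, 3, 17, 21, 12, 10, 20, 18, 15, 5, 13, 11, 19, 7, 8, 4, 9, 23, 0, 6, 16, 2, 14]),
  (0, 82, false, [1, 17, 20, 4, 12, 16, 10, 7, 23, 5, 8, 13, 11, 19, 3, 15, 22, 9, 6, 14, 18, 21, 0, 2]),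
  (0, 84, false, [15, 23, 8, 11, 2, 7, 0, 16, 17, 19, 20, 21, 4, 5, 22, 1, 3, 14, 18, 9, 6, 13, 10, 12]),
  (0, 86, false, [15, 3, 22, 23, 13, 2, 0, 8, 6, 1, 19, 21, 4, 5, 16, 20, 11, 14, 17, 10, 18, 7, 12, 9]),
  (0, 86, false, [20, 6, 19, 4, 9, 8, 12, 2, 3, 5, 22, 7, 23, 1, 11, 15, 16, 10, 18, 14, 17, 21, 0, 13]),
  (0, 88, false, [20, 16, 11, 6, 21, 9, 12, 19, 17, 15, 5, 7, 23, 1, 2, 22, 4, 10, 3, 0, 18, 8, 13, 14]),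
  (0, 88, false, [22, 17, 5, 23, 14, 19, 13, 9, 16, 1, 11, 8, 6, 15, 4, 20, 2, 0, 18, 10, 3, 7, 12, 21]),
  (0, 90, false, [22, 2, 4, 17, 7, 14, 13, 5, 3, 20, 1, 8, 6, 15, 9, 11, 23, 0, 16, 12, 18, 19, 21, 10]),
  (0, 90, false, [11, 3, 1, 6, 10, 5, 21, 14, 2, 15, 4, 19, 17, 20, 23, 22, 9, 12, 18, 0, 16, 8, 13, 7]),
  (0, 90, false, [11, 6, 14, 9, 5, 8, 21, 23, 18, 4, 22, 19, 17, 20, 1, 15, 3, 12, 16, 7, 2, 10, 0, 13]),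
  (0, 92, false, [15, 18, 22, 17, 13, 23, 0, 8, 6, 20, 14, 10, 9, 4, 3, 11, 1, 7, 2, 12, 16, 19, 21, 5]),
  (0, 92, false, [15, 17, 8, 1, 23, 19, 0, 3, 2, 14, 11, 10, 9, 4, 22, 20, 18, 7, 16, 5, 6, 13, 12, 21]),
  (0, 94, false, [20, 2, 11, 9, 21, 3, 12, 19, 17, 4, 8, 13, 1, 14, 18, 15, 22, 5, 6, 7, 16, 10, 0, 23]),
  (0, 96, false, [20, 22, 18, 2, 10, 21, 12, 11, 16, 15, 4, 13, 1, 14, 19, 8, 9, 5, 17, 0, 6, 3, 23, 7]),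
  (0, 96, false, [8, 16, 4, 1, 7, 11, 23, 21, 22, 14, 18, 3, 2, 15, 9, 20, 19, 0, 6, 5, 17, 13, 12, 10]),
  (0, 98, false, [8, 19, 9, 16, 13, 7, 23, 4, 17, 20, 14, 3, 2, 15, 21, 18, 1, 0, 22, 12, 6, 11, 10, 5]),
  (0, 98, false, [18, 17, 14, 2, 5, 4, 10, 7, 19, 15, 9, 11, 16, 20, 1, 8, 21, 12, 6, 0, 22, 3, 23, 13]),
  (0, 98, false, [18, 2, 7, 21, 4, 3, 10, 1, 6, 9, 8, 11, 16, 20, 14, 15, 17, 12, 22, 13, 19, 5, 0, 23]),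
  (0, 100, false, [15, 6, 8, 16, 23, 1, 0, 3, 2, 20, 7, 5, 21, 9, 17, 18, 14, 13, 19, 12, 22, 11, 10, 4]),
  (0, 100, false, [15, 16, 3, 14, 1, 11, 0, 17, 19, 7, 18, 5, 21, 9, 8, 20, 6, 13, 22, 4, 2, 23, 12, 10]),
  (0, 102, false, [20, 19, 18, 21, 10, 17, 12, 11, 16, 9, 3, 23, 14, 7, 6, 15, 8, 4, 2, 13, 22, 5, 0, 1]),
  (0, 102, false, [20, 21, 11, 8, 17, 5, 12, 6, 2, 3, 15, 23, 14, 7, 18, 9, 19, 4, 22, 1, 16, 10, 13, 0]),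
  (0, 104, false, [9, 2, 15, 14, 0, 6, 13, 5, 21, 7, 11, 10, 8, 3, 19, 20, 18, 1, 16, 4, 22, 23, 12, 17]),
  (0, 104, false, [9, 14, 5, 18, 6, 23, 13, 19, 16, 11, 20, 10, 8, 3, 15, 7, 2, 1, 22, 17, 21, 0, 4, 12]),
  (0, 106, false, [7, 16, 20, 8, 12, 19, 4, 23, 14, 3, 5, 0, 18, 11, 2, 9, 15, 17, 21, 1, 22, 10, 13, 6]),
  (0, 106, false, [7, 8, 23, 15, 19, 10, 4, 2, 21, 5, 9, 0, 18, 11, 20, 3, 16, 17, 22, 6, 14, 12, 1, 13]),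
  (0, 108, false, [3, 21, 9, 18, 13, 2, 1, 10, 8, 11, 23, 12, 15, 5, 16, 7, 20, 6, 14, 17, 22, 0, 4, 19]),
  (0, 110, false, [3, 20, 16, 21, 0, 13, 1, 9, 22, 7, 11, 12, 15, 5, 10, 23, 18, 6, 8, 4, 14, 2, 19, 17]),
  (0, 110, false, [23, 22, 11, 15, 17, 9, 19, 13, 20, 5, 16, 2, 21, 7, 18, 3, 10, 4, 14, 6, 8, 12, 1, 0]),
  (105, 112, false, [21, 11, 16, 20, 22, 23, 14, 10, 12, 13, 7, 1, 8, 9, 6, 18, 2, 19, 15, 17, 3, 0, 4, 5]),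
  (0, 112, false, [18, 12, 7, 8, 5, 10, 4, 23, 11, 9, 16, 0, 20, 13, 2, 21, 6, 17, 3, 19, 15, 1, 14, 22]),
  (0, 112, false, [18, 8, 23, 6, 10, 1, 4, 2, 3, 16, 21, 0, 20, 13, 7, 9, 12, 17, 15, 22, 11, 5, 19, 14]),
  (0, 114, false, [9, 3, 21, 20, 14, 2, 19, 1, 8, 13, 23, 5, 6, 16, 12, 18, 7, 22, 11, 17, 15, 0, 4, 10]),
  (0, 114, false, [9, 20, 1, 7, 2, 0, 19, 12, 11, 23, 18, 5, 6, 16, 21, 13, 3, 22, 15, 10, 8, 14, 17, 4]),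
  (0, 116, false, [13, 11, 18, 6, 4, 12, 17, 0, 20, 16, 1, 14, 7, 23, 3, 9, 21, 10, 8, 22, 15, 5, 19, 2]),
  (0, 118, false, [13, 21, 3, 11, 5, 4, 17, 18, 15, 9, 16, 14, 7, 23, 0, 1, 6, 10, 20, 19, 8, 12, 2, 22]),
  (0, 118, false, [1, 15, 16, 7, 22, 18, 2, 4, 21, 23, 3, 12, 11, 9, 6, 13, 0, 19, 8, 10, 20, 14, 17, 5]),
  (0, 120, false, [1, 0, 6, 15, 14, 22, 2, 16, 20, 13, 23, 12, 11, 9, 4, 3, 7, 19, 21, 17, 8, 18, 5, 10]),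
  (0, 120, false, [3, 20, 23, 11, 10, 16, 5, 22, 0, 9, 6, 18, 15, 13, 7, 1, 4, 17, 8, 19, 21, 12, 2, 14]),
  (0, 122, false, [3, 4, 7, 20, 12, 10, 5, 23, 21, 1, 9, 18, 15, 13, 22, 6, 11, 17, 0, 2, 8, 16, 14, 19]),
  (0, 122, false, [6, 21, 9, 15, 19, 23, 14, 10, 4, 13, 7, 16, 20, 1, 11, 3, 22, 2, 8, 17, 0, 18, 5, 12]),
  (0, 124, false, [6, 22, 11, 21, 18, 19, 14, 9, 0, 3, 13, 16, 20, 1, 10, 7, 15, 2, 4, 5, 8, 23, 12, 17]),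
  (0, 124, false, [7, 0, 13, 20, 17, 9, 12, 19, 22, 1, 11, 23, 21, 3, 15, 6, 10, 5, 8, 2, 4, 16, 14, 18]),
  (0, 124, false, [7, 20, 19, 10, 9, 16, 12, 15, 8, 11, 6, 23, 21, 3, 13, 1, 0, 5, 4, 18, 22, 17, 2, 14]),
  (0, 126, false, [1, 8, 6, 21, 14, 15, 2, 16, 20, 3, 19, 17, 10, 11, 0, 7, 13, 18, 22, 5, 4, 23, 12, 9]),
  (0, 126, false, [1, 21, 16, 13, 15, 23, 2, 0, 22, 19, 7, 17, 10, 11, 6, 3, 8, 18, 4, 9, 20, 14, 5, 12]),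
  (0, 128, false, [3, 22, 7, 10, 12, 0, 5, 23, 21, 11, 16, 14, 13, 19, 8, 1, 6, 9, 20, 18, 4, 17, 2, 15]),
  (0, 130, false, [3, 6, 8, 22, 17, 12, 5, 7, 4, 1, 11, 14, 13, 19, 23, 16, 10, 9, 21, 2, 20, 0, 15, 18]),
  (0, 130, false, [16, 4, 11, 13, 18, 7, 15, 12, 6, 19, 8, 0, 22, 1, 10, 3, 23, 2, 20, 9, 21, 14, 5, 17]),
  (0, 130, false, [16, 13, 12, 23, 7, 14, 15, 10, 20, 8, 3, 0, 22, 1, 11, 19, 4, 2, 21, 17, 6, 18, 9, 5]),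
  (0, 132, false, [19, 20, 3, 22, 5, 10, 9, 14, 13, 1, 12, 18, 23, 8, 4, 16, 11, 17, 6, 2, 21, 0, 15, 7]),
  (0, 134, false, [19, 11, 4, 20, 0, 5, 9, 3, 21, 16, 1, 18, 23, 8, 14, 12, 22, 17, 13, 15, 6, 10, 7, 2]),
  (0, 134, false, [12, 21, 1, 23, 2, 3, 7, 5, 11, 8, 4, 10, 20, 16, 22, 19, 14, 15, 6, 17, 13, 18, 9, 0]),
  (0, 134, false, [12, 23, 5, 14, 3, 18, 7, 22, 6, 4, 19, 10, 20, 16, 1, 8, 21, 15, 13, 0, 11, 2, 17, 9]),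
  (0, 136, false, [8, 6, 19, 20, 9, 22, 17, 18, 23, 16, 5, 2, 14, 4, 21, 12, 1, 0, 11, 15, 13, 10, 7, 3]),
  (0, 136, false, [8, 20, 18, 1, 22, 10, 17, 21, 11, 5, 12, 2, 14, 4, 19, 16, 6, 0, 13, 3, 23, 9, 15, 7]),
  (0, 138, false, [16, 11, 12, 14, 7, 21, 15, 10, 20, 4, 18, 9, 1, 5, 6, 8, 19, 3, 23, 0, 13, 2, 17, 22]),
  (0, 138, false, [16, 14, 10, 19, 21, 2, 15, 6, 23, 18, 8, 9, 1, 5, 12, 4, 11, 3, 13, 22, 20, 7, 0, 17]),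
  (0, 140, false, [4, 23, 8, 1, 17, 6, 0, 2, 14, 5, 10, 7, 19, 18, 11, 16, 12, 22, 20, 3, 13, 9, 15, 21]),
  (0, 140, false, [4, 1, 2, 12, 6, 9, 0, 11, 20, 10, 16, 7, 19, 18, 8, 5, 23, 22, 13, 21, 14, 17, 3, 15]),
  (0, 142, false, [5, 20, 16, 19, 15, 11, 3, 9, 1, 18, 2, 17, 12, 10, 23, 4, 8, 21, 14, 22, 13, 7, 0, 6]),
  (0, 142, false, [5, 19, 9, 8, 11, 7, 3, 23, 14, 2, 4, 17, 12, 10, 16, 18, 20, 21, 13, 6, 1, 15, 22, 0]),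
  (0, 144, false, [18, 14, 4, 12, 0, 23, 22, 7, 19, 10, 9, 15, 8, 2, 20, 5, 16, 6, 1, 21, 13, 17, 3, 11]),
  (0, 144, false, [18, 12, 7, 16, 23, 17, 22, 20, 1, 9, 5, 15, 8, 2, 4, 10, 14, 6, 13, 11, 19, 0, 21, 3]),
  (0, 146, false, [10, 1, 5, 8, 3, 20, 21, 17, 12, 2, 7, 0, 16, 9, 14, 18, 4, 11, 19, 6, 13, 15, 22, 23]),
  (0, 146, false, [10, 8, 17, 4, 20, 15, 21, 14, 19, 7, 18, 0, 16, 9, 5, 2, 1, 11, 13, 23, 12, 3, 6, 22]),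
  (0, 148, false, [2, 19, 18, 16, 22, 14, 6, 15, 8, 9, 17, 3, 4, 7, 1, 10, 5, 23, 12, 11, 13, 0, 21, 20]),
  (0, 148, false, [2, 16, 15, 5, 14, 0, 6, 1, 12, 17, 10, 3, 4, 7, 18, 9, 19, 23, 13, 20, 8, 22, 11, 21]),
  (0, 150, false, [9, 12, 10, 4, 21, 1, 11, 0, 16, 7, 15, 22, 5, 17, 19, 2, 18, 20, 8, 23, 13, 3, 6, 14]),
  (0, 150, false, [9, 4, 0, 18, 1, 3, 11, 19, 8, 15, 2, 22, 5, 17, 10, 7, 12, 20, 13, 14, 16, 21, 23, 6]),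
  (0, 152, false, [7, 8, 2, 5, 6, 19, 23, 3, 4, 17, 0, 21, 18, 15, 12, 9, 10, 14, 16, 20, 13, 22, 11, 1]),
  (0, 154, false, [7, 10, 12, 8, 22, 6, 23, 2, 13, 9, 17, 21, 18, 15, 3, 0, 5, 14, 4, 11, 16, 19, 1, 20]),
  (0, 154, false, [0, 13, 17, 18, 20, 2, 1, 6, 10, 15, 12, 19, 8, 9, 5, 7, 3, 11, 16, 14, 4, 21, 23, 22]),
  (0, 154, false, [0, 18, 6, 3, 2, 21, 1, 5, 16, 12, 7, 19, 8, 9, 17, 15, 13, 11, 4, 22, 10, 20, 14, 23])]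

theorem genProg_ok : Golay.slpOK [qX, qY] genProg = true := by decide +kernel

theorem genProg_covers : (Golay.genLists.all fun t =>
    (Golay.slpEntries [qX, qY] genProg).contains t) = true := by decide +kernel

theorem gen : Subgroup.closure ({Golay.toPerm qX, Golay.toPerm qY} : Set (Equiv.Perm GolayPt)) = Cfsg.M24 := by
  have hv : Golay.validList qX = true ∧ Golay.validList qY = true := by decide +kernel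
  refine le_antisymm ((Subgroup.closure_le _).2 ?_) ?_
  · rintro g (rfl | rfl) <;> exact Golay.toPerm_mem_M24 (by decide +kernel)
  have key : ∀ w ∈ Golay.genLists, Golay.toPerm w ∈
      Subgroup.closure ({Golay.toPerm qX, Golay.toPerm qY} : Set (Equiv.Perm GolayPt)) := by
    intro w hw
    refine Golay.slp_sound genProg_ok ?_ w
      (List.contains_iff_mem.mp (List.all_eq_true.mp genProg_covers w hw))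
    intro u hu
    simp only [List.mem_cons, List.not_mem_nil, or_false] at hu
    rcases hu with rfl | rfl
    · exact ⟨hv.1, Subgroup.subset_closure (Or.inl rfl)⟩
    · exact ⟨hv.2, Subgroup.subset_closure (Or.inr rfl)⟩
  have key' : ∀ σ : Equiv.Perm GolayPt, Golay.imageList σ ∈ Golay.genLists →
      σ ∈ Subgroup.closure ({Golay.toPerm qX, Golay.toPerm qY} : Set (Equiv.Perm GolayPt)) := by
    intro σ hσ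
    have h := key _ hσ
    rwa [Golay.toPerm_imageList σ (List.all_eq_true.mp Golay.genLists_valid _ hσ)] at h
  conv_lhs => rw [← Golay.closure_generators]
  refine (Subgroup.closure_le _).2 ?_
  rintro g (rfl | rfl | rfl)
  · refine key' _ ?_
    have e : Golay.imageList (fun p => p.map (· + (1 : ZMod 23))) = Golay.imageList Golay.translate :=
      List.map_congr_left fun i _ => by
        show (Golay.idx ((Golay.pt i).map _)).val = (Golay.idx (Golay.translate (Golay.pt i))).val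
        cases Golay.pt i <;> rfl
    rw [← e]
    exact List.mem_cons_self
  · refine key' _ ?_
    show Golay.imageList projInvFun ∈ Golay.genLists
    exact List.mem_cons_of_mem _ List.mem_cons_self
  · refine key' _ ?_
    show Golay.imageList cubeTwistFun ∈ Golay.genLists
    exact List.mem_cons_of_mem _ (List.mem_cons_of_mem _ List.mem_cons_self)

end Cfsg.Agent.Lib.J4Iso59
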