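import Cfsg.Agent.Lib.J4Iso59.Basic
import Cfsg.Agent.Lib.J4Iso59.NormData

/-!
# The coordinates on the second subgroup can be chosen

The coordinates of the translations in the conjugate give a linear map on the numbers below 128 which keeps
the pair classes (counting: only the translations without fixed points give the 36 of them); a chain of
lists shows that such a map is induced by the stabiliser of the first sextet.
-/

set_option autoImplicit false

universe u

namespace Cfsg.Agent.Lib.J4Iso59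

open Cfsg Cfsg.Agent.Lib Cfsg.Agent.Lib.J4Two56 Subgroup

namespace Norm

/-- The numbers reached when one more number is adjoined. -/
def ext (S : List ℕ) (e : ℕ) : List ℕ := S ++ S.map (fun a => a ^^^ e)

/-- The test of one step. -/
def levelOK (S : List ℕ) (e : ℕ) (L : List (List ℕ)) : Bool :=
  decide (e < 128) && !(S.contains e) && (S.all fun a => decide (a < 128)) &&
  (L.all fun l => Golay.inM24 l && ((List.range 7).all fun k => decide (actL l (2 ^ k) < 128)) &&
    S.all fun a => actL l a == a) &&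
  (List.range 128).all fun v => S.contains v || (S.any fun a => isD (a ^^^ v) != isD (a ^^^ e)) ||
    L.any fun l => actL l v == e

/-- The test of the whole chain. -/
def chainOK : List ℕ → List (ℕ × List (List ℕ)) → Bool
  | S, [] => (List.range 128).all fun a => S.contains a
  | S, (e, L) :: r => levelOK S e L && chainOK (ext S e) r

theorem chain_check : chainOK [0, 1] nrmLevels = true := by decide +kernel

/-- A linear bijection of the numbers below 128 keeping the pair classes. -/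
structure Good (g : ℕ → ℕ) : Prop where
  lt : ∀ a, a < 128 → g a < 128
  lin : ∀ a, a < 128 → ∀ b, b < 128 → g (a ^^^ b) = g a ^^^ g b
  inj : ∀ a, a < 128 → ∀ b, b < 128 → g a = g b → a = b
  cls : ∀ a, a < 128 → isD (g a) = isD a

theorem xor128 {a b : ℕ} (ha : a < 128) (hb : b < 128) : a ^^^ b < 128 := Nat.xor_lt_two_pow (n := 7) ha hb

theorem chain_sound : ∀ (lv : List (ℕ × List (List ℕ))) (S : List ℕ) (g : ℕ → ℕ),
    chainOK S lv = true → Good g → (∀ a ∈ S, g a = a) →
      ∃ τ, τ ∈ Cfsg.M24 ∧ ∀ a, a < 128 → act τ (g a) = a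
  | [], S, g, h, hg, hS => by
    simp only [chainOK, List.all_eq_true, List.mem_range, List.contains_iff_mem] at h
    exact ⟨1, one_mem _, fun a ha => by rw [hS a (h a ha), act_one (by omega)]⟩
  | (e, L) :: r, S, g, h, hg, hS => by
    simp only [chainOK, levelOK, Bool.and_eq_true, decide_eq_true_eq, Bool.not_eq_true',
      List.all_eq_true, List.any_eq_true, List.mem_range, Bool.or_eq_true, beq_iff_eq,
      List.contains_iff_mem, bne_iff_ne, ne_eq, ← Bool.not_eq_true] at h
    obtain ⟨⟨⟨⟨⟨he, heS⟩, hlt⟩, hL⟩, hv⟩, hr⟩ := h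
    rcases hv (g e) (hg.lt e he) with (h1 | ⟨a, ha, h1⟩) | ⟨l, hl, h1⟩
    · exact absurd (hg.inj _ (hlt _ h1) _ he (hS _ h1) ▸ h1) heS
    · refine absurd ?_ h1
      have e1 : g (a ^^^ e) = a ^^^ g e := by rw [hg.lin a (hlt a ha) e he, hS a ha]
      rw [← hg.cls _ (xor128 (hlt a ha) he), e1]
    obtain ⟨⟨hm, hu⟩, hfix⟩ := hL l hl
    have hv' := Golay.inM24.valid hm
    have hσ := Golay.toPerm_mem_M24 hm
    have hlow : ∀ a, a < 128 → act (Golay.toPerm l) a < 128 :=
      fun a ha => low_of_units hm hu 7 le_rfl a ha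
    have hg' : Good (fun a => act (Golay.toPerm l) (g a)) :=
      { lt := fun a ha => hlow _ (hg.lt a ha)
        lin := fun a ha b hb => by rw [hg.lin a ha b hb, act_xor]
        inj := fun a ha b hb hab => hg.inj a ha b hb
          (act_injOn hσ (by have := hg.lt a ha; omega) (by have := hg.lt b hb; omega) hab)
        cls := fun a ha => by rw [isD_act hσ (by have := hg.lt a ha; omega), hg.cls a ha] }
    have hS' : ∀ a ∈ ext S e, act (Golay.toPerm l) (g a) = a := by
      intro a ha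
      have hf : ∀ b ∈ S, act (Golay.toPerm l) (g b) = b := fun b hb => by
        rw [hS b hb, act_toPerm hv', hfix b hb]
      rcases List.mem_append.1 ha with h2 | h2
      · exact hf a h2
      · obtain ⟨b, hb, rfl⟩ := List.mem_map.1 h2
        rw [hg.lin b (hlt b hb) e he, act_xor, hf b hb, act_toPerm hv' (g e), h1]
    obtain ⟨τ, hτ, hτa⟩ := chain_sound r _ _ hr hg' hS'
    exact ⟨τ * Golay.toPerm l, mul_mem hτ hσ, fun a ha => by rw [act_mul hτ, hτa a ha]⟩

/-- A linear bijection below 128 fixing 1 and keeping the pair classes is induced. -/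
theorem exists_of_good {g : ℕ → ℕ} (hg : Good g) (h1 : g 1 = 1) :
    ∃ τ, τ ∈ Cfsg.M24 ∧ ∀ a, a < 128 → act τ a = g a := by
  have h0 : g 0 = 0 := by
    have h := hg.lin 0 (by norm_num) 0 (by norm_num)
    simpa using h
  obtain ⟨τ, hτ, h⟩ := chain_sound nrmLevels [0, 1] g chain_check hg (by
    intro a ha
    fin_cases ha
    · exact h0
    · exact h1)
  refine ⟨τ⁻¹, inv_mem hτ, fun a ha => ?_⟩
  conv_lhs => rw [← h a ha]
  exact act_inv_act hτ (by have := hg.lt a ha; omega)

/-! ## The translations -/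

theorem wl_comp_check : ((List.range 64).all fun i => (List.range 6).all fun k =>
    Golay.compList (wl (2 * i)) (wl (2 * 2 ^ k)) == wl (2 * (i ^^^ 2 ^ k))) = true := by decide +kernel

theorem wl_move : ∀ a < 128, 2 ≤ a → ∃ i < 24, Golay.applyNum (wl a) i ≠ i := by decide +kernel

theorem wl_inWL : ∀ a < 128, inWL (wl a) = true := by decide +kernel

/-- The representative of the class of a number. -/
def repOf (a : ℕ) : ℕ := nrmRep.getD (nrmKind.getD (a / 2) 0) 0 + a % 2

/-- The member moving the representative onto a number. -/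
def conjOf (a : ℕ) : List ℕ := nrmConj.getD (a / 2) []

theorem conj_check : ∀ a < 128, 2 ≤ a →
    repOf a ∈ [2, 3, 10, 11] ∧ repOf a % 2 = a % 2 ∧ Golay.inM24 (conjOf a) = true ∧
    actL (conjOf a) 1 = 1 ∧
    Golay.compList (conjOf a) (wl (repOf a)) = Golay.compList (wl a) (conjOf a) ∧
    Golay.validList (Golay.compList (conjOf a) (wl (repOf a))) = true := by decide +kernel

/-- The value at a representative. -/
def pick (x0 x1 x2 x3 : Bool) (r : ℕ) : Bool :=
  if r = 2 then x0 else if r = 3 then x1 else if r = 10 then x2 else x3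

/-- The number of pair classes for given values at the representatives. -/
def nD (x0 x1 x2 x3 : Bool) : ℕ := (nrmVals.filter (pick x0 x1 x2 x3)).length

theorem vals_check : (List.range' 2 126).map repOf = nrmVals := by decide +kernel

theorem count_check : ∀ x0 x1 x2 x3 : Bool, nD x0 x1 x2 x3 = 36 →
    x0 = true ∧ x1 = true ∧ x2 = false ∧ x3 = false := by decide +kernel

theorem isD_low : ((List.range 128).all fun a =>
    (decide (2 ≤ a) && pick true true false false (repOf a)) == isD a) = true := by decide +kernel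

theorem count_eq (x0 x1 x2 x3 : Bool) :
    ((List.range 128).filter fun a => decide (2 ≤ a) && pick x0 x1 x2 x3 (repOf a)).length = nD x0 x1 x2 x3 := by
  rw [nD, ← vals_check, List.filter_map, List.length_map, List.range_eq_range',
    show List.range' 0 128 = 0 :: 1 :: List.range' 2 126 from rfl]
  rw [List.filter_cons_of_neg (by simp), List.filter_cons_of_neg (by simp)]
  refine congrArg List.length (List.filter_congr fun a ha => ?_)
  simp only [List.mem_range'_1] at ha
  simp [ha.1]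

theorem low_count : ((List.range 128).filter isD).length = 36 := by decide +kernel

theorem wP_zero : wP 0 = 1 ∧ wP 1 = 1 := by
  have h : Golay.validList (wl 0) = true ∧ ∀ i < 24, Golay.applyNum (wl 0) i = i := by decide +kernel
  have e : wP 0 = 1 := Equiv.ext fun p => by
    show Golay.toPerm (wl 0) p = p
    rw [← Golay.ptN_idx (Golay.toPerm (wl 0) p), Golay.idx_toPerm h.1, h.2 _ (Golay.idx p).isLt, Golay.ptN_idx]
  exact ⟨e, e⟩

theorem wP_ne_one {a : ℕ} (ha : a < 128) (h2 : 2 ≤ a) : wP a ≠ 1 := by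
  intro h
  obtain ⟨i, hi, hne⟩ := wl_move a ha h2
  have e := Golay.idx_toPerm (Golay.inM24.valid (wl_ok a ha)) (Golay.ptN i)
  rw [show Golay.toPerm (wl a) = wP a from rfl, h, Equiv.Perm.one_apply, Golay.idx_ptN hi] at e
  exact hne e.symm

section

variable {G : Type u} [Group G] {z : G} {T : Todd G z} (S : Split56 G z T)

theorem kk_wP_unit {i : ℕ} (hi : i < 64) {k : ℕ} (hk : k < 6) :
    kk S (wP (2 * (i ^^^ 2 ^ k))) = kk S (wP (2 * i)) * kk S (wP (2 * 2 ^ k)) := by
  have h2 : 2 ^ k < 64 := Nat.pow_lt_pow_right (by norm_num) hk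
  have hx : i ^^^ 2 ^ k < 64 := Nat.xor_lt_two_pow (n := 6) hi h2
  have h := beq_iff_eq.1 (List.all_eq_true.1 (List.all_eq_true.1 wl_comp_check i (List.mem_range.2 hi)) k
    (List.mem_range.2 hk))
  show kl S (wl (2 * (i ^^^ 2 ^ k))) = kl S (wl (2 * i)) * kl S (wl (2 * 2 ^ k))
  rw [← h, kl_comp S (wl_ok _ (by omega)) (wl_ok _ (by omega))]
  rw [h]
  exact Golay.inM24.valid (wl_ok _ (by omega))

theorem kk_wP_span {i : ℕ} (hi : i < 64) : ∀ k, k ≤ 6 → ∀ j, j < 2 ^ k →
    kk S (wP (2 * (i ^^^ j))) = kk S (wP (2 * i)) * kk S (wP (2 * j))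
  | 0, _, j, hj => by
    obtain rfl : j = 0 := by omega
    rw [Nat.xor_zero, wP_zero.1, kk_one, mul_one]
  | k + 1, hk, j, hj => by
    have ih := kk_wP_span hi k (by omega)
    by_cases hb : j < 2 ^ k
    · exact ih j hb
    · have e : j = (j ^^^ 2 ^ k) ^^^ 2 ^ k := by rw [Nat.xor_assoc, Nat.xor_self, Nat.xor_zero]
      obtain ⟨r, hr, rfl⟩ : ∃ r, r < 2 ^ k ∧ j = r ^^^ 2 ^ k := ⟨_, xor_top_lt hb hj, e⟩
      have hr6 : r < 64 := lt_of_lt_of_le hr (Nat.pow_le_pow_right (by norm_num) (show k ≤ 6 by omega))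
      rw [← Nat.xor_assoc, kk_wP_unit S (Nat.xor_lt_two_pow (n := 6) hi hr6) (by omega),
        kk_wP_unit S hr6 (by omega), ih r hr, mul_assoc]

theorem kk_wP_mul {a b : ℕ} (ha : a < 128) (hb : b < 128) :
    kk S (wP (a ^^^ b)) = kk S (wP a) * kk S (wP b) := by
  have e : ∀ c : ℕ, wP c = wP (2 * (c / 2)) := fun c => by
    simp only [wP, Nat.mul_div_cancel_left _ (show 0 < 2 by norm_num)]
  have hab : (a ^^^ b) / 2 = a / 2 ^^^ b / 2 := by simpa using Nat.xor_div_two_pow (n := 1) (a := a) (b := b)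
  rw [e (a ^^^ b), e a, e b, hab]
  exact kk_wP_span S (by omega) 6 le_rfl (b / 2) (by omega)

/-- The element with second coordinate `a`. -/
noncomputable def lowEl (a : ℕ) : G := z ^ (a % 2) * kk S (wP a)

theorem lowEl_eq {a : ℕ} : lowEl S a = T.el (a % 2) * kl S (wl a) := by
  show z ^ (a % 2) * kk S (wP a) = T.el (a % 2) * kk S (wP a)
  rcases Nat.mod_two_eq_zero_or_one a with e | e <;> rw [e]
  · rw [pow_zero, T.el_zero]
  · rw [pow_one, T.el_z]

theorem lowEl_conj {a : ℕ} (ha : a < 128) (h2 : 2 ≤ a) :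
    IsConj (lowEl S (repOf a)) (lowEl S a) := by
  obtain ⟨hr, hp, hm, h1, hc, hv⟩ := conj_check a ha h2
  have hr' : repOf a < 128 := by
    simp only [List.mem_cons, List.not_mem_nil, or_false] at hr
    omega
  refine isConj_iff.2 ⟨kl S (conjOf a), ?_⟩
  rw [lowEl_eq, lowEl_eq, hp]
  have he : kl S (conjOf a) * T.el (a % 2) * (kl S (conjOf a))⁻¹ = T.el (a % 2) := by
    rw [kl_conj_el S hm (by omega)]
    rcases Nat.mod_two_eq_zero_or_one a with e | e <;> rw [e]
    · rw [← act_toPerm (Golay.inM24.valid hm), act_zero]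
    · rw [h1]
  have e2 : kl S (conjOf a) * kl S (wl (repOf a)) = kl S (wl a) * kl S (conjOf a) := by
    rw [← kl_comp S hm (wl_ok _ hr') hv, hc, kl_comp S (wl_ok a ha) hm (hc ▸ hv)]
  calc kl S (conjOf a) * (T.el (a % 2) * kl S (wl (repOf a))) * (kl S (conjOf a))⁻¹
      = kl S (conjOf a) * T.el (a % 2) * (kl S (conjOf a))⁻¹ *
          (kl S (conjOf a) * kl S (wl (repOf a))) * (kl S (conjOf a))⁻¹ := by group
    _ = T.el (a % 2) * kl S (wl a) := by rw [he, e2]; group

theorem mem_M24_wP {a : ℕ} (ha : a < 128) : wP a ∈ Cfsg.M24 := Golay.toPerm_mem_M24 (wl_ok a ha)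

/-- The coordinates of the low elements in the conjugate. -/
theorem exists_coord {c : G} (hc : c * z = z * c)
    (hraw : ∀ σ, InW σ → ∃ a, a < 128 ∧ kk S σ = c * T.el a * c⁻¹) :
    ∃ g : ℕ → ℕ, Good g ∧ g 1 = 1 ∧ ∀ a, a < 128 → lowEl S a = c * T.el (g a) * c⁻¹ := by
  have hex : ∀ a, ∃ n, n < 128 ∧ (a < 128 → lowEl S a = c * T.el n * c⁻¹) := by
    intro a
    by_cases ha : a < 128
    swap
    · exact ⟨0, by norm_num, fun h => absurd h ha⟩
    obtain ⟨n, hn, he⟩ := hraw (wP a) (inW_toPerm (wl_inWL a ha))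
    refine ⟨a % 2 ^^^ n, xor128 (by omega) hn, fun _ => ?_⟩
    have hz : c * T.el (a % 2) * c⁻¹ = T.el (a % 2) := by
      rcases Nat.mod_two_eq_zero_or_one a with e | e <;> rw [e]
      · rw [T.el_zero]; group
      · rw [T.el_z, hc]; group
    rw [lowEl_eq, show kl S (wl a) = kk S (wP a) from rfl, he, T.el_xor _ (by omega) _ (by omega)]
    conv_lhs => rw [← hz]
    group
  choose g hg using hex
  have hlt : ∀ a, g a < 128 := fun a => (hg a).1
  have hel : ∀ a, a < 128 → lowEl S a = c * T.el (g a) * c⁻¹ := fun a ha => (hg a).2 ha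
  have hcan : ∀ {m n : ℕ}, m < 128 → n < 128 → c * T.el m * c⁻¹ = c * T.el n * c⁻¹ → m = n :=
    fun hm hn h => T.el_inj _ (by omega) _ (by omega) (mul_left_cancel (mul_right_cancel h))
  have hlin : ∀ a, a < 128 → ∀ b, b < 128 → g (a ^^^ b) = g a ^^^ g b := by
    intro a ha b hb
    refine hcan (hlt _) (xor128 (hlt _) (hlt _)) ?_
    rw [← hel _ (xor128 ha hb), T.el_xor _ (by have := hlt a; omega) _ (by have := hlt b; omega),
      show c * (T.el (g a) * T.el (g b)) * c⁻¹ = c * T.el (g a) * c⁻¹ * (c * T.el (g b) * c⁻¹) by group,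
      ← hel a ha, ← hel b hb, lowEl_eq, lowEl_eq, lowEl_eq]
    have hpar : (a ^^^ b) % 2 = a % 2 ^^^ b % 2 := by
      simpa using Nat.xor_mod_two_pow (n := 1) (a := a) (b := b)
    have hcomm : T.el (b % 2) * kl S (wl a) = kl S (wl a) * T.el (b % 2) := by
      have h := kl_conj_el S (wl_ok a ha) (show b % 2 < 2048 by omega)
      have h' : actL (wl a) (b % 2) = b % 2 := by
        rw [← act_toPerm (Golay.inM24.valid (wl_ok a ha))]
        rcases Nat.mod_two_eq_zero_or_one b with e | e <;> rw [e]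
        · exact act_zero _
        · exact (inW_toPerm (wl_inWL a ha)).2.1
      rw [h'] at h
      exact (mul_inv_eq_iff_eq_mul.1 h).symm
    rw [hpar, T.el_xor _ (by omega) _ (by omega)]
    show _ * kk S (wP (a ^^^ b)) = _
    rw [kk_wP_mul S ha hb]
    show T.el (a % 2) * T.el (b % 2) * (kl S (wl a) * kl S (wl b)) =
      T.el (a % 2) * kl S (wl a) * (T.el (b % 2) * kl S (wl b))
    rw [mul_assoc (T.el (a % 2)) (T.el (b % 2)), ← mul_assoc (T.el (b % 2)), hcomm]
    simp only [mul_assoc]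
  have h1 : g 1 = 1 := by
    refine hcan (hlt 1) (by norm_num) ?_
    rw [← hel 1 (by norm_num)]
    show z ^ (1 % 2) * kk S (wP 1) = _
    rw [wP_zero.2, kk_one, T.el_z, hc]
    group
  have hker : ∀ a, a < 128 → g a = 0 → a = 0 := by
    intro a ha h0
    have h : lowEl S a = 1 := by rw [hel a ha, h0, T.el_zero]; group
    rw [lowEl_eq, mul_eq_one_iff_inv_eq] at h
    have hV : kk S (wP a) ∈ T.V := by
      show kl S (wl a) ∈ T.V
      rw [← h]
      exact inv_mem (T.el_mem (by omega))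
    have hk := split_mem_K_inf S (kk_mem S (mem_M24_wP ha)) hV
    obtain ⟨hn, -, hρ⟩ := kk_spec S (mem_M24_wP ha)
    have hw : wP a = 1 := by
      have e : (⟨kk S (wP a), hn⟩ : ↥(normalizer (T.V : Set G))) = 1 := Subtype.ext hk
      rw [e, map_one] at hρ
      exact (congrArg Subtype.val hρ).symm
    have : a < 2 := by
      by_contra h'
      exact wP_ne_one ha (by omega) hw
    interval_cases a
    · rfl
    · omega
  have hinj : ∀ a, a < 128 → ∀ b, b < 128 → g a = g b → a = b := fun a ha b hb h =>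
    Nat.xor_eq_zero_iff.1 (hker _ (xor128 ha hb) (by rw [hlin a ha b hb, h, Nat.xor_self]))
  -- the pair classes
  have hrep : ∀ a, a < 128 → 2 ≤ a → isD (g a) = isD (g (repOf a)) := by
    intro a ha h2
    obtain ⟨hr, hp, -⟩ := conj_check a ha h2
    have hr' : repOf a < 128 ∧ 2 ≤ repOf a := by
      simp only [List.mem_cons, List.not_mem_nil, or_false] at hr
      omega
    have hne : ∀ {b : ℕ}, b < 128 → 2 ≤ b → g b ≠ 0 := fun hb h2 h => by have := hker _ hb h; omega
    have key : ∀ {b : ℕ}, b < 128 → 2 ≤ b → (IsConj z (lowEl S b) ↔ isD (g b) = false) := by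
      intro b hb hb2
      rw [hel b hb]
      have h3 : IsConj (T.el (g b)) (c * T.el (g b) * c⁻¹) := isConj_iff.2 ⟨c, rfl⟩
      exact ⟨fun h => ((T.cls _ (by have := hlt b; omega)).1 (h.trans h3.symm)).2,
        fun h => ((T.cls _ (by have := hlt b; omega)).2 ⟨hne hb hb2, h⟩).trans h3⟩
    have hc2 := lowEl_conj S ha h2
    have hiff : isD (g a) = false ↔ isD (g (repOf a)) = false := by
      rw [← key ha h2, ← key hr'.1 hr'.2]
      exact ⟨fun h => h.trans hc2.symm, fun h => h.trans hc2⟩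
    revert hiff
    cases isD (g a) <;> cases isD (g (repOf a)) <;> simp
  obtain ⟨x, hx⟩ : ∃ x, x = fun r => isD (g r) := ⟨_, rfl⟩
  have hval : ∀ a, a < 128 →
      isD (g a) = (decide (2 ≤ a) && pick (x 2) (x 3) (x 10) (x 11) (repOf a)) := by
    intro a ha
    by_cases h2 : 2 ≤ a
    · rw [decide_eq_true h2, Bool.true_and, hrep a ha h2, hx]
      obtain ⟨hr, -⟩ := conj_check a ha h2
      simp only [List.mem_cons, List.not_mem_nil, or_false] at hr
      rcases hr with e | e | e | e <;> rw [e] <;> simp [pick]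
    · rw [decide_eq_false h2, Bool.false_and]
      have h0 : g 0 = 0 := by simpa using hlin 0 (by norm_num) 0 (by norm_num)
      interval_cases a
      · rw [h0]; exact isD_zero
      · rw [h1]; exact isQ_one.2
  have hcount : nD (x 2) (x 3) (x 10) (x 11) = 36 := by
    rw [← low_count, ← count_eq]
    have e1 : ∀ p : ℕ → Bool, ((List.range 128).filter p).length =
        ((Finset.range 128).filter fun a => p a = true).card := fun p => by
      rw [Finset.card_def, Finset.filter_val, Finset.range_val, Multiset.range, Multiset.filter_coe,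
        Multiset.coe_card]
      simp
    rw [e1, e1]
    refine Finset.card_bij (fun a _ => g a) (fun a ha => ?_) (fun a ha b hb h => ?_) (fun n hn => ?_)
    · rw [Finset.mem_filter, Finset.mem_range] at ha ⊢
      exact ⟨hlt a, by rw [hval a ha.1]; exact ha.2⟩
    · rw [Finset.mem_filter, Finset.mem_range] at ha hb
      exact hinj a ha.1 b hb.1 h
    · rw [Finset.mem_filter, Finset.mem_range] at hn
      have hsurj : (Finset.range 128).image g = Finset.range 128 := by
        refine Finset.eq_of_subset_of_card_le (fun m hm => ?_) ?_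
        · obtain ⟨a, -, rfl⟩ := Finset.mem_image.1 hm
          exact Finset.mem_range.2 (hlt a)
        · rw [Finset.card_image_of_injOn fun a ha b hb h =>
            hinj a (Finset.mem_range.1 ha) b (Finset.mem_range.1 hb) h]
      obtain ⟨a, ha, rfl⟩ := Finset.mem_image.1 (hsurj.symm ▸ Finset.mem_range.2 hn.1)
      refine ⟨a, Finset.mem_filter.2 ⟨ha, ?_⟩, rfl⟩
      rw [← hval a (Finset.mem_range.1 ha)]
      exact hn.2
  refine ⟨g, ⟨fun a _ => hlt a, hlin, hinj, fun a ha => ?_⟩, h1, hel⟩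
  rw [hval a ha]
  obtain ⟨e0, e1, e2, e3⟩ := count_check _ _ _ _ hcount
  rw [e0, e1, e2, e3]
  exact beq_iff_eq.1 (List.all_eq_true.1 isD_low a (List.mem_range.2 ha))

end

section

variable {G : Type u} [Group G] {z : G} (T : Todd G z) (c : G) (hc : c * z = z * c)
  (τ : Equiv.Perm GolayPt) (hτ : τ ∈ Cfsg.M24) (h1 : act τ 1 = 1)

theorem mem_conj {x : G} : x ∈ T.V.map (MulAut.conj c).toMonoidHom ↔ c⁻¹ * x * c ∈ T.V := by
  rw [mem_map_conj]

theorem norm_conj {x : G} :
    x ∈ normalizer ((T.V.map (MulAut.conj c).toMonoidHom : Subgroup G) : Set G) ↔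
      c⁻¹ * x * c ∈ normalizer (T.V : Set G) := by
  rw [normalizer_map_conj, mem_map_conj]

/-- Moving the normaliser back. -/
def back : ↥(normalizer ((T.V.map (MulAut.conj c).toMonoidHom : Subgroup G) : Set G)) →*
    ↥(normalizer (T.V : Set G)) where
  toFun x := ⟨c⁻¹ * (x : G) * c, (norm_conj T c).1 x.2⟩
  map_one' := Subtype.ext (by simp)
  map_mul' x y := Subtype.ext (by simp only [Subgroup.coe_mul]; group)

include hc hτ h1

/-- The conjugate by `c`, in coordinates changed by `τ`. -/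
noncomputable def twist : Todd G z where
  el a := c * T.el (act τ a) * c⁻¹
  el_xor a _ b _ := by
    rw [act_xor, T.el_xor _ (act_lt _ _) _ (act_lt _ _)]; group
  el_inj a ha b hb h := act_injOn hτ ha hb
    (T.el_inj _ (act_lt _ _) _ (act_lt _ _) (mul_left_cancel (mul_right_cancel h)))
  el_z := by rw [h1, T.el_z, hc]; group
  V := T.V.map (MulAut.conj c).toMonoidHom
  mem_V x := by
    rw [mem_conj, T.mem_V]
    constructor
    · rintro ⟨a, ha, e⟩
      refine ⟨act τ⁻¹ a, act_lt _ _, ?_⟩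
      rw [act_act_inv hτ ha, e]; group
    · rintro ⟨a, -, rfl⟩
      exact ⟨act τ a, act_lt _ _, by group⟩
  cent x hx := by
    rw [mem_conj]
    refine T.cent (mem_centralizer_iff.2 fun v hv => ?_)
    have h := mem_centralizer_iff.1 hx (c * v * c⁻¹) ((mem_conj T c).2 (by
      rwa [show c⁻¹ * (c * v * c⁻¹) * c = v by group]))
    calc v * (c⁻¹ * x * c) = c⁻¹ * (c * v * c⁻¹ * x) * c := by group
      _ = c⁻¹ * (x * (c * v * c⁻¹)) * c := by rw [h]
      _ = c⁻¹ * x * c * v := by group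
  uniq x hx := by
    rw [norm_conj]
    refine T.uniq _ fun v hv => ?_
    have h := (norm_conj T c).1 (hx (c * v * c⁻¹) ((mem_conj T c).2 (by
      rwa [show c⁻¹ * (c * v * c⁻¹) * c = v by group])))
    rwa [show c⁻¹ * (x * (c * v * c⁻¹) * x⁻¹) * c = c⁻¹ * x * c * v * (c⁻¹ * x * c)⁻¹ by group] at h
  cls a ha := by
    have h3 : IsConj (T.el (act τ a)) (c * T.el (act τ a) * c⁻¹) := isConj_iff.2 ⟨c, rfl⟩
    rw [← isQ_act hτ ha]
    exact ⟨fun h => (T.cls _ (act_lt _ _)).1 (h.trans h3.symm),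
      fun h => ((T.cls _ (act_lt _ _)).2 h).trans h3⟩
  ρ := (MulAut.conj ((⟨τ, hτ⟩ : ↥Cfsg.M24)⁻¹)).toMonoidHom.comp (T.ρ.comp (back T c))
  ρ_spec n a ha := by
    obtain ⟨m, hm⟩ : ∃ m, m = back T c n := ⟨_, rfl⟩
    have e : (m : G) = c⁻¹ * (n : G) * c := by rw [hm]; rfl
    have hs := T.ρ_spec m (act τ a) (act_lt _ _)
    have hσ := (T.ρ m).2
    have key : act τ (act (τ⁻¹ * (T.ρ m : Equiv.Perm GolayPt) * τ) a) =
        act (T.ρ m : Equiv.Perm GolayPt) (act τ a) := by
      rw [← act_mul hτ, ← act_mul hσ]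
      congr 1
      group
    have hval : (((MulAut.conj ((⟨τ, hτ⟩ : ↥Cfsg.M24)⁻¹)).toMonoidHom.comp (T.ρ.comp (back T c)) n :
        ↥Cfsg.M24) : Equiv.Perm GolayPt) = τ⁻¹ * (T.ρ m : Equiv.Perm GolayPt) * τ := by
      show ((((⟨τ, hτ⟩ : ↥Cfsg.M24)⁻¹ * T.ρ (back T c n) * ((⟨τ, hτ⟩ : ↥Cfsg.M24)⁻¹)⁻¹ : ↥Cfsg.M24)) :
        Equiv.Perm GolayPt) = _
      rw [hm, inv_inv]
      rfl
    rw [hval, key, ← hs, e]
    group
  ρ_surj σ := by
    obtain ⟨m, hm⟩ := T.ρ_surj ((⟨τ, hτ⟩ : ↥Cfsg.M24) * σ * (⟨τ, hτ⟩ : ↥Cfsg.M24)⁻¹)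
    refine ⟨⟨c * (m : G) * c⁻¹, (norm_conj T c).2 (by
      rw [show c⁻¹ * (c * (m : G) * c⁻¹) * c = (m : G) by group]; exact m.2)⟩, ?_⟩
    have e : back T c ⟨c * (m : G) * c⁻¹, (norm_conj T c).2 (by
      rw [show c⁻¹ * (c * (m : G) * c⁻¹) * c = (m : G) by group]; exact m.2)⟩ = m :=
        Subtype.ext (show c⁻¹ * (c * (m : G) * c⁻¹) * c = (m : G) by group)
    show (⟨τ, hτ⟩ : ↥Cfsg.M24)⁻¹ * T.ρ (back T c _) * ((⟨τ, hτ⟩ : ↥Cfsg.M24)⁻¹)⁻¹ = σ
    rw [e, hm]
    group

theorem twist_centD (hD : T.CentD) : (twist T c hc τ hτ h1).CentD := by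
  intro b hb hDb x hx
  show x ∈ normalizer ((T.V.map (MulAut.conj c).toMonoidHom : Subgroup G) : Set G)
  rw [norm_conj]
  refine hD (act τ b) (act_lt _ _) (by rw [isD_act hτ hb]; exact hDb) (mem_centralizer_singleton_iff.2 ?_)
  have h : x * (c * T.el (act τ b) * c⁻¹) = c * T.el (act τ b) * c⁻¹ * x := mem_centralizer_singleton_iff.1 hx
  calc c⁻¹ * x * c * T.el (act τ b) = c⁻¹ * (x * (c * T.el (act τ b) * c⁻¹)) * c := by group
    _ = c⁻¹ * (c * T.el (act τ b) * c⁻¹ * x) * c := by rw [h]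
    _ = T.el (act τ b) * (c⁻¹ * x * c) := by group

end

end Norm

/-- NORM. -/
theorem normStmt : NormStmt.{u} := by
  intro G _ _ z T S hD hR
  obtain ⟨c, hc, hraw⟩ := hR
  obtain ⟨g, hg, hg1, hel⟩ := Norm.exists_coord S hc hraw
  obtain ⟨τ, hτ, hτg⟩ := Norm.exists_of_good hg hg1
  have h1 : act τ 1 = 1 := (hτg 1 (by norm_num)).trans hg1
  exact ⟨{ T2 := Norm.twist T c hc τ hτ h1
           centD := Norm.twist_centD T c hc τ hτ h1 hD
           low := fun a ha => by
             show c * T.el (act τ a) * c⁻¹ = z ^ (a % 2) * kk S (wP a)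
             rw [hτg a ha]
             exact (hel a ha).symm }⟩

end Cfsg.Agent.Lib.J4Iso59
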