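import Cfsg.Agent.Lib.J4Iso59.RawGraph

/-!
# The second subgroup exists for one of two complements

The graph of the section over the second plane forces the translations of the given complement, or of the
complement twisted by the pair classes through a point, into a conjugate of the first plane.
-/

set_option autoImplicit false

universe u

namespace Cfsg.Agent.Lib.J4Iso59.RawP

open Cfsg Cfsg.Agent.Lib Cfsg.Agent.Lib.J4Two56 Cfsg.Agent.Lib.J4Type19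

attribute [local instance] m22_finite

/-- The cocycle of the pair classes through the first point. -/
def dl (σ : Equiv.Perm GolayPt) : ℕ := cd (σ⁻¹ (Golay.ptN 0)) ^^^ cd (Golay.ptN 0)

theorem dl_lt (σ : Equiv.Perm GolayPt) : dl σ < 2048 := xor_lt (cd_lt _) (cd_lt _)

theorem dl_one : dl 1 = 0 := by
  show cd (Golay.ptN 0) ^^^ cd (Golay.ptN 0) = 0
  exact Nat.xor_self _

theorem dl_mul {τ : Equiv.Perm GolayPt} (σ : Equiv.Perm GolayPt) (hτ : τ ∈ Cfsg.M24) :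
    dl (σ * τ) = act τ⁻¹ (dl σ) ^^^ dl τ := by
  rw [dl, dl, dl, act_pair (inv_mem hτ), mul_inv_rev, Equiv.Perm.mul_apply, Nat.xor_assoc,
    ← Nat.xor_assoc (cd (τ⁻¹ (Golay.ptN 0))), Nat.xor_self, Nat.zero_xor]

theorem dl_inv {σ : Equiv.Perm GolayPt} (hσ : σ ∈ Cfsg.M24) : dl σ⁻¹ = act σ (dl σ) := by
  rw [dl, dl, act_pair hσ, inv_inv, Nat.xor_comm]
  congr 2
  exact (Equiv.apply_symm_apply σ _).symm

theorem dl_tr {a : ℕ} (ha : a < 64) : dl (tr a) = RawD.twList.getD a 0 ∧ RawD.twList.getD a 0 < 128 := by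
  have h := List.all_eq_true.1 RawD.twList_ok a (List.mem_range.2 ha)
  simp only [Bool.and_eq_true, decide_eq_true_eq] at h
  refine ⟨?_, h.1⟩
  rw [h.2, dl, tr_inv ha]
  simp only [tr, cd, Golay.idx_toPerm (Golay.inM24.valid (wl_inM24 ha)), Golay.idx_ptN (show 0 < 24 by norm_num)]

theorem cmb_lt_two {a n : ℕ} (ha : a < 64) (hn : n < 128) : RawD.cmb a n < 2 := by
  rw [cmb_low ha hn]; split <;> norm_num

variable {G : Type u} [Group G] [Finite G] {z : G} {P : Subgroup G} {D : HData z P} {X : Plus M22t}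
  {L : Lifts D.toJMod X.F} (l : Loc D X L)

/-- A complement whose translations differ by known low members from a conjugate of the low part. -/
theorem raw_of (S S' : Split56 G z l.T) {d t : ℕ → ℕ} (h : Graph l S d)
    (hS' : ∀ a, a < 64 → t a < 128 ∧ kk S' (tr a) = kt S a * l.T.el (t a))
    {v : ℕ} (hv : v < 2048) (hvc : ∀ a, a < 64 → RawD.cmb a v < 128)
    (hx : ∀ a, a < 64 → d a / 2 = (RawD.cmb a v ^^^ t a) / 2) : Raw S' := by
  obtain ⟨c, hc⟩ := D.πsurj X.t₁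
  refine ⟨l.T.el v * (c : G), ?_, fun σ hσ => ?_⟩
  · have hcz : (c : G) * z = z * (c : G) := (Split.z_comm c.2.1).symm
    have hvz : l.T.el v * z = z * l.T.el v := by
      have h1 := l.T.el_comm hv (show 1 < 2048 by norm_num)
      rwa [l.T.el_z] at h1
    rw [mul_assoc, hcz, ← mul_assoc, hvz, mul_assoc]
  obtain ⟨a, ha, rfl⟩ := tr_surj hσ
  obtain ⟨ht, hk⟩ := hS' a ha
  obtain ⟨x, hxdef⟩ : ∃ x, x = RawD.cmb a v ^^^ t a := ⟨_, rfl⟩
  have hx128 : x < 128 := hxdef ▸ Nat.xor_lt_two_pow (n := 7) (hvc a ha) ht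
  have hε : d a ^^^ x < 2 := by
    have h2 : (d a ^^^ x) / 2 = 0 := by rw [half_xor, hx a ha, ← hxdef, Nat.xor_self]
    omega
  obtain ⟨e, he⟩ : ∃ e : ↥(cE z), (e : G) = kt S a * l.T.el (d a) := ⟨⟨_, kt_el_cE S ha (h.lt a ha)⟩, rfl⟩
  have hfix : c⁻¹ • J4Type19.mk e ∈ D.toJMod.fix X.F.U0 := by
    refine D.toJMod.mem_fix_smul (g := c⁻¹) (fun y hy => ?_) (h.mem a ha e he)
    refine ⟨y, hy, ?_⟩
    show X.t₁ * y * X.t₁⁻¹ = (D.π c⁻¹)⁻¹ * y * D.π c⁻¹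
    rw [map_inv, inv_inv, hc]
  obtain ⟨m, hm, hme⟩ := l.f.vec_surj _ hfix
  rw [J4Type19.smul_mk] at hme
  obtain ⟨n, hn, -, hne⟩ := eq_el_of_mk hm hme.symm
  have hne' : (c : G)⁻¹ * (e : G) * c = l.T.el n := by
    rw [← hne]
    show (c : G)⁻¹ * (e : G) * c = ((c⁻¹ : ↥(cC z P)) : G) * (e : G) * ((c⁻¹ : ↥(cC z P)) : G)⁻¹
    rw [Subgroup.coe_inv, inv_inv]
  have hd : d a < 2048 := lt_trans (h.lt a ha) (by norm_num)
  refine ⟨n ^^^ (d a ^^^ x), Nat.xor_lt_two_pow (n := 7) hn (lt_trans hε (by norm_num)), ?_⟩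
  have hzε : (c : G) * l.T.el (d a ^^^ x) * (c : G)⁻¹ = l.T.el (d a ^^^ x) := by
    rcases Nat.le_one_iff_eq_zero_or_eq_one.1 (Nat.lt_succ_iff.1 hε) with h0 | h0 <;> rw [h0]
    · rw [l.T.el_zero, mul_one, mul_inv_cancel]
    · rw [l.T.el_z]; exact Split.z_conj c.2.1
  have hkx : kt S a * l.T.el x = (c : G) * l.T.el (n ^^^ (d a ^^^ x)) * (c : G)⁻¹ := by
    rw [l.T.el_xor _ (by omega) _ (by omega),
      show (c : G) * (l.T.el n * l.T.el (d a ^^^ x)) * (c : G)⁻¹ =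
        (c : G) * l.T.el n * (c : G)⁻¹ * ((c : G) * l.T.el (d a ^^^ x) * (c : G)⁻¹) by group, hzε, ← hne',
      show (c : G) * ((c : G)⁻¹ * (e : G) * c) * (c : G)⁻¹ = (e : G) by group, he, mul_assoc,
      ← l.T.el_xor _ hd _ (by omega), ← Nat.xor_assoc, Nat.xor_self, Nat.zero_xor]
  have hconj : l.T.el v * (kt S a * l.T.el x) * l.T.el v = kt S a * l.T.el (t a) := by
    rw [conj_kt S ha hv (by omega), hxdef, ← Nat.xor_assoc, Nat.xor_self, Nat.zero_xor]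
  rw [hk, ← hconj, hkx, mul_inv_rev, l.T.el_inv hv]
  group

/-- The complement twisted by the pair classes through the first point. -/
theorem exists_twist (S : Split56 G z l.T) : ∃ S' : Split56 G z l.T,
    ∀ a, a < 64 → RawD.twList.getD a 0 < 128 ∧ kk S' (tr a) = kt S a * l.T.el (RawD.twList.getD a 0) := by
  have hN : ∀ {σ : Equiv.Perm GolayPt}, σ ∈ Cfsg.M24 →
      kk S σ * l.T.el (dl σ) ∈ Subgroup.normalizer (l.T.V : Set G) := fun {σ} hσ =>
    mul_mem (kk_spec S hσ).choose (Subgroup.le_normalizer (l.T.el_mem (dl_lt σ)))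
  have hmove : ∀ {τ : Equiv.Perm GolayPt} {n : ℕ}, τ ∈ Cfsg.M24 → n < 2048 →
      l.T.el n * kk S τ = kk S τ * l.T.el (act τ⁻¹ n) := fun {τ n} hτ hn => by
    have h := kk_conj_el S (inv_mem hτ) hn
    rw [kk_inv S hτ, inv_inv] at h
    rw [← h]; group
  let K : Subgroup G :=
    { carrier := {g | ∃ σ : ↥Cfsg.M24, g = kk S σ * l.T.el (dl σ)}
      one_mem' := ⟨1, by rw [OneMemClass.coe_one, kk_one, dl_one, l.T.el_zero, one_mul]⟩
      mul_mem' := by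
        rintro _ _ ⟨σ, rfl⟩ ⟨τ, rfl⟩
        refine ⟨σ * τ, ?_⟩
        rw [Subgroup.coe_mul, kk_mul S σ.2 τ.2, dl_mul _ τ.2, l.T.el_xor _ (act_lt _ _) _ (dl_lt _),
          show kk S σ * l.T.el (dl σ) * (kk S τ * l.T.el (dl τ)) =
            kk S σ * (l.T.el (dl σ) * kk S τ) * l.T.el (dl τ) by group, hmove τ.2 (dl_lt _)]
        group
      inv_mem' := by
        rintro _ ⟨σ, rfl⟩
        refine ⟨σ⁻¹, ?_⟩
        rw [Subgroup.coe_inv, mul_inv_rev, l.T.el_inv (dl_lt _), ← kk_inv S σ.2,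
          hmove (inv_mem σ.2) (dl_lt _), inv_inv, dl_inv σ.2] }
  have hρ : ∀ σ : ↥Cfsg.M24, l.T.ρ ⟨kk S σ * l.T.el (dl σ), hN σ.2⟩ = σ := fun σ => by
    obtain ⟨hn, -, hr⟩ := kk_spec S σ.2
    have hVm : l.T.el (dl σ) ∈ l.T.V := l.T.el_mem (dl_lt _)
    rw [show (⟨kk S σ * l.T.el (dl σ), hN σ.2⟩ : ↥(Subgroup.normalizer (l.T.V : Set G))) =
      ⟨kk S σ, hn⟩ * ⟨l.T.el (dl σ), Subgroup.le_normalizer hVm⟩ from rfl, map_mul, hr,
      l.T.ρ_of_mem (n := ⟨l.T.el (dl σ), _⟩) hVm, mul_one]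
  have hle : K ≤ Subgroup.normalizer (l.T.V : Set G) := by rintro _ ⟨σ, rfl⟩; exact hN σ.2
  have hinf : K ⊓ l.T.V = ⊥ := by
    rw [eq_bot_iff]
    rintro _ ⟨⟨σ, rfl⟩, hV⟩
    have h := (hρ σ).symm.trans (l.T.ρ_of_mem (n := ⟨_, hN σ.2⟩) hV)
    rw [h, OneMemClass.coe_one, kk_one, dl_one, l.T.el_zero, one_mul]
    exact one_mem _
  have hiso : ∀ σ : ↥Cfsg.M24, ∃ k : ↥(Subgroup.normalizer (l.T.V : Set G)), (k : G) ∈ K ∧ l.T.ρ k = σ :=
    fun σ => ⟨⟨_, hN σ.2⟩, ⟨σ, rfl⟩, hρ σ⟩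
  have hsup : K ⊔ l.T.V = Subgroup.normalizer (l.T.V : Set G) := by
    refine le_antisymm (sup_le hle Subgroup.le_normalizer) fun x hx => ?_
    obtain ⟨k, hkK, hkρ⟩ := hiso (l.T.ρ ⟨x, hx⟩)
    have hV := l.T.mem_V_of_ρ (n := k⁻¹ * ⟨x, hx⟩) (by rw [map_mul, map_inv, hkρ, inv_mul_cancel])
    rw [show x = (k : G) * ((k : G)⁻¹ * x) from (mul_inv_cancel_left _ _).symm]
    exact Subgroup.mul_mem_sup hkK hV
  refine ⟨{ K := K, le := hle, inf := hinf, sup := hsup, iso := hiso,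
            hW := Split.hW_of_complement l secStmt hle hinf hiso, hX := S.hX, hE := S.hE, hN := S.hN,
            conj := S.conj }, fun a ha => ⟨(dl_tr ha).2, ?_⟩⟩
  rw [← (dl_tr ha).1]
  exact kk_eq _ (tr_mem ha) (k := ⟨kk S (tr a) * l.T.el (dl (tr a)), hN (tr_mem ha)⟩)
    ⟨⟨tr a, tr_mem ha⟩, rfl⟩ (hρ ⟨tr a, tr_mem ha⟩)

theorem vList_facts {v : ℕ} (hv : v ∈ RawD.vList) : v < 2048 ∧ ∀ a, a < 64 → RawD.cmb a v < 128 := by
  have h := List.all_eq_true.1 RawD.vList_ok v hv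
  simp only [Bool.and_eq_true, decide_eq_true_eq, List.all_eq_true, List.mem_range] at h
  exact h

end Cfsg.Agent.Lib.J4Iso59.RawP

namespace Cfsg.Agent.Lib.J4Iso59

open Cfsg Cfsg.Agent.Lib Cfsg.Agent.Lib.J4Two56 Cfsg.Agent.Lib.J4Type19

/-- The second subgroup exists for a suitable complement. -/
theorem rawStmt : RawStmt.{u} := by
  intro G _ _ _ z P D X L l hne _
  obtain ⟨S⟩ := hne
  obtain ⟨o, ho, hop⟩ := RawP.options S
  obtain ⟨d, hd⟩ := RawP.exists_graph l S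
  have hcount := hd.count hop
  have hc := hd.candidate
  simp only [RawD.candOK, Bool.and_eq_true, Bool.or_eq_true, Bool.not_eq_true', beq_eq_false_iff_ne,
    List.any_eq_true, List.all_eq_true, List.mem_range, beq_iff_eq] at hc
  obtain ⟨hA, hB⟩ := hc
  rcases ho with rfl | rfl
  · obtain ⟨v, hv, hall⟩ := hA.resolve_left (fun h => h hcount)
    obtain ⟨hv2, hvc⟩ := RawP.vList_facts hv
    refine ⟨S, RawP.raw_of l S S (t := fun _ => 0) hd (fun a _ => ⟨by norm_num, ?_⟩) hv2 hvc fun a ha => ?_⟩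
    · rw [l.T.el_zero, mul_one]; rfl
    · rw [Nat.xor_zero, hd.lin_eq ha]; exact hall a ha
  · obtain ⟨v, hv, hall⟩ := hB.resolve_left (fun h => h hcount)
    obtain ⟨hv2, hvc⟩ := RawP.vList_facts hv
    obtain ⟨S', hS'⟩ := RawP.exists_twist l S
    exact ⟨S', RawP.raw_of l S S' hd hS' hv2 hvc fun a ha => (hd.lin_eq ha).trans (hall a ha)⟩

end Cfsg.Agent.Lib.J4Iso59
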