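import Cfsg.Agent.Lib.J4Two56.Cover

/-!
# The elements of `M₂₄` commuting with listed permutations

A permutation commuting with every listed permutation is determined by its images of some base points
(`roots`), as soon as every point is the image of a base point under a listed permutation.
-/

set_option autoImplicit false

namespace Cfsg.Agent.Lib.J4Iso59.PermCent

open Cfsg Cfsg.Agent.Lib
open scoped Pointwise

/-- The possible images of a base point: the points fixed by the listed permutations fixing it. -/
def allowed (H : List (List ℕ)) (r : ℕ) : List ℕ :=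
  (List.range 24).filter fun j =>
    H.all fun h => !(Golay.applyNum h r == r) || Golay.applyNum h j == j

/-- All choices of one entry from each list. -/
def choices : List (List ℕ) → List (List ℕ)
  | [] => [[]]
  | l :: r => l.flatMap fun a => (choices r).map (a :: ·)

/-- The image list given by the images of the base points. -/
def extend (H : List (List ℕ)) (via : List (ℕ × ℕ)) (c : List ℕ) : List ℕ :=
  via.map fun p => Golay.applyNum (H.getD p.2 []) (c.getD p.1 0)

/-- The test for a candidate. -/
def good (H : List (List ℕ)) (l : List ℕ) : Bool :=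
  Golay.inM24 l && H.all fun h => Golay.compList l h == Golay.compList h l

/-- The candidates. -/
def centList (H : List (List ℕ)) (roots : List ℕ) (via : List (ℕ × ℕ)) : List (List ℕ) :=
  ((choices (roots.map (allowed H))).map (extend H via)).filter (good H)

/-- The test for the covering data. -/
def coverOK (H : List (List ℕ)) (roots : List ℕ) (via : List (ℕ × ℕ)) : Bool :=
  H.all Golay.validList && (roots.all fun r => decide (r < 24)) && Nat.beq via.length 24 &&
    (List.range 24).all fun i =>
      decide ((via.getD i (0, 0)).1 < roots.length) && decide ((via.getD i (0, 0)).2 < H.length) &&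
        Golay.applyNum (H.getD (via.getD i (0, 0)).2 []) (roots.getD (via.getD i (0, 0)).1 0) == i

theorem mem_choices : ∀ (L : List (List ℕ)) (c : List ℕ), List.Forall₂ (fun a l => a ∈ l) c L →
    c ∈ choices L
  | [], c, h => by cases h; simp [choices]
  | l :: r, c, h => by
    cases h with
    | cons hab hrest =>
      rename_i a c'
      exact List.mem_flatMap.2 ⟨a, hab, List.mem_map.2 ⟨c', mem_choices r c' hrest, rfl⟩⟩

theorem mem_centList {H : List (List ℕ)} {roots : List ℕ} {via : List (ℕ × ℕ)}
    (hok : coverOK H roots via = true) {σ : Equiv.Perm GolayPt} (hσ : σ ∈ Cfsg.M24)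
    (hc : ∀ h ∈ H, Commute σ (Golay.toPerm h)) :
    Golay.imageList σ ∈ centList H roots via ∧ Golay.toPerm (Golay.imageList σ) = σ := by
  simp only [coverOK, Bool.and_eq_true, List.all_eq_true, decide_eq_true_eq, List.mem_range,
    beq_iff_eq] at hok
  obtain ⟨⟨⟨hval, hroot⟩, hlen⟩, hcov⟩ := hok
  have hlen' : via.length = 24 := Nat.eq_of_beq_eq_true hlen
  have hvalid := J4Two56.validList_imageList σ
  set L := Golay.imageList σ with hL
  have hLp : Golay.toPerm L = σ := Golay.toPerm_imageList σ hvalid
  refine ⟨?_, hLp⟩
  -- numbers
  have hcomm : ∀ h ∈ H, ∀ i, i < 24 →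
      Golay.applyNum L (Golay.applyNum h i) = Golay.applyNum h (Golay.applyNum L i) := by
    intro h hh i hi
    have e := congrArg (fun g : Equiv.Perm GolayPt => (Golay.idx (g (Golay.pt ⟨i, hi⟩))).val) (hc h hh)
    simp only [Equiv.Perm.mul_apply] at e
    rw [← hLp, Golay.idx_toPerm hvalid, Golay.idx_toPerm (hval h hh), Golay.idx_toPerm (hval h hh),
      Golay.idx_toPerm hvalid, Golay.idx_pt] at e
    exact e
  set c := roots.map (Golay.applyNum L) with hcdef
  have hmem : c ∈ choices (roots.map (allowed H)) := by
    refine mem_choices _ _ ?_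
    rw [hcdef, List.forall₂_map_left_iff, List.forall₂_map_right_iff, List.forall₂_same]
    intro r hr
    refine List.mem_filter.2 ⟨List.mem_range.2 (Golay.applyNum_lt _ _), ?_⟩
    rw [List.all_eq_true]
    intro h hh
    by_cases hfix : Golay.applyNum h r = r
    · have e := hcomm h hh r (hroot r hr)
      rw [hfix] at e
      simp [← e]
    · simp [hfix]
  have hext : extend H via c = L := by
    refine List.ext_getElem (by simp [extend, hlen', hL, Golay.imageList]) fun i h1 h2 => ?_
    have hi : i < 24 := by simpa [extend, hlen'] using h1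
    obtain ⟨⟨hp1, hp2⟩, e⟩ := hcov i hi
    rw [List.getD_eq_getElem via _ (by simpa [hlen'] using hi)] at hp1 hp2 e
    simp only [extend, List.getElem_map]
    set p := via[i] with hp
    have hh : H.getD p.2 [] ∈ H := by
      rw [List.getD_eq_getElem _ _ hp2]; exact List.getElem_mem _
    have hcget : c.getD p.1 0 = Golay.applyNum L (roots.getD p.1 0) := by
      rw [List.getD_eq_getElem _ _ (by simpa [hcdef] using hp1), List.getD_eq_getElem _ _ hp1]
      simp [hcdef]
    have hr : roots.getD p.1 0 < 24 := by
      rw [List.getD_eq_getElem _ _ hp1]; exact hroot _ (List.getElem_mem _)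
    rw [hcget, ← hcomm _ hh _ hr, e]
    show Golay.applyNum L i = L[i]
    have hLi : L[i] < 24 := by simp [hL, Golay.imageList]
    rw [Golay.applyNum, List.getD_eq_getElem _ _ h2]
    exact Nat.mod_eq_of_lt hLi
  refine List.mem_filter.2 ⟨List.mem_map.2 ⟨c, hmem, hext⟩, ?_⟩
  simp only [good, Bool.and_eq_true, List.all_eq_true, beq_iff_eq]
  refine ⟨?_, fun h hh => ?_⟩
  · simp only [Golay.inM24, Bool.and_eq_true, List.all_eq_true]
    refine ⟨hvalid, fun g hg => ?_⟩
    have h' : Golay.IsCodeSet (Golay.toPerm L • Golay.ptsOf g) := by
      rw [hLp]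
      exact Golay.M24_isCodeSet hσ (Golay.genRows_isCodeSet g hg)
    rw [Golay.toPerm_smul_ptsOf hvalid,
      Golay.isCodeSet_ptsOf_iff (Golay.Classes.imageMask_lt _ _)] at h'
    exact h'
  · unfold Golay.compList
    refine List.map_congr_left fun i hi => ?_
    exact hcomm h hh i (List.mem_range.1 hi)

end Cfsg.Agent.Lib.J4Iso59.PermCent
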