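import Cfsg.Agent.Lib.J4Iso59.Spec
import Cfsg.Agent.Lib.J4Iso59.PermCent
import Cfsg.Agent.Lib.J4Iso59.TeeData

/-!
# TEE: the third generator commutes with the stabiliser of the trio

An element of the stabiliser of the first sextet normalises the second subgroup and acts there by the
permutation read off from the 128 low coordinates.  The conjugate of the third generator by the first
generator commutes with the images of the stabiliser of the two sextets 1 and 35, which leaves it a few
possible values, all but one contradicting the two classes of involutions.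
-/

set_option autoImplicit false
set_option maxRecDepth 10000

universe u

namespace Cfsg.Agent.Lib.J4Iso59.Tee

open Cfsg Cfsg.Agent.Lib Cfsg.Agent.Lib.J4Two56

/-- The listed translation with a given number. -/
def wl (a : ℕ) : List ℕ := J4Iso59.wList.getD (a / 2) []

/-- The test for an image list on the second subgroup. -/
def thetaOK (r L : List ℕ) : Bool :=
  Golay.inM24 r && Golay.inM24 L && Nat.beq (actL r 1) 1 &&
    (List.range 7).all fun k =>
      decide (actL L (2 ^ k) < 128) && Nat.beq (actL L (2 ^ k) % 2) (2 ^ k % 2) &&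
        Golay.compList r (wl (2 ^ k)) == Golay.compList (wl (actL L (2 ^ k))) r

/-- The identity list. -/
def idL : List ℕ := List.range 24

theorem wl_ok : (J4Iso59.wList.all fun w => Golay.inM24 w && Golay.compList w w == idL) = true := by
  decide +kernel

theorem wl_zero : wl 1 = idL ∧ wl 0 = idL := by decide +kernel

theorem idL_valid : Golay.validList idL = true ∧ Golay.inM24 idL = true := by decide +kernel

theorem toPerm_idL : Golay.toPerm idL = 1 := by
  rw [Golay.toPerm_eq_iff idL_valid.1]
  intro i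
  simp [idL, Golay.applyNum, Golay.idx_pt, Nat.mod_eq_of_lt i.isLt]

theorem wl_mem (a : ℕ) (ha : a < 128) : wl a ∈ J4Iso59.wList := by
  have hl : J4Iso59.wList.length = 64 := rfl
  rw [wl, List.getD_eq_getElem _ _ (by omega)]
  exact List.getElem_mem _

theorem wl_spec (a : ℕ) (ha : a < 128) :
    Golay.inM24 (wl a) = true ∧ Golay.validList (wl a) = true ∧
      Golay.toPerm (wl a) * Golay.toPerm (wl a) = 1 := by
  have h := List.all_eq_true.1 wl_ok _ (wl_mem a ha)
  simp only [Bool.and_eq_true, beq_iff_eq] at h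
  refine ⟨h.1, Golay.inM24.valid h.1, ?_⟩
  rw [← Golay.toPerm_mul (Golay.inM24.valid h.1) (Golay.inM24.valid h.1) (by rw [h.2]; exact idL_valid.1),
    h.2, toPerm_idL]

theorem wP_eq (a : ℕ) : wP a = Golay.toPerm (wl a) := rfl

theorem toPerm_comp_eq {a b c d : List ℕ} (ha : Golay.inM24 a = true) (hb : Golay.inM24 b = true)
    (hc : Golay.inM24 c = true) (hd : Golay.inM24 d = true)
    (e : Golay.compList a b = Golay.compList c d) :
    Golay.toPerm a * Golay.toPerm b = Golay.toPerm c * Golay.toPerm d := by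
  have hva := Golay.inM24.valid ha
  have hvb := Golay.inM24.valid hb
  have hvc := Golay.inM24.valid hc
  have hvd := Golay.inM24.valid hd
  refine Equiv.ext fun p => Golay.ptEquiv.injective (Fin.ext ?_)
  show (Golay.idx _).val = (Golay.idx _).val
  simp only [Equiv.Perm.mul_apply, Golay.idx_toPerm hva, Golay.idx_toPerm hvb, Golay.idx_toPerm hvc,
    Golay.idx_toPerm hvd]
  rw [← Golay.applyNum_compList a b (Fin.isLt _), e, Golay.applyNum_compList c d (Fin.isLt _)]

theorem low_triv_ok : (J4Two56.wList.all fun l =>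
    (l == idL) || (List.range 7).any fun k => !Nat.beq (actL l (2 ^ k)) (2 ^ k)) = true := by
  decide +kernel

/-- Members of `M₂₄` agreeing on the low coordinates are equal. -/
theorem low_ext {σ τ : Equiv.Perm GolayPt} (hσ : σ ∈ Cfsg.M24) (hτ : τ ∈ Cfsg.M24)
    (h : ∀ k, k < 7 → act σ (2 ^ k) = act τ (2 ^ k)) : σ = τ := by
  have hlt : ∀ k, k < 7 → (2 : ℕ) ^ k < 2048 := fun k hk =>
    lt_of_lt_of_le (Nat.pow_lt_pow_right (by norm_num) hk) (by norm_num)
  have hfix : ∀ k, k < 7 → act (τ⁻¹ * σ) (2 ^ k) = 2 ^ k := fun k hk => by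
    rw [act_mul (inv_mem hτ), h k hk, ← act_mul (inv_mem hτ), inv_mul_cancel, act_one (hlt k hk)]
  have hin : InW (τ⁻¹ * σ) := by
    refine ⟨mul_mem (inv_mem hτ) hσ, by simpa using hfix 0 (by norm_num), fun n hn => ?_⟩
    have hl := act_xor_self_lt (σ := τ⁻¹ * σ) 7
      (fun k hk => by rw [hfix k hk, Nat.xor_self]; norm_num) n hn
    have e : act (τ⁻¹ * σ) n = (act (τ⁻¹ * σ) n ^^^ n) ^^^ n := by
      rw [Nat.xor_assoc, Nat.xor_self, Nat.xor_zero]
    rcases Nat.le_one_iff_eq_zero_or_eq_one.1 (Nat.lt_succ_iff.1 hl) with e0 | e0 <;> rw [e, e0]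
    · exact Or.inl (Nat.zero_xor n)
    · exact Or.inr (Nat.xor_comm 1 n)
  obtain ⟨l, hl, e⟩ := inW_iff_mem.1 hin
  have hv : Golay.validList l = true := by
    have := List.all_eq_true.1 J4Two56.wList_ok l hl
    simp only [inWL, Bool.and_eq_true] at this
    exact Golay.inM24.valid this.1.1
  have h1 := List.all_eq_true.1 low_triv_ok l hl
  simp only [Bool.or_eq_true, beq_iff_eq, List.any_eq_true, List.mem_range, Bool.not_eq_true'] at h1
  rcases h1 with rfl | ⟨k, hk, hne⟩
  · rw [toPerm_idL] at e
    exact (inv_mul_eq_one.1 e.symm).symm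
  · exfalso
    have := hfix k hk
    rw [← e, act_toPerm hv] at this
    rw [this, Nat.beq_refl] at hne
    exact Bool.noConfusion hne

section

variable {G : Type u} [Group G] [Finite G] {z : G} {T : Todd G z} {S : Split56 G z T} (R : Second S)

include R in
theorem z_sq : z * z = 1 := by
  have h := R.T2.el_sq (a := 1) (by norm_num)
  rwa [R.T2.el_z] at h

theorem el2_low {a : ℕ} (ha : a < 128) : R.T2.el a = z ^ (a % 2) * kk S (Golay.toPerm (wl a)) :=
  R.low a ha

theorem isD_conj {g : G} {a b : ℕ} (ha : a < 2048) (hb : b < 2048) (hD : isD a = true)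
    (e : g * R.T2.el a * g⁻¹ = R.T2.el b) : isD b = true := by
  have hb0 : b ≠ 0 := fun h => by
    rw [h, R.T2.el_zero, conj_eq_one_iff] at e
    have h0 := R.T2.eq_zero_of_el ha e
    subst h0
    exact absurd hD (by decide +kernel)
  refine isD_of_not_conj (T := R.T2) hb hb0 fun hc => ?_
  have hc' : IsConj z (R.T2.el a) := hc.trans (isConj_iff.2 ⟨g, e⟩).symm
  have := ((R.T2.cls a ha).1 hc').2
  rw [hD] at this
  exact Bool.noConfusion this

/-- An element sending a low pair element to a low pair element normalises the second subgroup. -/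
theorem low_conj {g : G} {a b : ℕ} (ha : a < 2048) (hb : b < 2048) (hD : isD a = true)
    (e : g * R.T2.el a * g⁻¹ = R.T2.el b) : g ∈ Subgroup.normalizer (R.T2.V : Set G) := by
  have hbD := isD_conj R ha hb hD e
  refine R.T2.uniq g fun v hv => R.centD b hb hbD ?_
  obtain ⟨c, hc, rfl⟩ := (R.T2.mem_V v).1 hv
  rw [Subgroup.mem_centralizer_singleton_iff, ← e]
  calc g * R.T2.el c * g⁻¹ * (g * R.T2.el a * g⁻¹) = g * (R.T2.el c * R.T2.el a) * g⁻¹ := by group
    _ = g * (R.T2.el a * R.T2.el c) * g⁻¹ := by rw [R.T2.el_comm hc ha]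
    _ = g * R.T2.el a * g⁻¹ * (g * R.T2.el c * g⁻¹) := by group

theorem isD_two' : isD 2 = true := by decide +kernel

/-- The permutation induced on the second subgroup is the one with the given action on the low part. -/
theorem rho_eq {g : G} {L : List ℕ} (hL : Golay.inM24 L = true)
    (h : ∀ k, k < 7 → g * R.T2.el (2 ^ k) * g⁻¹ = R.T2.el (actL L (2 ^ k))) :
    ∃ hn : g ∈ Subgroup.normalizer (R.T2.V : Set G),
      ((R.T2.ρ ⟨g, hn⟩ : ↥Cfsg.M24) : Equiv.Perm GolayPt) = Golay.toPerm L := by
  have hv := Golay.inM24.valid hL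
  have hlt : ∀ k, k < 7 → (2 : ℕ) ^ k < 2048 := fun k hk =>
    lt_of_lt_of_le (Nat.pow_lt_pow_right (by norm_num) hk) (by norm_num)
  have hlt' : ∀ n, actL L n < 2048 := fun n => by rw [← act_toPerm hv]; exact act_lt _ _
  have hn := low_conj R (g := g) (a := 2 ^ 1) (hlt 1 (by norm_num)) (hlt' _) isD_two' (h 1 (by norm_num))
  refine ⟨hn, low_ext (R.T2.ρ _).2 (Golay.toPerm_mem_M24 hL) fun k hk => ?_⟩
  refine R.T2.el_inj _ (act_lt _ _) _ (act_lt _ _) ?_
  have h' := R.T2.ρ_spec ⟨g, hn⟩ (2 ^ k) (hlt k hk)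
  rw [← h', h k hk, act_toPerm hv]

theorem toPerm_mem_of_ok {r L : List ℕ} (h : thetaOK r L = true) :
    Golay.toPerm r ∈ Cfsg.M24 := by
  simp only [thetaOK, Bool.and_eq_true] at h
  exact Golay.toPerm_mem_M24 h.1.1.1

/-- A member of the stabiliser of the first sextet, on the second subgroup. -/
theorem theta {r L : List ℕ} (h : thetaOK r L = true) :
    ∃ hn : kl S r ∈ Subgroup.normalizer (R.T2.V : Set G),
      ((R.T2.ρ ⟨kl S r, hn⟩ : ↥Cfsg.M24) : Equiv.Perm GolayPt) = Golay.toPerm L := by
  simp only [thetaOK, Bool.and_eq_true, List.all_eq_true, List.mem_range, decide_eq_true_eq,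
    beq_iff_eq] at h
  obtain ⟨⟨⟨hr, hL⟩, h1⟩, hall⟩ := h
  have hrM := Golay.toPerm_mem_M24 hr
  have hrv := Golay.inM24.valid hr
  have hz : kk S (Golay.toPerm r) * z * (kk S (Golay.toPerm r))⁻¹ = z := by
    have e := kk_conj_el S hrM (a := 1) (by norm_num)
    rw [act_toPerm hrv, Nat.eq_of_beq_eq_true h1, T.el_z] at e
    exact e
  refine rho_eq R hL fun k hk => ?_
  obtain ⟨⟨hb, hpar⟩, hcomp⟩ := hall k hk
  have ha : 2 ^ k < 128 := lt_of_lt_of_le (Nat.pow_lt_pow_right (by norm_num) hk) (by norm_num)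
  set b := actL L (2 ^ k) with hbdef
  obtain ⟨hwa, -, -⟩ := wl_spec _ ha
  obtain ⟨hwb, -, -⟩ := wl_spec b hb
  have e1 : kk S (Golay.toPerm r) * kk S (Golay.toPerm (wl (2 ^ k))) =
      kk S (Golay.toPerm (wl b)) * kk S (Golay.toPerm r) := by
    rw [← kk_mul S hrM (Golay.toPerm_mem_M24 hwa), ← kk_mul S (Golay.toPerm_mem_M24 hwb) hrM,
      toPerm_comp_eq hr hwa hwb hr hcomp]
  have ez : ∀ m : ℕ, kk S (Golay.toPerm r) * z ^ m = z ^ m * kk S (Golay.toPerm r) := fun m =>
    ((show Commute (kk S (Golay.toPerm r)) z from mul_inv_eq_iff_eq_mul.1 hz).pow_right m).eq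
  rw [el2_low R ha, el2_low R hb, Nat.eq_of_beq_eq_true hpar, kl, mul_inv_eq_iff_eq_mul,
    ← mul_assoc, ez, mul_assoc, e1, mul_assoc]

/-- A low element of the first subgroup, on the second one. -/
theorem theta_el {n : ℕ} (hn0 : n < 2048) {L : List ℕ} (hL : Golay.inM24 L = true)
    (h : ((List.range 7).all fun k =>
      decide (actL (wl (2 ^ k)) n ^^^ n < 2) &&
        Nat.beq (actL L (2 ^ k)) (2 ^ k ^^^ (actL (wl (2 ^ k)) n ^^^ n))) = true) :
    ∃ hn : T.el n ∈ Subgroup.normalizer (R.T2.V : Set G),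
      ((R.T2.ρ ⟨T.el n, hn⟩ : ↥Cfsg.M24) : Equiv.Perm GolayPt) = Golay.toPerm L := by
  simp only [List.all_eq_true, List.mem_range, Bool.and_eq_true, decide_eq_true_eq] at h
  refine rho_eq R hL fun k hk => ?_
  obtain ⟨hd, hb⟩ := h k hk
  have ha : 2 ^ k < 128 := lt_of_lt_of_le (Nat.pow_lt_pow_right (by norm_num) hk) (by norm_num)
  obtain ⟨hw, hwv, hw2⟩ := wl_spec _ ha
  have hwM := Golay.toPerm_mem_M24 hw
  set d := actL (wl (2 ^ k)) n ^^^ n with hddef
  rw [Nat.eq_of_beq_eq_true hb, R.T2.el_xor _ (by omega) d (by omega), el2_low R ha]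
  have hzd : R.T2.el d = z ^ d := by
    rcases Nat.le_one_iff_eq_zero_or_eq_one.1 (Nat.lt_succ_iff.1 hd) with e | e <;> rw [e]
    · rw [R.T2.el_zero, pow_zero]
    · rw [R.T2.el_z, pow_one]
  have hTd : T.el d = z ^ d := by
    rcases Nat.le_one_iff_eq_zero_or_eq_one.1 (Nat.lt_succ_iff.1 hd) with e | e <;> rw [e]
    · rw [T.el_zero, pow_zero]
    · rw [T.el_z, pow_one]
  have hzn : z * T.el n = T.el n * z := by
    have := T.el_comm (a := 1) (b := n) (by norm_num) hn0
    rwa [T.el_z] at this
  set w := kk S (Golay.toPerm (wl (2 ^ k))) with hwdef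
  have hw' : w⁻¹ = w := by
    refine inv_eq_of_mul_eq_one_right ?_
    rw [hwdef, ← kk_mul S hwM hwM, hw2, kk_one]
  have hww : w * w = 1 := by
    have := inv_mul_cancel w
    rwa [hw'] at this
  have e1 : T.el n * w = w * T.el (act (Golay.toPerm (wl (2 ^ k))) n) := by
    have e := kk_conj_el S hwM hn0
    rw [← hwdef, hw'] at e
    rw [← e, ← mul_assoc, ← mul_assoc, hww, one_mul]
  have ed : T.el d = T.el (act (Golay.toPerm (wl (2 ^ k))) n) * T.el n := by
    rw [← T.el_xor _ (act_lt _ _) n hn0, act_toPerm hwv, hddef]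
  rw [hzd, ← hTd, ed, T.el_inv hn0]
  have ez : Commute (T.el n) (z ^ (2 ^ k % 2)) := (Commute.pow_right (hzn.symm : Commute (T.el n) z) _)
  calc T.el n * (z ^ (2 ^ k % 2) * w) * T.el n
      = z ^ (2 ^ k % 2) * (T.el n * w) * T.el n := by
        rw [← mul_assoc (T.el n), ez.eq, mul_assoc (z ^ (2 ^ k % 2)) (T.el n) w]
    _ = z ^ (2 ^ k % 2) * w * (T.el (act (Golay.toPerm (wl (2 ^ k))) n) * T.el n) := by
        rw [e1]; simp only [mul_assoc]

end

theorem k_ok : thetaOK qK hK = true ∧ actL hK tNum = tNum := by decide +kernel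

theorem tr_ok : thetaOK (Golay.compList qX (Golay.compList (wl 114) qX)) hTr = true ∧
    actL hTr tNum = tNum ∧ isD 114 = true := by decide +kernel

/-- The test for a given index of the lists. -/
def listTest (i : ℕ) : Bool :=
  thetaOK (rList.getD i []) (hList.getD i []) && Nat.beq (actL (rList.getD i []) 35) 35 &&
    thetaOK (Golay.compList qX (Golay.compList (rList.getD i []) qX)) (hList2.getD i []) &&
      Nat.beq (actL (hList2.getD i []) tNum) tNum

theorem lists_ok0 : ((List.range 6).all fun i => listTest (0 + i)) = true := by decide +kernel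

theorem lists_ok1 : ((List.range 6).all fun i => listTest (6 + i)) = true := by decide +kernel

theorem lists_ok2 : ((List.range 6).all fun i => listTest (12 + i)) = true := by decide +kernel

theorem lists_ok3 : ((List.range 6).all fun i => listTest (18 + i)) = true := by decide +kernel

theorem lists_ok4 : ((List.range 6).all fun i => listTest (24 + i)) = true := by decide +kernel

theorem lists_ok5 : ((List.range 6).all fun i => listTest (30 + i)) = true := by decide +kernel

theorem lists_ok6 : ((List.range 6).all fun i => listTest (36 + i)) = true := by decide +kernel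

theorem lists_ok7 : ((List.range 6).all fun i => listTest (42 + i)) = true := by decide +kernel

theorem lists_ok : ((List.range 48).all fun i =>
    thetaOK (rList.getD i []) (hList.getD i []) && Nat.beq (actL (rList.getD i []) 35) 35 &&
      thetaOK (Golay.compList qX (Golay.compList (rList.getD i []) qX)) (hList2.getD i []) &&
        Nat.beq (actL (hList2.getD i []) tNum) tNum) = true ∧ hList.length = 48 := by
  refine ⟨List.all_eq_true.2 fun i hi => ?_, rfl⟩
  rw [List.mem_range] at hi
  have key : ∀ b : ℕ, ((List.range 6).all fun j => listTest (b + j)) = true → b ≤ i → i < b + 6 →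
      listTest i = true := fun b hb h1 h2 => by
    have := List.all_eq_true.1 hb (i - b) (List.mem_range.2 (by omega))
    rwa [Nat.add_sub_cancel' h1] at this
  rcases Nat.lt_or_ge i 6 with h | h
  · exact key 0 lists_ok0 (by omega) h
  rcases Nat.lt_or_ge i 12 with h | h
  · exact key 6 lists_ok1 (by omega) h
  rcases Nat.lt_or_ge i 18 with h | h
  · exact key 12 lists_ok2 (by omega) h
  rcases Nat.lt_or_ge i 24 with h | h
  · exact key 18 lists_ok3 (by omega) h
  rcases Nat.lt_or_ge i 30 with h | h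
  · exact key 24 lists_ok4 (by omega) h
  rcases Nat.lt_or_ge i 36 with h | h
  · exact key 30 lists_ok5 (by omega) h
  rcases Nat.lt_or_ge i 42 with h | h
  · exact key 36 lists_ok6 (by omega) h
  exact key 42 lists_ok7 h (by omega)

theorem x_ok : Golay.inM24 qX = true ∧ Golay.compList qX qX = idL ∧ actL qX 1 = 35 := by
  decide +kernel

theorem pi_ok : Golay.inM24 pi0 = true ∧ ((List.range 7).all fun k =>
    decide (actL (wl (2 ^ k)) 35 ^^^ 35 < 2) &&
      Nat.beq (actL pi0 (2 ^ k)) (2 ^ k ^^^ (actL (wl (2 ^ k)) 35 ^^^ 35))) = true ∧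
    (List.range 7).any (fun k => !Nat.beq (actL pi0 (2 ^ k)) (2 ^ k)) = true := by decide +kernel

theorem cover_ok : PermCent.coverOK hList roots via = true := by decide +kernel

theorem cent_ok : ((PermCent.centList hList roots via).all fun l =>
    (l == idL) || (l == pi0) || !Nat.beq (actL l 114) 114) = true := by decide +kernel

/-- Two members of the listed images with only four common fixed numbers. -/
def fixPair : List (List ℕ) := [hList.getD 8 [], hList.getD 12 []]

theorem fixPair_sub : (fixPair.all fun h => hList.contains h) = true := by decide +kernel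

/-- The test on the block of 256 numbers from `256 * c`. -/
def fixTest (c : ℕ) : Bool :=
  (List.range 256).all fun j =>
    decide (256 * c + j ∈ [0, 1, 1408, 1409]) ||
      fixPair.any fun h => !Nat.beq (actL h (256 * c + j)) (256 * c + j)

theorem fix_ok0 : fixTest 0 = true := by decide +kernel

theorem fix_ok1 : fixTest 1 = true := by decide +kernel

theorem fix_ok2 : fixTest 2 = true := by decide +kernel

theorem fix_ok3 : fixTest 3 = true := by decide +kernel

theorem fix_ok4 : fixTest 4 = true := by decide +kernel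

theorem fix_ok5 : fixTest 5 = true := by decide +kernel

theorem fix_ok6 : fixTest 6 = true := by decide +kernel

theorem fix_ok7 : fixTest 7 = true := by decide +kernel

theorem fix_ok : ((List.range 2048).all fun a =>
    decide (a ∈ [0, 1, 1408, 1409]) || hList.any fun h => !Nat.beq (actL h a) a) = true := by
  refine List.all_eq_true.2 fun a ha => ?_
  rw [List.mem_range] at ha
  have hc : fixTest (a / 256) = true := by
    have : a / 256 < 8 := by omega
    interval_cases h : a / 256
    · exact fix_ok0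
    · exact fix_ok1
    · exact fix_ok2
    · exact fix_ok3
    · exact fix_ok4
    · exact fix_ok5
    · exact fix_ok6
    · exact fix_ok7
  have h := List.all_eq_true.1 hc (a % 256) (List.mem_range.2 (Nat.mod_lt _ (by norm_num)))
  rw [Nat.div_add_mod a 256] at h
  simp only [Bool.or_eq_true, List.any_eq_true] at h ⊢
  refine h.imp_right fun ⟨g, hg, hne⟩ => ⟨g, ?_, hne⟩
  exact List.contains_iff_mem.1 (List.all_eq_true.1 fixPair_sub g hg)

theorem cls_ok : isD 1408 = true ∧ isD tNum = false ∧ tNum = 1409 ∧ actL pi0 1 = 1 := by decide +kernel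

section

variable {G : Type u} [Group G] [Finite G] {z : G} {T : Todd G z} {S : Split56 G z T} (R : Second S)

theorem comm_of_ok {r L : List ℕ} (h : thetaOK r L = true) (hf : actL L tNum = tNum) :
    Commute (kl S r) (R.T2.el tNum) := by
  obtain ⟨hn, e⟩ := theta R h
  have hL : Golay.validList L = true := by
    simp only [thetaOK, Bool.and_eq_true] at h
    exact Golay.inM24.valid h.1.1.2
  have h' := R.T2.ρ_spec ⟨kl S r, hn⟩ tNum (by norm_num [tNum])
  rw [e, act_toPerm hL, hf] at h'
  exact mul_inv_eq_iff_eq_mul.1 h'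

/-- The conjugate of the third generator by the first one is itself. -/
theorem x_comm : Commute (kl S qX) (R.T2.el tNum) := by
  obtain ⟨hxM, hxx, hx1⟩ := x_ok
  have hxP := Golay.toPerm_mem_M24 hxM
  have hxv := Golay.inM24.valid hxM
  set kx := kl S qX with hkx
  set t := R.T2.el tNum with ht
  have htn : tNum < 2048 := by norm_num [tNum]
  have hkx2 : kx * kx = 1 := by
    rw [hkx, kl, ← kk_mul S hxP hxP, ← Golay.toPerm_mul hxv hxv (by rw [hxx]; exact idL_valid.1), hxx,
      toPerm_idL, kk_one]
  have hkxi : kx⁻¹ = kx := inv_eq_of_mul_eq_one_right hkx2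
  have hxz : kx * z * kx = T.el 35 := by
    have e := kk_conj_el S hxP (a := 1) (by norm_num)
    rw [act_toPerm hxv, hx1, T.el_z] at e
    rw [← e]
    show kx * z * kx = kx * z * kx⁻¹
    rw [hkxi]
  set t' := kx * t * kx with ht'
  have hback : kx * t' * kx = t := by
    rw [ht']
    calc kx * (kx * t * kx) * kx = (kx * kx) * t * (kx * kx) := by group
      _ = t := by rw [hkx2, one_mul, mul_one]
  -- a conjugate of a commuting element
  have hconj : ∀ {r L : List ℕ}, Golay.inM24 r = true →
      thetaOK (Golay.compList qX (Golay.compList r qX)) L = true → actL L tNum = tNum →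
        Commute (kl S r) t' := by
    intro r L hr hok hf
    have hc := comm_of_ok R hok hf
    have hrv := Golay.inM24.valid hr
    have hv2 : Golay.validList (Golay.compList qX (Golay.compList r qX)) = true := by
      simp only [thetaOK, Bool.and_eq_true] at hok
      exact Golay.inM24.valid hok.1.1.1
    have e : Golay.toPerm (Golay.compList qX (Golay.compList r qX)) =
        Golay.toPerm qX * Golay.toPerm r * Golay.toPerm qX := by
      refine Equiv.ext fun p => Golay.ptEquiv.injective (Fin.ext ?_)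
      show (Golay.idx _).val = (Golay.idx _).val
      simp only [Equiv.Perm.mul_apply, Golay.idx_toPerm hv2, Golay.idx_toPerm hxv, Golay.idx_toPerm hrv,
        Golay.applyNum_compList _ _ (Fin.isLt _)]
    rw [kl, e, kk_mul S (mul_mem hxP (Golay.toPerm_mem_M24 hr)) hxP,
      kk_mul S hxP (Golay.toPerm_mem_M24 hr)] at hc
    have hc' : Commute (kx * kl S r * kx) t := hc
    show kl S r * t' = t' * kl S r
    rw [ht']
    calc kl S r * (kx * t * kx) = (kx * kx) * (kl S r * kx * t) * kx := by rw [hkx2, one_mul]; group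
      _ = kx * (kx * kl S r * kx * t) * kx := by group
      _ = kx * (t * (kx * kl S r * kx)) * kx := by rw [hc'.eq]
      _ = kx * t * kx * kl S r * (kx * kx) := by group
      _ = kx * t * kx * kl S r := by rw [hkx2, mul_one]
  -- the conjugate normalises the second subgroup
  obtain ⟨htr, htrf, hD⟩ := tr_ok
  have hw114 : Commute (R.T2.el 114) t' := by
    rw [el2_low R (by norm_num), show (114 : ℕ) % 2 = 0 from rfl, pow_zero, one_mul]
    exact hconj (wl_spec 114 (by norm_num)).1 htr htrf
  have hN : t' ∈ Subgroup.normalizer (R.T2.V : Set G) :=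
    R.centD 114 (by norm_num) hD (Subgroup.mem_centralizer_singleton_iff.2 hw114.eq.symm)
  set n' : ↥(Subgroup.normalizer (R.T2.V : Set G)) := ⟨t', hN⟩ with hn'
  set σ : Equiv.Perm GolayPt := ((R.T2.ρ n' : ↥Cfsg.M24) : Equiv.Perm GolayPt) with hσdef
  have hσM : σ ∈ Cfsg.M24 := (R.T2.ρ n').2
  obtain ⟨hlist, hlen⟩ := lists_ok
  simp only [List.all_eq_true, List.mem_range, Bool.and_eq_true] at hlist
  have hrs : ∀ h ∈ hList, ∃ r : List ℕ, ∃ hn : kl S r ∈ Subgroup.normalizer (R.T2.V : Set G),
      Golay.validList h = true ∧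
      ((R.T2.ρ ⟨kl S r, hn⟩ : ↥Cfsg.M24) : Equiv.Perm GolayPt) = Golay.toPerm h ∧
      Commute (kl S r) t' ∧ Commute (kl S r) (T.el 35) := by
    intro h hh
    obtain ⟨i, hi, rfl⟩ := List.mem_iff_getElem.1 hh
    obtain ⟨⟨⟨h1, h2⟩, h3⟩, h4⟩ := hlist i (hlen ▸ hi)
    rw [List.getD_eq_getElem hList [] hi] at h1
    obtain ⟨hn, e⟩ := theta R h1
    simp only [thetaOK, Bool.and_eq_true] at h1
    obtain ⟨⟨⟨hr, hL⟩, -⟩, -⟩ := h1
    refine ⟨rList.getD i [], hn, Golay.inM24.valid hL, e, hconj hr h3 (Nat.eq_of_beq_eq_true h4), ?_⟩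
    have e2 := kk_conj_el S (Golay.toPerm_mem_M24 hr) (a := 35) (by norm_num)
    rw [act_toPerm (Golay.inM24.valid hr), Nat.eq_of_beq_eq_true h2] at e2
    exact mul_inv_eq_iff_eq_mul.1 e2
  have hσc : ∀ h ∈ hList, Commute σ (Golay.toPerm h) := by
    intro h hh
    obtain ⟨r, hn, -, e, hc, -⟩ := hrs h hh
    have e' := congrArg R.T2.ρ (show n' * ⟨kl S r, hn⟩ = ⟨kl S r, hn⟩ * n' from Subtype.ext hc.eq.symm)
    rw [map_mul, map_mul] at e'
    have e'' := congrArg Subtype.val e'
    rw [Subgroup.coe_mul, Subgroup.coe_mul, e] at e''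
    exact e''
  obtain ⟨hmem, hσL⟩ := PermCent.mem_centList cover_ok hσM hσc
  have hσd : actL (Golay.imageList σ) 114 = 114 := by
    rw [← act_toPerm (validList_imageList σ), hσL]
    refine R.T2.el_inj _ (act_lt _ _) _ (by norm_num) ?_
    rw [hσdef, ← R.T2.ρ_spec n' 114 (by norm_num)]
    show t' * R.T2.el 114 * t'⁻¹ = R.T2.el 114
    rw [← hw114.eq, mul_inv_cancel_right]
  have hcand := List.all_eq_true.1 cent_ok _ hmem
  simp only [Bool.or_eq_true, beq_iff_eq, hσd, Nat.beq_refl, Bool.not_true, Bool.false_eq_true,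
    or_false] at hcand
  -- the two candidates
  obtain ⟨hpiM, hpiK, hpi1⟩ := pi_ok
  obtain ⟨hvn, hvρ⟩ := theta_el R (n := 35) (by norm_num) hpiM hpiK
  have hv2 : T.el 35 * T.el 35 = 1 := T.el_sq (by norm_num)
  have hfix : ∀ u : ↥(Subgroup.normalizer (R.T2.V : Set G)), R.T2.ρ u = 1 →
      (∀ h ∈ hList, ∀ (r : List ℕ), Commute (kl S r) t' → Commute (kl S r) (T.el 35) →
        Commute (kl S r) (u : G)) →
      ∃ a ∈ [0, 1, 1408, 1409], (u : G) = R.T2.el a := by
    intro u hu hcu
    obtain ⟨a, ha, e⟩ := (R.T2.mem_V _).1 (R.T2.mem_V_of_ρ hu)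
    refine ⟨a, ?_, e.symm⟩
    have hf := List.all_eq_true.1 fix_ok a (List.mem_range.2 ha)
    simp only [Bool.or_eq_true, decide_eq_true_eq, List.any_eq_true, Bool.not_eq_true'] at hf
    refine hf.resolve_right ?_
    rintro ⟨h, hh, hne⟩
    obtain ⟨r, hn, hv, eρ, hc, hc35⟩ := hrs h hh
    have hk := hcu h hh r hc hc35
    have e3 : actL h a = a := by
      refine R.T2.el_inj _ (by rw [← act_toPerm hv]; exact act_lt _ _) _ ha ?_
      rw [← act_toPerm hv, ← eρ, ← R.T2.ρ_spec ⟨kl S r, hn⟩ a ha]
      show kl S r * R.T2.el a * (kl S r)⁻¹ = R.T2.el a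
      rw [e, hk.eq, mul_inv_cancel_right]
    rw [e3, Nat.beq_refl] at hne
    exact Bool.noConfusion hne
  obtain ⟨hD8, hQt, htv, -⟩ := cls_ok
  have hzt : IsConj z t := (R.T2.cls tNum htn).2 ⟨by norm_num [tNum], hQt⟩
  have hzt' : IsConj z t' := hzt.trans (isConj_iff.2 ⟨kx, by rw [hkxi]⟩)
  have hno8 : ¬ IsConj z (R.T2.el 1408) := fun hc => by
    have := ((R.T2.cls 1408 (by norm_num)).1 hc).2
    rw [hD8] at this
    exact Bool.noConfusion this
  -- the element 35 is not in the second subgroup
  have hvnot : T.el 35 ∉ R.T2.V := fun hv => by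
    have e := congrArg Subtype.val (R.T2.ρ_of_mem (n := ⟨T.el 35, hvn⟩) hv)
    rw [hvρ, Subgroup.coe_one] at e
    obtain ⟨k, hk, hne⟩ := List.any_eq_true.1 hpi1
    have hk2 : (2 : ℕ) ^ k < 2048 :=
      lt_of_lt_of_le (Nat.pow_lt_pow_right (by norm_num) (List.mem_range.1 hk)) (by norm_num)
    rw [Bool.not_eq_true', ← act_toPerm (Golay.inM24.valid hpiM), e, act_one hk2, Nat.beq_refl] at hne
    exact Bool.noConfusion hne
  have hpipi : Golay.toPerm pi0 * Golay.toPerm pi0 = 1 := by
    have e := congrArg Subtype.val (congrArg R.T2.ρ (show (⟨T.el 35, hvn⟩ : ↥(Subgroup.normalizer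
      (R.T2.V : Set G))) * ⟨T.el 35, hvn⟩ = 1 from Subtype.ext hv2))
    rw [map_mul, map_one, Subgroup.coe_mul, hvρ, Subgroup.coe_one] at e
    exact e
  have hsplit : ∀ a b : G, kx * (a * b) * kx = (kx * a * kx) * (kx * b * kx) := fun a b => by
    calc kx * (a * b) * kx = kx * a * 1 * b * kx := by group
      _ = kx * a * (kx * kx) * b * kx := by rw [hkx2]
      _ = (kx * a * kx) * (kx * b * kx) := by group
  have hx35 : kx * T.el 35 * kx = z := by
    rw [← hxz]
    calc kx * (kx * z * kx) * kx = (kx * kx) * z * (kx * kx) := by group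
      _ = z := by rw [hkx2, one_mul, mul_one]
  suffices hgoal : t' = t by
    show kx * t = t * kx
    calc kx * t = kx * t * (kx * kx) := by rw [hkx2, mul_one]
      _ = t' * kx := by rw [ht']; group
      _ = t * kx := by rw [hgoal]
  rcases hcand with hid | hpi
  · have hρ : R.T2.ρ n' = 1 := by
      refine Subtype.ext ?_
      rw [Subgroup.coe_one, ← toPerm_idL, ← hid, hσL]
    obtain ⟨a, ha, e⟩ := hfix n' hρ fun h _ r hc _ => hc
    simp only [List.mem_cons, List.not_mem_nil, or_false] at ha
    change t' = R.T2.el a at e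
    rcases ha with rfl | rfl | rfl | rfl
    · exfalso
      rw [R.T2.el_zero] at e
      rw [e, mul_one, hkx2] at hback
      have := R.T2.eq_zero_of_el htn hback.symm
      norm_num [tNum] at this
    · exfalso
      rw [R.T2.el_z] at e
      rw [e, hxz] at hback
      exact hvnot (hback ▸ R.T2.el_mem htn)
    · exact absurd (e ▸ hzt') hno8
    · exact e
  · set u : ↥(Subgroup.normalizer (R.T2.V : Set G)) := n' * ⟨T.el 35, hvn⟩ with hu
    have hρ : R.T2.ρ u = 1 := by
      refine Subtype.ext ?_
      rw [hu, map_mul, Subgroup.coe_mul, hvρ, Subgroup.coe_one, ← hσdef, ← hσL, hpi]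
      exact hpipi
    obtain ⟨a, ha, e⟩ := hfix u hρ fun h _ r hc hc35 => hc.mul_right hc35
    simp only [List.mem_cons, List.not_mem_nil, or_false] at ha
    change t' * T.el 35 = R.T2.el a at e
    have e' : t' = R.T2.el a * T.el 35 := by rw [← e, mul_assoc, hv2, mul_one]
    rcases ha with rfl | rfl | rfl | rfl
    · exfalso
      rw [R.T2.el_zero, one_mul] at e'
      rw [e', hx35] at hback
      have e2 : t = z := hback.symm
      have := R.T2.el_inj tNum htn 1 (by norm_num) (e2.trans R.T2.el_z.symm)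
      norm_num [tNum] at this
    · exfalso
      rw [R.T2.el_z] at e'
      have e2 : t = T.el 35 * z := by
        rw [← hback, e', hsplit, hxz, hx35]
      refine hvnot ?_
      have e3 : T.el 35 = t * z := by rw [e2, mul_assoc, z_sq R, mul_one]
      rw [e3]
      have hm : R.T2.el tNum * R.T2.el 1 ∈ R.T2.V := mul_mem (R.T2.el_mem htn) (R.T2.el_mem (by norm_num))
      rwa [R.T2.el_z] at hm
    · exfalso
      have hcx : kx * R.T2.el 1408 * kx⁻¹ = R.T2.el 1408 := by
        have e4 : R.T2.el 1408 = t * z := by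
          have h4 := R.T2.el_xor tNum htn 1 (by norm_num)
          rw [R.T2.el_z] at h4
          exact h4
        rw [hkxi]
        conv_lhs => rw [e4]
        rw [hsplit, hxz]
        exact e
      have hkN := low_conj R (by norm_num) (by norm_num) hD8 hcx
      refine hvnot ?_
      rw [← hxz, show kx * z * kx = kx * z * kx⁻¹ from by rw [hkxi]]
      have hzV : R.T2.el 1 ∈ R.T2.V := R.T2.el_mem (by norm_num)
      rw [R.T2.el_z] at hzV
      exact ((Subgroup.mem_normalizer_iff).1 hkN z).1 hzV
    · exfalso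
      refine hno8 (hzt.trans (isConj_iff.2 ⟨kx, ?_⟩ : IsConj (R.T2.el 1408) t).symm)
      rw [hkxi]
      have e4 : R.T2.el 1408 = t * z := by
        have h4 := R.T2.el_xor tNum htn 1 (by norm_num)
        rw [R.T2.el_z] at h4
        exact h4
      rw [e4, hsplit, hxz]
      show t' * T.el 35 = t
      rw [e', mul_assoc, hv2, mul_one, ht]
      rfl

end

end Cfsg.Agent.Lib.J4Iso59.Tee

namespace Cfsg.Agent.Lib.J4Iso59

/-- **TEE.** -/
theorem teeStmt : TeeStmt.{u} := fun _ _ _ _ _ _ R _ =>
  ⟨Tee.x_comm R, Tee.comm_of_ok R Tee.k_ok.1 Tee.k_ok.2⟩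

end Cfsg.Agent.Lib.J4Iso59
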