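import Cfsg.Agent.Lib.J4Iso59.Spec
import Cfsg.Agent.Lib.J4Two56.BCount
import Cfsg.Agent.Lib.J4Two56.SplitGlue
import Cfsg.Agent.Lib.SECount.Basic

/-!
# The normaliser and one further member of the centraliser of `z` generate

A proper subgroup containing both would contain the centralisers of all its involutions, so it would be
strongly embedded; but there are two classes of involutions.
-/

set_option autoImplicit false

universe u

namespace Cfsg.Agent.Lib.J4Iso59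

open Cfsg Cfsg.Agent.Lib Cfsg.Agent.Lib.J4Two56 Cfsg.Agent.Lib.J4Type19 Subgroup

/-- The kinds of the planes in the list, and the ranges of their data. -/
theorem top_planeList_ok : ((List.range 77).all fun j =>
    decide ((M22D.planeList.getD j (0, 0, [])).1 < 3) &&
    decide ((M22D.planeList.getD j (0, 0, [])).2.1 < 16) &&
    ((M22D.planeList.getD j (0, 0, [])).2.2.all fun k => decide (k < 4)) &&
    decide ((M22D.planeList.getD j (0, 0, [])).1 = 0 → j = 0)) = true ∧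
    (∀ e, e < 3 → e ≠ 0 →
      12 ≤ ((List.range 77).filter fun j => decide ((M22D.planeList.getD j (0, 0, [])).1 = e)).length) := by
  decide +kernel

section

variable {G : Type u} [Group G] [Finite G] {z : G} {P : Subgroup G} {D : HData z P} {X : Plus M22t}
  {L : Lifts D.toJMod X.F} (l : Loc D X L)

omit [Finite G] in
/-- An element permuting the indexed members of `U0` normalises it. -/
theorem top_n_norm {k : ℕ} (hk : k < 4) {u : M22t} (hu : u ∈ X.F.U0) : X.n k * u * (X.n k)⁻¹ ∈ X.F.U0 := by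
  obtain ⟨i, hi, rfl⟩ := X.u_surj u hu
  rw [X.nu k hk i hi]
  exact X.u_mem _ (Split.uP_lt hk hi)

theorem top_word_norm : ∀ w : List ℕ, (∀ k ∈ w, k < 4) → ∀ u ∈ X.F.U0,
    wordVal X.n w * u * (wordVal X.n w)⁻¹ ∈ X.F.U0
  | [], _, u, hu => by simpa [wordVal] using hu
  | k :: w, hw, u, hu => by
    have e : wordVal X.n (k :: w) = X.n k * wordVal X.n w := rfl
    rw [e]
    have h1 := top_n_norm (hw k List.mem_cons_self)
      (top_word_norm w (fun x hx => hw x (List.mem_cons_of_mem _ hx)) u hu)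
    simpa [mul_assoc] using h1

theorem top_elem11 : Elem11 z l.T.V :=
  ⟨Split.V_le_cH l, fun b hb => by
    obtain ⟨a, ha, rfl⟩ := (l.T.mem_V b).1 hb
    exact l.T.el_sq ha, l.T.card_V⟩

/-- A lift of a member of the stabiliser of the first plane normalises the subgroup. -/
theorem top_lift_mem {c : ↥(cC z P)} {m : M22t} (hc : D.π c = m)
    (hm : ∀ u ∈ X.F.U0, m * u * m⁻¹ ∈ X.F.U0) : (c : G) ∈ normalizer (l.T.V : Set G) := by
  refine (mem_normalizer_iff_φ L (top_elem11 l) l.mem_B c.2.1).2 fun u hu => ?_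
  rw [← D.π_eq, hc]
  exact hm u hu

/-- A subgroup containing the normaliser and a further member of the centraliser of `z` contains all of it. -/
theorem top_cH_le {J : Subgroup G} (hN : normalizer (l.T.V : Set G) ≤ J) {t : G} (htH : t ∈ cH z)
    (htJ : t ∈ J) (htN : t ∉ normalizer (l.T.V : Set G)) : cH z ≤ J := by
  classical
  obtain ⟨hrow, hcnt⟩ := top_planeList_ok
  simp only [List.all_eq_true, Bool.and_eq_true, decide_eq_true_eq, List.mem_range] at hrow
  obtain ⟨K, hK⟩ : ∃ K, K = (normalizer (l.T.V : Set G)).subgroupOf (cH z) := ⟨_, rfl⟩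
  obtain ⟨R, hR⟩ : ∃ R, R = J.subgroupOf (cH z) := ⟨_, rfl⟩
  have hKR : K ≤ R := fun x hx => by
    rw [hK, mem_subgroupOf] at hx
    rw [hR, mem_subgroupOf]
    exact hN hx
  have hidx : K.index = 77 := hK ▸ index_stab L (top_elem11 l) l.mem_B
  have hiff : ∀ h : ↥(cH z), h ∈ K ↔ ∀ u ∈ X.F.U0, D.φ h u ∈ X.F.U0 := fun h => by
    rw [hK, mem_subgroupOf]
    exact mem_normalizer_iff_φ L (top_elem11 l) l.mem_B h.2
  have hc : ∀ j : ℕ, ∃ c : ↥(cC z P), D.π c = X.pl j := fun j => D.πsurj _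
  choose c hc using hc
  let ch : ℕ → ↥(cH z) := fun j => ⟨(c j : G), (c j).2.1⟩
  have hch : ∀ j, D.φ (ch j) = MulAut.conj (X.pl j) := fun j => by
    show D.φ ⟨(c j : G), _⟩ = _
    rw [← D.π_eq, hc]
  have hsame : ∀ i, i < 77 → ∀ j, j < 77 → (ch i)⁻¹ * ch j ∈ K → i = j := by
    intro i hi j hj h
    have h' := (hiff _).1 h
    refine (X.planes_inj j hj i hi (Subgroup.eq_of_le_of_card_ge ?_ ?_)).symm
    · rintro _ ⟨u, hu, rfl⟩
      rw [mem_conjSub]
      have := h' u hu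
      rw [map_mul, map_inv, hch, hch, ← map_inv, ← map_mul] at this
      simpa [mul_assoc] using this
    · rw [← Nat.card_congr (Subgroup.equivMapOfInjective X.F.U0 _ (MulAut.conj (X.pl i)).injective).toEquiv,
        ← Nat.card_congr (Subgroup.equivMapOfInjective X.F.U0 _ (MulAut.conj (X.pl j)).injective).toEquiv]
  -- the planes of the list cover the cosets
  let mk' : Fin 77 → ↥(cH z) ⧸ K := fun j => QuotientGroup.mk (ch j)
  have hbij : Function.Bijective mk' := by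
    refine (Nat.bijective_iff_injective_and_card mk').2 ⟨fun i j h => ?_, ?_⟩
    · exact Fin.ext (hsame i i.2 j j.2 (QuotientGroup.eq.1 h))
    · rw [Nat.card_fin, ← Subgroup.index_eq_card, hidx]
  obtain ⟨j0, hj0⟩ := hbij.2 (QuotientGroup.mk (⟨t, htH⟩ : ↥(cH z)))
  have hj0R : ch j0 ∈ R := by
    have h := hKR (QuotientGroup.eq.1 hj0)
    have ht : (⟨t, htH⟩ : ↥(cH z)) ∈ R := by rw [hR, mem_subgroupOf]; exact htJ
    have h2 := mul_mem ht (inv_mem h)
    rwa [mul_inv_rev, inv_inv, mul_inv_cancel_left] at h2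
  -- membership in `R` only depends on the image, and the first factors of the listed planes lie in it
  have hcong : ∀ x y : ↥(cH z), D.φ x = D.φ y → x ∈ R → y ∈ R := by
    intro x y hxy hx
    have h : x⁻¹ * y ∈ K := (hiff _).2 fun u hu => by
      rw [map_mul, map_inv, hxy, inv_mul_cancel]; exact hu
    have := mul_mem hx (hKR h)
    rwa [mul_inv_cancel_left] at this
  have hpre : ∀ j, j < 77 → ∃ g : ↥(cH z), g ∈ K ∧
      D.φ g = MulAut.conj (X.u (M22D.planeList.getD j (0, 0, [])).2.1 *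
        wordVal X.n (M22D.planeList.getD j (0, 0, [])).2.2) := by
    intro j hj
    obtain ⟨⟨⟨-, hi⟩, hw⟩, -⟩ := hrow j hj
    obtain ⟨g, hg⟩ := φ_surjective D (MulAut.conj (X.u (M22D.planeList.getD j (0, 0, [])).2.1 *
      wordVal X.n (M22D.planeList.getD j (0, 0, [])).2.2))
    refine ⟨g, (hiff g).2 fun u hu => ?_, hg⟩
    rw [hg]
    have h1 := top_word_norm _ hw u hu
    have h2 := mul_mem (mul_mem (X.u_mem _ hi) h1) (inv_mem (X.u_mem _ hi))
    simpa [mul_assoc] using h2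
  -- the distinguished element of the kind of `t`
  have hkind : (M22D.planeList.getD j0 (0, 0, [])).1 ≠ 0 := by
    intro h0
    have hj00 : (j0 : ℕ) = 0 := (hrow j0 j0.2).2 h0
    have hK0 : ch j0 ∈ K := (hiff _).2 fun u hu => by
      rw [hch, hj00, X.pl_eq 0 (by norm_num)]
      simpa [M22D.planeList, wordVal, Split.u_zero] using hu
    have h := mul_mem hK0 (QuotientGroup.eq.1 hj0)
    rw [mul_inv_cancel_left, hK, mem_subgroupOf] at h
    exact htN h
  obtain ⟨e, he⟩ : ∃ e, e = (M22D.planeList.getD j0 (0, 0, [])).1 := ⟨_, rfl⟩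
  have hsame_kind : ∀ j, j < 77 → (M22D.planeList.getD j (0, 0, [])).1 = e → ch j ∈ R := by
    intro j hj hje
    obtain ⟨a, ha, hae⟩ := hpre j0 j0.2
    obtain ⟨b, hb, hbe⟩ := hpre j hj
    refine hcong (b * a⁻¹ * ch j0) _ ?_ (mul_mem (mul_mem (hKR hb) (inv_mem (hKR ha))) hj0R)
    rw [map_mul, map_mul, map_inv, hch, hch, hae, hbe, ← map_inv, ← map_mul, ← map_mul,
      X.pl_eq j hj, X.pl_eq j0 j0.2, hje, he]
    congr 1
    group
  -- count
  obtain ⟨S, hS⟩ : ∃ S, S = (List.range 77).filter fun j =>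
      decide ((M22D.planeList.getD j (0, 0, [])).1 = e) := ⟨_, rfl⟩
  have hSlen : 12 ≤ S.length := hS ▸ hcnt e (he ▸ (hrow j0 j0.2).1.1.1) (he ▸ hkind)
  have hSmem : ∀ j ∈ S, j < 77 ∧ ch j ∈ R := fun j hj => by
    rw [hS, List.mem_filter, List.mem_range, decide_eq_true_eq] at hj
    exact ⟨hj.1, hsame_kind j hj.1 hj.2⟩
  have hnd : S.Nodup := hS ▸ List.nodup_range.filter _
  let f : Fin S.length → ↥R ⧸ K.subgroupOf R := fun i =>
    QuotientGroup.mk (⟨ch (S.get i), (hSmem _ (List.get_mem S i)).2⟩ : ↥R)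
  have hf : Function.Injective f := by
    intro i i' h
    have h1 := QuotientGroup.eq.1 h
    rw [mem_subgroupOf] at h1
    exact (List.nodup_iff_injective_get.1 hnd)
      (hsame _ (hSmem _ (List.get_mem S i)).1 _ (hSmem _ (List.get_mem S i')).1 h1)
  have hle : 12 ≤ K.relIndex R := by
    rw [Subgroup.relIndex, Subgroup.index_eq_card]
    have := Nat.card_le_card_of_injective f hf
    rw [Nat.card_fin] at this
    omega
  have hmul := Subgroup.relIndex_mul_index hKR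
  rw [hidx] at hmul
  have hone : R.index = 1 := by
    have hd : R.index ∣ 77 := Dvd.intro_left _ hmul
    have hle7 : R.index ≤ 7 := by
      by_contra hgt
      have : 12 * R.index ≤ 77 := hmul ▸ Nat.mul_le_mul_right _ hle
      omega
    generalize R.index = r at hmul hd hle7
    interval_cases r <;> omega
  intro x hx
  have h : (⟨x, hx⟩ : ↥(cH z)) ∈ R := by rw [Subgroup.index_eq_one.1 hone]; exact mem_top _
  rwa [hR, mem_subgroupOf] at h

/-- An involution of the extraspecial group is conjugate into the subgroup by a member of the centraliser. -/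
theorem top_E_conj {e : G} (he : e ∈ cE z) (h2 : e * e = 1) : ∃ g ∈ cH z, g * e * g⁻¹ ∈ l.T.V := by
  obtain ⟨U, hU, hUe⟩ := (planesStmt G z P D X L l.f).2.2 ⟨e, he⟩ (Subtype.ext h2)
  obtain ⟨g, -, hg⟩ := D.toJMod.good_conj L hU (IsPGroup.of_card (n := 4) (by rw [hU.1]; norm_num)) le_rfl
  obtain ⟨c, rfl⟩ := D.πsurj g
  refine ⟨c, c.2.1, Split.mem_V_of_fix l (e := cEAut (c : G) c.2.1 ⟨e, he⟩) ?_⟩
  rw [← smul_mk]
  refine D.toJMod.mem_fix_smul ?_ hUe
  intro x hx
  rw [← hg] at hx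
  obtain ⟨y, hy, rfl⟩ := hx
  show (D.π c)⁻¹ * _ * D.π c ∈ U
  simpa [mul_assoc] using (show y ∈ U from hy)

variable {J : Subgroup G} (hN : normalizer (l.T.V : Set G) ≤ J) (hH : cH z ≤ J)
include hN hH

/-- An involution of the normaliser is conjugate into the subgroup inside a subgroup containing both. -/
theorem top_N_conj (S : Split56 G z l.T) {u : G} (hu : u ∈ normalizer (l.T.V : Set G)) (hu2 : u * u = 1) :
    ∃ g ∈ J, g * u * g⁻¹ ∈ l.T.V := by
  set un : ↥(normalizer (l.T.V : Set G)) := ⟨u, hu⟩ with hun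
  by_cases hσ : l.T.ρ un = 1
  · exact ⟨1, one_mem _, by simpa using l.T.mem_V_of_ρ hσ⟩
  obtain ⟨k, hkK, hkσ⟩ := S.iso (l.T.ρ un)
  set σ : Equiv.Perm GolayPt := ((l.T.ρ un : ↥Cfsg.M24) : Equiv.Perm GolayPt) with hσdef
  have hσM : σ ∈ Cfsg.M24 := (l.T.ρ un).2
  have hsq : l.T.ρ un * l.T.ρ un = 1 := by
    rw [← map_mul, show un * un = 1 from Subtype.ext hu2, map_one]
  have hσ2 : σ * σ = 1 := congrArg Subtype.val hsq
  have hσ1 : σ ≠ 1 := fun h => hσ (Subtype.ext h)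
  have hk2 : (k : G) * k = 1 := by
    refine split_mem_K_inf S (S.K.mul_mem hkK hkK) ?_
    have h1 : l.T.ρ (k * k) = 1 := by rw [map_mul, hkσ, hsq]
    exact l.T.mem_V_of_ρ h1
  obtain ⟨c, hc, hce⟩ := (l.T.mem_V _).1 (l.T.mem_V_of_ρ
    (show l.T.ρ (k⁻¹ * un) = 1 by rw [map_mul, map_inv, hkσ, inv_mul_cancel]))
  have huk : u = (k : G) * l.T.el c := by
    rw [hce]
    simp [hun]
  have helk : ∀ {a}, a < 2048 → l.T.el a * (k : G) = (k : G) * l.T.el (act σ a) := by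
    intro a ha
    have h := l.T.el_mul_norm (n := k) (act_lt σ a)
    rw [hkσ] at h
    rw [h, ← act_mul hσM, hσ2, act_one ha]
  have hfix : act σ c = c := by
    have h1 : u * u = l.T.el (act σ c) * l.T.el c := by
      rw [huk]
      calc (k : G) * l.T.el c * ((k : G) * l.T.el c) = (k : G) * (l.T.el c * k) * l.T.el c := by group
        _ = (k : G) * k * l.T.el (act σ c) * l.T.el c := by rw [helk hc]; group
        _ = _ := by rw [hk2, one_mul]
    rw [hu2, ← l.T.el_xor _ (act_lt σ c) _ hc] at h1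
    exact Nat.xor_eq_zero_iff.1 (l.T.eq_zero_of_el (xor_lt (act_lt σ c) hc) h1.symm)
  obtain ⟨g, hgM, d, hd, hW, hlt⟩ := cover hσM hσ2 hσ1 hc hfix
  set c' := c ^^^ d ^^^ act σ d with hc'
  have hc'lt : c' < 2048 := xor_lt (xor_lt hc hd) (act_lt σ d)
  have hu1 : l.T.el d * u * (l.T.el d)⁻¹ = (k : G) * l.T.el c' := by
    rw [huk, l.T.el_inv hd]
    calc l.T.el d * ((k : G) * l.T.el c) * l.T.el d = (l.T.el d * k) * (l.T.el c * l.T.el d) := by group
      _ = (k : G) * (l.T.el (act σ d) * (l.T.el c * l.T.el d)) := by rw [helk hd]; group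
      _ = _ := by
        rw [← l.T.el_xor c hc d hd, ← l.T.el_xor _ (act_lt σ d) _ (xor_lt hc hd), hc', Nat.xor_comm]
  obtain ⟨m, hmK, hmσ⟩ := S.iso ⟨g, hgM⟩
  have hk' : (((m * k * m⁻¹ : ↥(normalizer (l.T.V : Set G))) : G)) ∈ S.K := by
    simp only [Subgroup.coe_mul, Subgroup.coe_inv]
    exact S.K.mul_mem (S.K.mul_mem hmK hkK) (S.K.inv_mem hmK)
  have hρk' : ((l.T.ρ (m * k * m⁻¹) : ↥Cfsg.M24) : Equiv.Perm GolayPt) = g * σ * g⁻¹ := by
    rw [map_mul, map_mul, map_inv, hmσ, hkσ]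
    rfl
  have hE1 := S.hW _ hk' (by rw [hρk']; exact hW)
  have hE2 := S.hX _ hlt
  set e := (m : G) * ((k : G) * l.T.el c') * (m : G)⁻¹ with he
  have hee : e = ((m * k * m⁻¹ : ↥(normalizer (l.T.V : Set G))) : G) * l.T.el (act g c') := by
    have h := l.T.ρ_spec m c' hc'lt
    rw [hmσ] at h
    change (m : G) * l.T.el c' * (m : G)⁻¹ = l.T.el (act g c') at h
    rw [← h, he]
    simp [mul_assoc]
  have heE : e ∈ cE z := by
    rw [hee]
    exact Subgroup.mul_mem _ hE1 hE2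
  have he2 : e * e = 1 := by
    rw [he, ← hu1]
    calc _ = (m : G) * l.T.el d * (u * u) * (l.T.el d)⁻¹ * (m : G)⁻¹ := by group
      _ = 1 := by rw [hu2]; group
  obtain ⟨w, hwH, hw⟩ := top_E_conj l heE he2
  refine ⟨w * m * l.T.el d, mul_mem (mul_mem (hH hwH) (hN m.2))
    (hN (Subgroup.le_normalizer (l.T.el_mem hd))), ?_⟩
  rw [he, ← hu1] at hw
  simpa [mul_assoc] using hw

/-- The centraliser of a member of the subgroup. -/
theorem top_cent_le (hCD : l.T.CentD) {a : ℕ} (ha : a < 2048) (h0 : a ≠ 0) {x : G}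
    (hx : x * l.T.el a = l.T.el a * x) : x ∈ J := by
  by_cases hD : isD a = true
  · exact hN (hCD a ha hD (mem_centralizer_singleton_iff.2 hx))
  obtain ⟨σ, hσ, hσa⟩ := trans_Q ha ⟨h0, by simpa using hD⟩
  obtain ⟨n, hn⟩ := l.T.ρ_surj ⟨σ, hσ⟩
  have h1 : (n : G) * l.T.el a * (n : G)⁻¹ = z := by
    rw [l.T.ρ_spec n a ha, hn]
    exact (congrArg l.T.el hσa).trans l.T.el_z
  have h2 : (n : G) * x * (n : G)⁻¹ ∈ cH z := by
    refine mem_centralizer_singleton_iff.2 ?_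
    suffices key : (n : G) * x * (n : G)⁻¹ * ((n : G) * l.T.el a * (n : G)⁻¹) =
        (n : G) * l.T.el a * (n : G)⁻¹ * ((n : G) * x * (n : G)⁻¹) by rwa [h1] at key
    calc (n : G) * x * (n : G)⁻¹ * ((n : G) * l.T.el a * (n : G)⁻¹) = n * (x * l.T.el a) * (n : G)⁻¹ := by group
      _ = n * (l.T.el a * x) * (n : G)⁻¹ := by rw [hx]
      _ = _ := by group
  have h3 := mul_mem (mul_mem (inv_mem (hN n.2)) (hH h2)) (hN n.2)
  simpa [mul_assoc] using h3

/-- An involution of the centraliser of `z` is conjugate into the subgroup inside `J`. -/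
theorem top_H_conj (S : Split56 G z l.T) {u : G} (hu : u ∈ cH z) (hu2 : u * u = 1) :
    ∃ g ∈ J, g * u * g⁻¹ ∈ l.T.V := by
  classical
  have : Fact (Nat.Prime 2) := ⟨Nat.prime_two⟩
  obtain ⟨K, hK⟩ : ∃ K, K = (normalizer (l.T.V : Set G)).subgroupOf (cH z) := ⟨_, rfl⟩
  have hidx : K.index = 77 := hK ▸ index_stab L (top_elem11 l) l.mem_B
  let U : Subgroup ↥(cH z) := zpowers ⟨u, hu⟩
  have hU : IsPGroup 2 ↥U := fun x => ⟨1, Subtype.ext (by
    obtain ⟨n, hn⟩ := mem_zpowers_iff.1 x.2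
    rw [SubgroupClass.coe_pow, ← hn, pow_one, pow_two, ← zpow_add, ← two_mul, zpow_mul, zpow_two,
      show (⟨u, hu⟩ : ↥(cH z)) * ⟨u, hu⟩ = 1 from Subtype.ext hu2, one_zpow]
    rfl)⟩
  obtain ⟨q, hq⟩ : ∃ q : ↥(cH z) ⧸ K, ∀ x ∈ U, x • q = q := by
    have hmod := hU.card_modEq_card_fixedPoints (↥(cH z) ⧸ K)
    rw [← Subgroup.index_eq_card, hidx] at hmod
    have hne : Nat.card (MulAction.fixedPoints ↥U (↥(cH z) ⧸ K)) ≠ 0 := fun h => by
      rw [h] at hmod
      exact absurd hmod (by decide)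
    obtain ⟨⟨q, hq⟩⟩ := (Nat.card_ne_zero.1 hne).1
    exact ⟨q, fun x hx => hq ⟨x, hx⟩⟩
  obtain ⟨h, rfl⟩ := QuotientGroup.mk_surjective q
  have h1 : h⁻¹ * ⟨u, hu⟩ * h ∈ K := by
    have h2 := hq ⟨u, hu⟩ (mem_zpowers _)
    rw [MulAction.Quotient.smul_mk, QuotientGroup.eq, smul_eq_mul, mul_inv_rev] at h2
    have h3 := inv_mem h2
    simpa [mul_assoc] using h3
  rw [hK, mem_subgroupOf] at h1
  have h4 : (h : G)⁻¹ * u * h ∈ normalizer (l.T.V : Set G) := h1
  obtain ⟨g, hg, hgu⟩ := top_N_conj l hN hH S h4 (by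
    calc (h : G)⁻¹ * u * h * ((h : G)⁻¹ * u * h) = (h : G)⁻¹ * (u * u) * h := by group
      _ = 1 := by rw [hu2]; group)
  exact ⟨g * (h : G)⁻¹, mul_mem hg (inv_mem (hH h.2)), by simpa [mul_assoc] using hgu⟩

/-- An involution of `J` commuting with a member of the subgroup is conjugate into it inside `J`. -/
theorem top_comm_conj (S : Split56 G z l.T) (hCD : l.T.CentD) {u : G} (hu2 : u * u = 1)
    {a : ℕ} (ha : a < 2048) (h0 : a ≠ 0) (hx : u * l.T.el a = l.T.el a * u) :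
    ∃ g ∈ J, g * u * g⁻¹ ∈ l.T.V := by
  by_cases hD : isD a = true
  · exact top_N_conj l hN hH S (hCD a ha hD (mem_centralizer_singleton_iff.2 hx)) hu2
  obtain ⟨σ, hσ, hσa⟩ := trans_Q ha ⟨h0, by simpa using hD⟩
  obtain ⟨n, hn⟩ := l.T.ρ_surj ⟨σ, hσ⟩
  have h1 : (n : G) * l.T.el a * (n : G)⁻¹ = z := by
    rw [l.T.ρ_spec n a ha, hn]
    exact (congrArg l.T.el hσa).trans l.T.el_z
  have h2 : (n : G) * u * (n : G)⁻¹ ∈ cH z := by
    refine mem_centralizer_singleton_iff.2 ?_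
    suffices key : (n : G) * u * (n : G)⁻¹ * ((n : G) * l.T.el a * (n : G)⁻¹) =
        (n : G) * l.T.el a * (n : G)⁻¹ * ((n : G) * u * (n : G)⁻¹) by rwa [h1] at key
    calc (n : G) * u * (n : G)⁻¹ * ((n : G) * l.T.el a * (n : G)⁻¹) = n * (u * l.T.el a) * (n : G)⁻¹ := by group
      _ = n * (l.T.el a * u) * (n : G)⁻¹ := by rw [hx]
      _ = _ := by group
  obtain ⟨g, hg, hgu⟩ := top_H_conj l hN hH S h2 (by
    calc (n : G) * u * (n : G)⁻¹ * ((n : G) * u * (n : G)⁻¹) = n * (u * u) * (n : G)⁻¹ := by group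
      _ = 1 := by rw [hu2]; group)
  exact ⟨g * n, mul_mem hg (hN n.2), by simpa [mul_assoc] using hgu⟩

omit hN hH in
/-- Two involutions of `J` that are not conjugate in `J` commute with a common involution of `J`. -/
theorem top_between {u v : G} (hu : u ∈ J) (hv : v ∈ J) (hu2 : u * u = 1) (hv2 : v * v = 1)
    (hnc : ∀ g ∈ J, g * u * g⁻¹ ≠ v) :
    ∃ w ∈ J, w * w = 1 ∧ w ≠ 1 ∧ w * u = u * w ∧ w * v = v * w := by
  obtain ⟨n, hn⟩ : ∃ n, n = orderOf (u * v) := ⟨_, rfl⟩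
  have huinv : u⁻¹ = u := inv_eq_of_mul_eq_one_right hu2
  have hvinv : v⁻¹ = v := inv_eq_of_mul_eq_one_right hv2
  have hflip : ∀ k : ℕ, u * (u * v) ^ k * u⁻¹ = ((u * v) ^ k)⁻¹ := fun k => by
    rw [← conj_pow, ← inv_pow, mul_inv_rev, huinv, hvinv, ← mul_assoc, hu2, one_mul]
  have hflip' : ∀ k : ℕ, v * (u * v) ^ k * v⁻¹ = ((u * v) ^ k)⁻¹ := fun k => by
    rw [← conj_pow, ← inv_pow, mul_inv_rev, huinv, hvinv, mul_assoc, mul_assoc, hv2, mul_one]
  rcases Nat.even_or_odd n with ⟨k, hk⟩ | ⟨k, hk⟩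
  · have hpos : 0 < n := hn ▸ orderOf_pos _
    obtain ⟨w, hw⟩ : ∃ w, w = (u * v) ^ k := ⟨_, rfl⟩
    have hw2 : w * w = 1 := by rw [hw, ← pow_add, ← hk, hn, pow_orderOf_eq_one]
    have hwinv : w⁻¹ = w := inv_eq_of_mul_eq_one_right hw2
    refine ⟨w, hw ▸ pow_mem (mul_mem hu hv) k, hw2, ?_, ?_, ?_⟩
    · intro h
      have := orderOf_dvd_of_pow_eq_one (hw ▸ h)
      rw [← hn] at this
      have := Nat.le_of_dvd (by omega) this
      omega
    · have h := hflip k
      rw [← hw, hwinv, mul_inv_eq_iff_eq_mul] at h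
      exact h.symm
    · have h := hflip' k
      rw [← hw, hwinv, mul_inv_eq_iff_eq_mul] at h
      exact h.symm
  · exfalso
    refine hnc ((u * v) ^ k) (pow_mem (mul_mem hu hv) k) ?_
    have h1 : (u * v) ^ (2 * k + 1) = 1 := by rw [← hk, hn, pow_orderOf_eq_one]
    have h2 : u * ((u * v) ^ k)⁻¹ = (u * v) ^ k * u := by
      rw [← hflip k, huinv]
      calc u * (u * (u * v) ^ k * u) = u * u * (u * v) ^ k * u := by group
        _ = _ := by rw [hu2, one_mul]
    have h3 : (u * v) ^ (2 * k) = (u * v)⁻¹ := eq_inv_of_mul_eq_one_left (by rw [← pow_succ, h1])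
    rw [mul_assoc, h2, ← mul_assoc, ← pow_add, ← two_mul, h3, mul_inv_rev, huinv, hvinv, mul_assoc, hu2, mul_one]

/-- Every involution of `J` is conjugate in `J` to a member of the subgroup. -/
theorem top_conj_el (S : Split56 G z l.T) (hCD : l.T.CentD) {u : G} (hu : u ∈ J) (hu2 : u * u = 1)
    (hu1 : u ≠ 1) : ∃ g ∈ J, ∃ a, a < 2048 ∧ a ≠ 0 ∧ g * u * g⁻¹ = l.T.el a := by
  suffices h : ∃ g ∈ J, g * u * g⁻¹ ∈ l.T.V by
    obtain ⟨g, hg, hgu⟩ := h
    obtain ⟨a, ha, e⟩ := (l.T.mem_V _).1 hgu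
    refine ⟨g, hg, a, ha, fun h0 => hu1 ?_, e.symm⟩
    rw [h0, l.T.el_zero] at e
    exact conj_eq_one_iff.1 e.symm
  -- a member of the other class
  obtain ⟨b, hb, hb0, hnc⟩ : ∃ b, b < 2048 ∧ b ≠ 0 ∧ ¬ IsConj u (l.T.el b) := by
    by_cases hz : IsConj z u
    · refine ⟨2, by norm_num, by norm_num, fun h => ?_⟩
      have hQ := (l.T.cls 2 (by norm_num)).1 (hz.trans h)
      exact Bool.false_ne_true (hQ.2.symm.trans isD_two)
    · refine ⟨1, by norm_num, by norm_num, fun h => hz ?_⟩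
      rw [l.T.el_z] at h
      exact h.symm
  have hbJ : l.T.el b ∈ J := hN (Subgroup.le_normalizer (l.T.el_mem hb))
  obtain ⟨w, hwJ, hw2, hw1, hwu, hwb⟩ := top_between hu hbJ hu2 (l.T.el_sq hb)
    (fun g _ he => hnc (isConj_iff.2 ⟨g, he⟩))
  obtain ⟨g, hg, hgw⟩ := top_comm_conj l hN hH S hCD hw2 hb hb0 hwb
  obtain ⟨a, ha, hae⟩ := (l.T.mem_V _).1 hgw
  have ha0 : a ≠ 0 := fun h0 => hw1 (by
    rw [h0, l.T.el_zero] at hae
    exact conj_eq_one_iff.1 hae.symm)
  obtain ⟨g', hg', hgu⟩ := top_comm_conj l hN hH S hCD (u := g * u * g⁻¹)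
    (by
      calc g * u * g⁻¹ * (g * u * g⁻¹) = g * (u * u) * g⁻¹ := by group
        _ = 1 := by rw [hu2]; group)
    ha ha0 (by
      rw [hae]
      calc g * u * g⁻¹ * (g * w * g⁻¹) = g * (u * w) * g⁻¹ := by group
        _ = g * (w * u) * g⁻¹ := by rw [hwu]
        _ = _ := by group)
  exact ⟨g' * g, mul_mem hg' hg, by simpa [mul_assoc] using hgu⟩

omit hH in
/-- Members of the subgroup of one class are conjugate in the normaliser. -/
theorem top_class {a b : ℕ} (ha : a < 2048) (ha0 : a ≠ 0) (hb : b < 2048) (hb0 : b ≠ 0)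
    (h : IsConj (l.T.el a) (l.T.el b)) : ∃ g ∈ J, g * l.T.el a * g⁻¹ = l.T.el b := by
  have key : ∀ {σ : Equiv.Perm GolayPt}, σ ∈ Cfsg.M24 → act σ a = b → ∃ g ∈ J, g * l.T.el a * g⁻¹ = l.T.el b := by
    intro σ hσ e
    obtain ⟨n, hn⟩ := l.T.ρ_surj ⟨σ, hσ⟩
    refine ⟨n, hN n.2, ?_⟩
    rw [l.T.ρ_spec n a ha, hn]
    exact congrArg l.T.el e
  by_cases hz : IsConj z (l.T.el a)
  · obtain ⟨σ, hσ, hσa⟩ := trans_Q ha ((l.T.cls a ha).1 hz)
    obtain ⟨τ, hτ, hτb⟩ := trans_Q hb ((l.T.cls b hb).1 (hz.trans h))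
    refine key (mul_mem (inv_mem hτ) hσ) ?_
    rw [act_mul (inv_mem hτ), hσa, ← hτb, act_inv_act hτ hb]
  · have hDa := isD_of_not_conj ha ha0 hz
    have hDb := isD_of_not_conj hb hb0 fun h' => hz (h'.trans h.symm)
    obtain ⟨σ, hσ, hσa⟩ := trans_D hDa hDb
    exact key hσ hσa

theorem top_eq_top (S : Split56 G z l.T) (hCD : l.T.CentD) : J = ⊤ := by
  by_contra hne
  have hzJ : z ∈ J := hN (Subgroup.le_normalizer (Split.z_mem_V l))
  have hSE : Cfsg.IsStronglyEmbedded J := by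
    refine ⟨hne, ?_, fun g hg => ?_⟩
    · have := (Subgroup.orderOf_mk z hzJ).trans D.hJ.1
      exact even_iff_two_dvd.2 (this ▸ orderOf_dvd_natCard _)
    by_contra hodd
    rw [Nat.not_odd_iff_even, even_iff_two_dvd] at hodd
    have : Fact (Nat.Prime 2) := ⟨Nat.prime_two⟩
    obtain ⟨⟨x, hx⟩, hord⟩ := exists_prime_orderOf_dvd_card' 2 hodd
    have hxo : orderOf x = 2 := (Subgroup.orderOf_mk x hx).symm.trans hord
    obtain ⟨hx1, hx2⟩ := hx
    obtain ⟨y, hy, hyx⟩ := hx2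
    change g * y * g⁻¹ = x at hyx
    have hyo : orderOf y = 2 := by rw [← hxo, ← hyx, SECount.orderOf_conj_eq]
    obtain ⟨p, hp, a, ha, ha0, hpa⟩ :=
      top_conj_el l hN hH S hCD hx1 (SECount.invo_sq hxo) (SECount.invo_ne_one hxo)
    obtain ⟨q, hq, b, hb, hb0, hqb⟩ :=
      top_conj_el l hN hH S hCD hy (SECount.invo_sq hyo) (SECount.invo_ne_one hyo)
    have hba : IsConj (l.T.el b) (l.T.el a) := isConj_iff.2 ⟨p * g * q⁻¹, by
      rw [← hqb, ← hpa, ← hyx]; group⟩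
    obtain ⟨r, hr, hrb⟩ := top_class l hN hb hb0 ha ha0 hba
    refine hg ?_
    have hm : r⁻¹ * (p * g * q⁻¹) ∈ J := by
      refine top_cent_le l hN hH hCD hb hb0 ?_
      have e : p * g * q⁻¹ * l.T.el b * (p * g * q⁻¹)⁻¹ = l.T.el a := by rw [← hqb, ← hpa, ← hyx]; group
      rw [← hrb, mul_inv_eq_iff_eq_mul] at e
      rw [mul_assoc, e]
      group
    have h2 := mul_mem (mul_mem (inv_mem hp) (mul_mem hr hm)) hq
    simpa [mul_assoc] using h2
  have h2 : orderOf (l.T.el 2) = 2 := orderOf_eq_prime (hp := ⟨Nat.prime_two⟩)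
    (by rw [pow_two, l.T.el_sq (by norm_num)])
    fun h => absurd (l.T.eq_zero_of_el (by norm_num) h) (by norm_num)
  have hQ := (l.T.cls 2 (by norm_num)).1 (SECount.isConj_invo hSE D.hJ.1 h2)
  exact Bool.false_ne_true (hQ.2.symm.trans isD_two)

end

theorem topStmt : TopStmt.{u} := by
  intro G _ _ _ z P D X L l S hCD t htz htN
  have hN : normalizer (l.T.V : Set G) ≤ normalizer (l.T.V : Set G) ⊔ zpowers t := le_sup_left
  have htH : t ∈ cH z := mem_centralizer_singleton_iff.2 htz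
  exact top_eq_top l hN
    (top_cH_le l hN htH (mem_sup_right (mem_zpowers t)) htN) S hCD

end Cfsg.Agent.Lib.J4Iso59
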