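import Cfsg.Agent.Lib.J4Iso59.Main
import Cfsg.Agent.Lib.J4Iso59.Raw
import Cfsg.Agent.Lib.J4Iso59.Norm
import Cfsg.Agent.Lib.J4Iso59.Tee
import Cfsg.Agent.Lib.J4Iso59.Top

/-!
# Uniqueness of J4
-/

set_option autoImplicit false

universe u

namespace Cfsg.Agent.Lib.J4Iso59

/-- A finite simple group of Janko-four type is isomorphic to the presented J4. -/
theorem iso (G : Type u) [Group G] [Finite G] [IsSimpleGroup G] (hJ : Cfsg.IsOfJankoFourType G) :
    Cfsg.Spor.IsoJ4 G :=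
  iso_of_bricks rawStmt normStmt teeStmt topStmt G hJ

end Cfsg.Agent.Lib.J4Iso59
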