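import Cfsg.Agent.Lib.J4Iso59.Rel
import Cfsg.Agent.Lib.J4Iso59.CentData
import Cfsg.Agent.Lib.J4Iso59.Gen
import Cfsg.Agent.Lib.J4Iso59.PermCent
import Cfsg.Agent.Lib.J4Two56.Top
import Cfsg.Agent.Lib.J4Two56.Special
import Cfsg.Agent.Lib.J4Dce59.Simple

/-!
# A group of Janko-four type is isomorphic to the presented J4
-/

set_option autoImplicit false
set_option maxRecDepth 20000

universe u

namespace Cfsg.Agent.Lib.J4Iso59

open Cfsg Cfsg.Agent.Lib Cfsg.Agent.Lib.J4Two56 Subgroup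

/-- A permutation of `Fin 24` from two mutually inverse image lists. -/
def finPerm (l m : List ℕ) (h : ∀ i : Fin 24, (⟨(m.getD ((l.getD i.val 0) % 24) 0) % 24, Nat.mod_lt _ (by norm_num)⟩ : Fin 24) = i)
    (h' : ∀ i : Fin 24, (⟨(l.getD ((m.getD i.val 0) % 24) 0) % 24, Nat.mod_lt _ (by norm_num)⟩ : Fin 24) = i) :
    Equiv.Perm (Fin 24) where
  toFun i := ⟨l.getD i.val 0 % 24, Nat.mod_lt _ (by norm_num)⟩
  invFun i := ⟨m.getD i.val 0 % 24, Nat.mod_lt _ (by norm_num)⟩
  left_inv := h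
  right_inv := h'

/-- The first generator on the numbers. -/
def fx : Equiv.Perm (Fin 24) := finPerm qX qX (by decide +kernel) (by decide +kernel)

/-- The second generator on the numbers. -/
def fy : Equiv.Perm (Fin 24) := finPerm qY (Golay.compList qY qY) (by decide +kernel) (by decide +kernel)

/-- Transport to the points. -/
def toPts : Equiv.Perm (Fin 24) ≃* Equiv.Perm GolayPt := Equiv.permCongrHom Golay.ptEquiv.symm

theorem toPerm_eq_toPts {l : List ℕ} (h : Golay.validList l = true) (σ : Equiv.Perm (Fin 24))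
    (e : ∀ i : Fin 24, (σ i).val = Golay.applyNum l i.val) : Golay.toPerm l = toPts σ := by
  rw [Golay.toPerm_eq_iff h]
  intro i
  rw [← e i]
  show (Golay.idx (Golay.pt (σ (Golay.idx (Golay.pt i))))).val = _
  rw [Golay.idx_pt, Golay.idx_pt]

/-- The assignment of the generators on the numbers. -/
def finGen : Spor.J4.Gen → Equiv.Perm (Fin 24)
  | .x => fx
  | .y => fy
  | .t => 1

/-- The head of the second long relator. -/
def wHead : FreeGroup Spor.J4.Gen :=
  open Spor.J4 in (y * x * y * x * y * x * y) ^ 3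

/-- The conjugator of the first long relator. -/
def wS : FreeGroup Spor.J4.Gen :=
  open Spor.J4 in y * x * y⁻¹ * x * y * x * y⁻¹ * x

/-- The conjugator of the second long relator. -/
def wV : FreeGroup Spor.J4.Gen :=
  open Spor.J4 in (x * y) ^ 3 * y * (x * y) ^ 6 * y

/-- The second generator of the trio stabiliser. -/
def wK : FreeGroup Spor.J4.Gen :=
  open Spor.J4 in y * x * y * ((x * y⁻¹) ^ 2) * ((x * y) ^ 3)

theorem short_rels : ∀ r ∈ (open Spor.J4 in
    [x ^ 2, y ^ 3, (x * y) ^ 23, (x⁻¹ * y⁻¹ * x * y) ^ 12, (x⁻¹ * (y * x * y)⁻¹ * x * (y * x * y)) ^ 5,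
      (x * y * ((x * y * x * (y⁻¹)) ^ 3)) ^ 4,
      ((x * y * x * y * x * (y⁻¹)) ^ 3) * ((x * y * x * (y⁻¹) * x * (y⁻¹)) ^ 3)] : List (FreeGroup Spor.J4.Gen)),
    FreeGroup.lift finGen r = 1 := by
  simp only [List.forall_mem_cons, List.not_mem_nil, false_imp_iff, implies_true, and_true,
    map_mul, map_pow, map_inv, FreeGroup.lift_apply_of, finGen]
  decide +kernel

theorem word_perms :
    (∀ i : Fin 24, ((FreeGroup.lift finGen wK) i).val = Golay.applyNum qK i.val) ∧
    (∀ i : Fin 24, ((FreeGroup.lift finGen wS)⁻¹ i).val = Golay.applyNum RelData.fS i.val) ∧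
    (∀ i : Fin 24, ((FreeGroup.lift finGen wV)⁻¹ i).val = Golay.applyNum RelData.fV i.val) ∧
    (∀ i : Fin 24, ((FreeGroup.lift finGen wHead) i).val = Golay.applyNum RelData.fHead i.val) := by
  simp only [wK, wS, wV, wHead, map_mul, map_pow, map_inv, FreeGroup.lift_apply_of, finGen]
  decide +kernel

/-- The moves giving `z`. -/
def zMoves : List Mv := [RelData.z0, RelData.z1, RelData.z2, RelData.z3]

theorem z_checks :
    (zMoves.all fun v => Golay.inM24 (Golay.compList v.h (wordL v.w)) &&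
      moveOK (Golay.compList v.h (wordL v.w)) v && v.g == List.range 24) = true ∧
      num RelData.z0 ^^^ num RelData.z1 ^^^ num RelData.z2 ^^^ num RelData.z3 = 1 := by decide +kernel

theorem span_checks : ((List.range 2048).all fun a => a == 0 || !isD a || (List.range 2048).any fun b =>
    decide (b ≠ 0) && !isD b && decide (a ^^^ b ≠ 0) && !isD (a ^^^ b)) = true := by decide +kernel

theorem cent_checks :
    centWords.all wordOK = true ∧
    PermCent.coverOK (centWords.map wordL) [0] ((List.range 24).map fun i => (0, i)) = true ∧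
    PermCent.centList (centWords.map wordL) [0] ((List.range 24).map fun i => (0, i)) = [List.range 24] ∧
    ((List.range 2048).all fun a => a == 0 || !(actL qX a == a) || !(actL qK a == a)) = true := by decide +kernel

section

variable {G : Type u} [Group G] {z : G} {T : Todd G z} {S : Split56 G z T} (R : Second S)

/-- The assignment of the generators in the group. -/
noncomputable def gGen : Spor.J4.Gen → G
  | .x => kl S qX
  | .y => kl S qY
  | .t => tee R

/-- The generators in `M24`. -/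
noncomputable def mGen : Spor.J4.Gen → ↥Cfsg.M24
  | .x => ⟨Golay.toPerm qX, Golay.toPerm_mem_M24 qX_ok⟩
  | .y => ⟨Golay.toPerm qY, Golay.toPerm_mem_M24 qY_ok⟩
  | .t => 1

theorem coe_mGen (w : FreeGroup Spor.J4.Gen) :
    ((FreeGroup.lift mGen w : ↥Cfsg.M24) : Equiv.Perm GolayPt) = toPts (FreeGroup.lift finGen w) := by
  have : (Cfsg.M24.subtype).comp (FreeGroup.lift mGen) = toPts.toMonoidHom.comp (FreeGroup.lift finGen) := by
    refine FreeGroup.ext_hom _ _ fun g => ?_
    simp only [MonoidHom.comp_apply, FreeGroup.lift_apply_of, Subgroup.coe_subtype]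
    cases g
    · exact toPerm_eq_toPts (Golay.inM24.valid qX_ok) fx fun i => rfl
    · exact toPerm_eq_toPts (Golay.inM24.valid qY_ok) fy fun i => rfl
    · show ((1 : ↥Cfsg.M24) : Equiv.Perm GolayPt) = toPts (1 : Equiv.Perm (Fin 24))
      rw [map_one]; rfl
  exact DFunLike.congr_fun this w

theorem kl_word {w : FreeGroup Spor.J4.Gen} {l : List ℕ} (hl : Golay.inM24 l = true)
    (e : ∀ i : Fin 24, ((FreeGroup.lift finGen w) i).val = Golay.applyNum l i.val) :
    kkHom S (FreeGroup.lift mGen w) = kl S l := by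
  show kk S _ = kk S _
  rw [coe_mGen, ← toPerm_eq_toPts (Golay.inM24.valid hl) _ e]

variable (hX : Commute (kl S qX) (tee R)) (hK : Commute (kl S qK) (tee R))

include hX hK in
theorem rels_hold : ∀ r ∈ Spor.coxRelators Spor.J4.edges ∪ {r | r ∈ Spor.J4.extra},
    FreeGroup.lift (gGen R) r = 1 := by
  have hs := short_rels
  have hw := word_perms
  have hK' := kl_word (S := S) qK_ok hw.1
  have hS' := kl_word (S := S) (w := wS⁻¹) (show Golay.inM24 RelData.fS = true by decide +kernel)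
    (by rw [map_inv]; exact hw.2.1)
  have hV' := kl_word (S := S) (w := wV⁻¹) (show Golay.inM24 RelData.fV = true by decide +kernel)
    (by rw [map_inv]; exact hw.2.2.1)
  have hP' := kl_word (S := S) (show Golay.inM24 RelData.fHead = true by decide +kernel) hw.2.2.2
  have h1 : ∀ r, FreeGroup.lift finGen r = 1 → kkHom S (FreeGroup.lift mGen r) = 1 := fun r h => by
    have : FreeGroup.lift mGen r = 1 := Subtype.ext (by rw [coe_mGen, h, map_one]; rfl)
    rw [this, map_one]
  simp only [List.forall_mem_cons, List.not_mem_nil, false_imp_iff, implies_true, and_true] at hs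
  obtain ⟨s1, s2, s3, s4, s5, s6, s7⟩ := hs
  replace s1 := h1 _ s1; replace s2 := h1 _ s2; replace s3 := h1 _ s3; replace s4 := h1 _ s4
  replace s5 := h1 _ s5; replace s6 := h1 _ s6; replace s7 := h1 _ s7
  simp only [wK, wS, wV, wHead, map_mul, map_pow, map_inv, FreeGroup.lift_apply_of, mGen] at hK' hS' hV' hP' s1 s2 s3 s4 s5 s6 s7
  have r11 := rel_first R hX hK
  have r12 := rel_second R hX hK
  simp only [cj, ← hS', ← hV', ← hP', inv_inv] at r11 r12
  have hKc : Commute (kl S qK) (tee R) := hK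
  rw [← hK'] at hKc
  have comm : ∀ a : G, Commute a (tee R) → (tee R)⁻¹ * a⁻¹ * tee R * a = 1 := fun a h => by
    rw [mul_assoc _ (tee R) a, ← h.eq]; group
  have t2 : tee R ^ 2 = 1 := by rw [pow_two, tee_sq]
  rintro r (hr | hr)
  · obtain ⟨g, hg, -⟩ := hr
    simp [Spor.coxNodes, Spor.J4.edges] at hg
  · simp only [Spor.J4.extra, Set.mem_setOf_eq, List.mem_cons, List.not_mem_nil, or_false] at hr
    rcases hr with rfl | rfl | rfl | rfl | rfl | rfl | rfl | rfl | rfl | rfl | rfl | rfl <;>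
      simp only [map_mul, map_pow, map_inv, FreeGroup.lift_apply_of, gGen]
    · exact s1
    · exact s2
    · exact s3
    · exact s4
    · exact s5
    · exact s6
    · exact s7
    · exact t2
    · exact comm _ hKc
    · exact comm _ hX
    · exact r11
    · exact r12

end

section

variable {G : Type u} [Group G] {z : G} {T : Todd G z} {S : Split56 G z T} (R : Second S)
variable (hX : Commute (kl S qX) (tee R)) (hK : Commute (kl S qK) (tee R))

theorem tee_comm_z : tee R * z = z * tee R := by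
  have h := R.T2.el_comm tee_lt (show 1 < 2048 by norm_num)
  rwa [R.T2.el_z] at h

theorem kk_mem_range {φ : Spor.J4 →* G} (hx : kl S qX ∈ φ.range) (hy : kl S qY ∈ φ.range)
    {σ : Equiv.Perm GolayPt} (hσ : σ ∈ Cfsg.M24) : kk S σ ∈ φ.range := by
  have h : (⟨σ, hσ⟩ : ↥Cfsg.M24) ∈ Subgroup.closure ({(⟨Golay.toPerm qX, Golay.toPerm_mem_M24 qX_ok⟩ : ↥Cfsg.M24),
      ⟨Golay.toPerm qY, Golay.toPerm_mem_M24 qY_ok⟩} : Set ↥Cfsg.M24) := by
    rw [show (Subgroup.closure _) = (⊤ : Subgroup ↥Cfsg.M24) from ?_]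
    · trivial
    · apply Subgroup.map_injective Cfsg.M24.subtype_injective
      rw [MonoidHom.map_closure, ← MonoidHom.range_eq_map, Subgroup.range_subtype, Set.image_insert_eq,
        Set.image_singleton]
      exact gen
  refine (Subgroup.closure_le (φ.range.comap (kkHom S))).2 ?_ h
  rintro g (rfl | rfl)
  · exact hx
  · exact hy

include hX hK in
theorem tee_not_norm : tee R ∉ normalizer (T.V : Set G) := by
  intro hN
  obtain ⟨hwok, hcov, hlist, hfix⟩ := cent_checks
  set σ : Equiv.Perm GolayPt := ((T.ρ ⟨tee R, hN⟩ : ↥Cfsg.M24) : Equiv.Perm GolayPt) with hσdef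
  have hcm : ∀ l, Golay.inM24 l = true → Commute (kl S l) (tee R) → Commute σ (Golay.toPerm l) := by
    intro l hl hc
    obtain ⟨hn, -, hr⟩ := kk_spec S (Golay.toPerm_mem_M24 hl)
    have e : (⟨tee R, hN⟩ : ↥(normalizer (T.V : Set G))) * ⟨kk S _, hn⟩ = ⟨kk S _, hn⟩ * ⟨tee R, hN⟩ :=
      Subtype.ext hc.eq.symm
    have e' := congrArg (fun n => ((T.ρ n : ↥Cfsg.M24) : Equiv.Perm GolayPt)) e
    simp only [map_mul, Subgroup.coe_mul, hr] at e'
    exact e'
  have hH : ∀ h ∈ centWords.map wordL, Commute σ (Golay.toPerm h) := by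
    intro h hh
    obtain ⟨w, hw, rfl⟩ := List.mem_map.1 hh
    obtain ⟨h1, h2⟩ := comm_wordL R hX hK w (List.all_eq_true.1 hwok w hw)
    exact hcm _ h1 h2
  obtain ⟨hm, he⟩ := PermCent.mem_centList hcov (T.ρ ⟨tee R, hN⟩).2 hH
  rw [hlist, List.mem_singleton] at hm
  rw [hm, toPerm_id] at he
  obtain ⟨a, ha, hat⟩ := (T.mem_V _).1 (T.mem_V_of_ρ (n := ⟨tee R, hN⟩) (Subtype.ext he.symm))
  have hfa : ∀ l, Golay.inM24 l = true → Commute (kl S l) (tee R) → actL l a = a := by
    intro l hl hc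
    have e := kl_conj_el S hl ha
    rw [show T.el a = tee R from hat, hc.eq, mul_inv_cancel_right] at e
    exact (T.el_inj _ ha _ (by rw [← act_toPerm (Golay.inM24.valid hl)]; exact act_lt _ _) (hat.trans e)).symm
  have h := List.all_eq_true.1 hfix a (List.mem_range.2 ha)
  simp only [hfa qX qX_ok hX, hfa qK qK_ok hK, beq_self_eq_true, Bool.not_true, Bool.or_false, beq_iff_eq] at h
  have ht : tee R = 1 := by rw [← show T.el a = tee R from hat, h, T.el_zero]
  exact absurd (R.T2.el_inj _ tee_lt 0 (by norm_num) (by rw [R.T2.el_zero]; exact ht)) (by decide)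

include hX hK in
theorem iso_of_second [Finite G] [IsSimpleGroup G]
    (hgen : ∀ t : G, t * z = z * t → t ∉ normalizer (T.V : Set G) →
      normalizer (T.V : Set G) ⊔ Subgroup.zpowers t = ⊤) : Spor.IsoJ4 G := by
  obtain ⟨φ, hx, hy, ht⟩ : ∃ φ : Spor.J4 →* G, φ (PresentedGroup.of Spor.J4.Gen.x) = kl S qX ∧
      φ (PresentedGroup.of Spor.J4.Gen.y) = kl S qY ∧ φ (PresentedGroup.of Spor.J4.Gen.t) = tee R :=
    ⟨PresentedGroup.toGroup (f := gGen R) (rels_hold R hX hK), PresentedGroup.toGroup.of _,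
      PresentedGroup.toGroup.of _, PresentedGroup.toGroup.of _⟩
  have hxr : kl S qX ∈ φ.range := ⟨_, hx⟩
  have hyr : kl S qY ∈ φ.range := ⟨_, hy⟩
  have htr : tee R ∈ φ.range := ⟨_, ht⟩
  have hkk : ∀ {σ}, σ ∈ Cfsg.M24 → kk S σ ∈ φ.range := kk_mem_range hxr hyr
  have hz : z ∈ φ.range := by
    obtain ⟨hm, hx'⟩ := z_checks
    simp only [zMoves, List.all_cons, List.all_nil, Bool.and_true, Bool.and_eq_true, beq_iff_eq] at hm
    obtain ⟨⟨⟨i0, m0⟩, g0⟩, ⟨⟨i1, m1⟩, g1⟩, ⟨⟨i2, m2⟩, g2⟩, ⟨⟨i3, m3⟩, g3⟩⟩ := hm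
    have mem : ∀ v : Mv, Golay.inM24 (Golay.compList v.h (wordL v.w)) = true →
        moveOK (Golay.compList v.h (wordL v.w)) v = true → v.g = List.range 24 → R.T2.el (num v) ∈ φ.range := by
      intro v hi hm hg
      rw [← cj_low R hX hK hm hg rfl, cj]
      exact mul_mem (mul_mem (hkk (Golay.toPerm_mem_M24 hi)) htr) (inv_mem (hkk (Golay.toPerm_mem_M24 hi)))
    rw [← R.T2.el_z, ← hx', R.T2.el_xor _ (xor_lt (xor_lt (num_lt m0) (num_lt m1)) (num_lt m2)) _ (num_lt m3),
      R.T2.el_xor _ (xor_lt (num_lt m0) (num_lt m1)) _ (num_lt m2), R.T2.el_xor _ (num_lt m0) _ (num_lt m1)]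
    exact mul_mem (mul_mem (mul_mem (mem _ i0 m0 g0) (mem _ i1 m1 g1)) (mem _ i2 m2 g2)) (mem _ i3 m3 g3)
  have hQ : ∀ a, a < 2048 → IsQ a → T.el a ∈ φ.range := by
    intro a ha hq
    obtain ⟨σ, hσ, e⟩ := trans_Q ha hq
    have h := kk_conj_el S hσ ha
    rw [e, T.el_z] at h
    rw [show T.el a = (kk S σ)⁻¹ * (kk S σ * T.el a * (kk S σ)⁻¹) * kk S σ by group, h]
    exact mul_mem (mul_mem (inv_mem (hkk hσ)) hz) (hkk hσ)
  have hV : ∀ a, a < 2048 → T.el a ∈ φ.range := by
    intro a ha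
    have h := List.all_eq_true.1 span_checks a (List.mem_range.2 ha)
    simp only [Bool.or_eq_true, beq_iff_eq, Bool.not_eq_true', List.any_eq_true, List.mem_range,
      Bool.and_eq_true, decide_eq_true_eq] at h
    rcases h with (rfl | hD) | ⟨b, hb, ⟨⟨hb0, hbD⟩, hab⟩, habD⟩
    · rw [T.el_zero]; exact one_mem _
    · by_cases h0 : a = 0
      · rw [h0, T.el_zero]; exact one_mem _
      · exact hQ a ha ⟨h0, hD⟩
    · rw [show a = (a ^^^ b) ^^^ b by rw [Nat.xor_assoc, Nat.xor_self, Nat.xor_zero],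
        T.el_xor _ (xor_lt ha hb) _ hb]
      exact mul_mem (hQ _ (xor_lt ha hb) ⟨hab, habD⟩) (hQ b hb ⟨hb0, hbD⟩)
  have hN : normalizer (T.V : Set G) ≤ φ.range := by
    intro n hn
    obtain ⟨k, hk, v, hv, rfl⟩ := split_decomp S hn
    obtain ⟨a, ha, rfl⟩ := (T.mem_V v).1 hv
    refine mul_mem ?_ (hV a ha)
    have hkn : k ∈ normalizer (T.V : Set G) := S.le hk
    rw [← show kk S _ = k from kk_eq S (T.ρ ⟨k, hkn⟩).2 (k := ⟨k, hkn⟩) hk rfl]
    exact hkk (T.ρ ⟨k, hkn⟩).2
  have hsurj : Function.Surjective φ := by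
    rw [← MonoidHom.range_eq_top, eq_top_iff, ← hgen (tee R) (tee_comm_z R) (tee_not_norm R hX hK)]
    exact sup_le hN (Subgroup.zpowers_le.2 htr)
  have hinj : Function.Injective φ := by
    have := J4Dce59.isSimple_J
    rw [← MonoidHom.ker_eq_bot_iff]
    refine ((MonoidHom.normal_ker φ).eq_bot_or_eq_top).resolve_right fun h => ?_
    obtain ⟨g, hg⟩ := exists_ne (1 : G)
    obtain ⟨j, rfl⟩ := hsurj g
    exact hg (MonoidHom.mem_ker.1 (h ▸ Subgroup.mem_top j))
  exact ⟨(MulEquiv.ofBijective φ ⟨hinj, hsurj⟩).symm⟩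

end

/-- A group of Janko-four type is not commutative. -/
theorem not_comm {G : Type u} [Group G] {z : G} {P : Subgroup G} (hJ : IsOfJankoFourTypeWith z P) :
    ¬ IsMulCommutative G := by
  intro h
  refine hJ.2.2.2.2.2.2.2.1 (le_antisymm ?_ ?_)
  · intro g hg
    refine ⟨hg.1, Subgroup.mem_centralizer_iff.2 fun p _ => ?_⟩
    exact IsMulCommutative.is_comm.comm p g
  · exact inf_le_inf le_rfl (Subgroup.centralizer_le_normalizer _)

/-- The isomorphism, from the four bricks. -/
theorem iso_of_bricks (hRaw : RawStmt.{u}) (hNorm : NormStmt.{u}) (hTee : TeeStmt.{u}) (hTop : TopStmt.{u})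
    (G : Type u) [Group G] [Finite G] [IsSimpleGroup G] (hJ : IsOfJankoFourType G) : Spor.IsoJ4 G := by
  obtain ⟨z, P, hJP⟩ := hJ
  obtain ⟨D, X, L, l, hS, hD⟩ := exists_loc_split specStmt (not_comm hJP) hJP
  obtain ⟨S, hR⟩ := hRaw G z P D X L l hS hD
  obtain ⟨R⟩ := hNorm G z l.T S hD hR
  obtain ⟨hX, hK⟩ := hTee G z l.T S R hD
  exact iso_of_second R hX hK (hTop G z P D X L l S hD)

end Cfsg.Agent.Lib.J4Iso59
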