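import Cfsg.Agent.Lib.J4Iso59.Coord
import Cfsg.Agent.Lib.J4Two56.SplitGlue

/-!
# The interface of the uniqueness proof for J4

`Second S` is a second elementary abelian subgroup of order `2 ^ 11` in the centraliser of `z`, in
coordinates in which its members below 128 are `z` times the translations in the complement.
-/

set_option autoImplicit false

universe u

namespace Cfsg.Agent.Lib.J4Iso59

open Cfsg Cfsg.Agent.Lib Cfsg.Agent.Lib.J4Two56 Cfsg.Agent.Lib.J4Type19

section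

variable {G : Type u} [Group G] {z : G} {T : Todd G z} (S : Split56 G z T)

open Classical in
/-- The member of the complement inducing a permutation. -/
noncomputable def kk (σ : Equiv.Perm GolayPt) : G :=
  if h : σ ∈ Cfsg.M24 then (((S.iso ⟨σ, h⟩).choose : ↥(Subgroup.normalizer (T.V : Set G))) : G) else 1

/-- The member of the complement inducing a listed permutation. -/
noncomputable def kl (l : List ℕ) : G := kk S (Golay.toPerm l)

theorem kk_spec {σ : Equiv.Perm GolayPt} (h : σ ∈ Cfsg.M24) :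
    ∃ hn : kk S σ ∈ Subgroup.normalizer (T.V : Set G), kk S σ ∈ S.K ∧ T.ρ ⟨kk S σ, hn⟩ = ⟨σ, h⟩ := by
  obtain ⟨h1, h2⟩ := (S.iso ⟨σ, h⟩).choose_spec
  have e : kk S σ = (((S.iso ⟨σ, h⟩).choose : ↥(Subgroup.normalizer (T.V : Set G))) : G) := by
    rw [kk, dif_pos h]
  refine ⟨e ▸ (S.iso ⟨σ, h⟩).choose.2, e ▸ h1, ?_⟩
  rw [show (⟨kk S σ, _⟩ : ↥(Subgroup.normalizer (T.V : Set G))) = (S.iso ⟨σ, h⟩).choose from Subtype.ext e]
  exact h2

theorem kk_mem {σ : Equiv.Perm GolayPt} (h : σ ∈ Cfsg.M24) : kk S σ ∈ S.K :=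
  (kk_spec S h).choose_spec.1

theorem kk_eq {σ : Equiv.Perm GolayPt} (h : σ ∈ Cfsg.M24) {k : ↥(Subgroup.normalizer (T.V : Set G))}
    (hk : (k : G) ∈ S.K) (hρ : T.ρ k = ⟨σ, h⟩) : kk S σ = (k : G) := by
  obtain ⟨hn, hK, hr⟩ := kk_spec S h
  exact (congrArg Subtype.val (permHom_injective S (a₁ := ⟨(k : G), hk⟩) (a₂ := ⟨kk S σ, hK⟩) (hρ.trans hr.symm))).symm

theorem kk_mul {σ τ : Equiv.Perm GolayPt} (hσ : σ ∈ Cfsg.M24) (hτ : τ ∈ Cfsg.M24) :
    kk S (σ * τ) = kk S σ * kk S τ := by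
  obtain ⟨h1, k1, r1⟩ := kk_spec S hσ
  obtain ⟨h2, k2, r2⟩ := kk_spec S hτ
  exact kk_eq S (mul_mem hσ hτ) (k := ⟨kk S σ, h1⟩ * ⟨kk S τ, h2⟩) (mul_mem k1 k2) (by rw [map_mul, r1, r2]; rfl)

theorem kk_one : kk S 1 = 1 :=
  kk_eq S (one_mem _) (k := 1) (one_mem _) (map_one _)

theorem kk_inv {σ : Equiv.Perm GolayPt} (hσ : σ ∈ Cfsg.M24) : kk S σ⁻¹ = (kk S σ)⁻¹ := by
  refine eq_inv_of_mul_eq_one_left ?_
  rw [← kk_mul S (inv_mem hσ) hσ, inv_mul_cancel, kk_one]

theorem kk_conj_el {σ : Equiv.Perm GolayPt} (hσ : σ ∈ Cfsg.M24) {a : ℕ} (ha : a < 2048) :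
    kk S σ * T.el a * (kk S σ)⁻¹ = T.el (act σ a) := by
  obtain ⟨hn, -, hr⟩ := kk_spec S hσ
  have h := T.ρ_spec ⟨kk S σ, hn⟩ a ha
  rw [hr] at h
  exact h

/-- The second subgroup, with its coordinates. -/
structure Second : Type u where
  T2 : Todd G z
  centD : T2.CentD
  low : ∀ a, a < 128 → T2.el a = z ^ (a % 2) * kk S (wP a)

/-- A conjugate by a member of the centraliser of `z` contains the translations of the complement. -/
def Raw : Prop :=
  ∃ c : G, c * z = z * c ∧ ∀ σ, InW σ → ∃ a, a < 128 ∧ kk S σ = c * T.el a * c⁻¹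

end

/-- SECOND: for a suitable complement the conjugate exists. -/
def RawStmt : Prop :=
  ∀ (G : Type u) [Group G] [Finite G] [IsSimpleGroup G] (z : G) (P : Subgroup G) (D : HData z P) (X : Plus M22t)
    (L : Lifts D.toJMod X.F) (l : Loc D X L), Nonempty (Split56 G z l.T) → l.T.CentD →
    ∃ S : Split56 G z l.T, Raw S

/-- NORM: the coordinates on the conjugate can be chosen. -/
def NormStmt : Prop :=
  ∀ (G : Type u) [Group G] [Finite G] (z : G) (T : Todd G z) (S : Split56 G z T),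
    T.CentD → Raw S → Nonempty (Second S)

/-- TEE: the third generator commutes with the generators of the trio stabiliser. -/
def TeeStmt : Prop :=
  ∀ (G : Type u) [Group G] [Finite G] (z : G) (T : Todd G z) (S : Split56 G z T) (R : Second S),
    T.CentD → Commute (kl S qX) (R.T2.el tNum) ∧ Commute (kl S qK) (R.T2.el tNum)

/-- TOP: the normaliser and one further member of the centraliser of `z` generate. -/
def TopStmt : Prop :=
  ∀ (G : Type u) [Group G] [Finite G] [IsSimpleGroup G] (z : G) (P : Subgroup G) (D : HData z P) (X : Plus M22t)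
    (L : Lifts D.toJMod X.F) (l : Loc D X L) (S : Split56 G z l.T), l.T.CentD →
    ∀ t : G, t * z = z * t → t ∉ Subgroup.normalizer (l.T.V : Set G) →
      Subgroup.normalizer (l.T.V : Set G) ⊔ Subgroup.zpowers t = ⊤

end Cfsg.Agent.Lib.J4Iso59
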