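import Cfsg.Agent.Lib.J4Iso59.RawChecks
import Cfsg.Agent.Lib.J4Iso59.Spec

/-!
# The members of the extraspecial group in the coordinates of a complement

A member is `kk a * el (2 * m)` up to `z`, with `a` a translation and `m` a vector of the first plane.
-/

set_option autoImplicit false

universe u

namespace Cfsg.Agent.Lib.J4Iso59.RawP

open Cfsg Cfsg.Agent.Lib Cfsg.Agent.Lib.J4Two56 Cfsg.Agent.Lib.J4Type19

attribute [local instance] m22_finite

/-- The translation of an index. -/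
noncomputable def tr (a : ℕ) : Equiv.Perm GolayPt := Golay.toPerm (RawD.wl a)

theorem wl_inM24 {a : ℕ} (ha : a < 64) : Golay.inM24 (RawD.wl a) = true := by
  have h := List.all_eq_true.1 RawD.wl_ok a (List.mem_range.2 ha)
  simp only [inWL, Bool.and_eq_true] at h
  exact h.1.1

theorem tr_inW {a : ℕ} (ha : a < 64) : InW (tr a) :=
  inW_toPerm (List.all_eq_true.1 RawD.wl_ok a (List.mem_range.2 ha))

theorem tr_mem {a : ℕ} (ha : a < 64) : tr a ∈ Cfsg.M24 := (tr_inW ha).1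

theorem tr_mul {a b : ℕ} (ha : a < 64) (hb : b < 64) : tr a * tr b = tr (a ^^^ b) := by
  have h := List.all_eq_true.1 (List.all_eq_true.1 RawD.wl_mul a (List.mem_range.2 ha)) b (List.mem_range.2 hb)
  simp only [Bool.and_eq_true, decide_eq_true_eq] at h
  rw [tr, tr, tr, ← h.1, Golay.toPerm_mul (Golay.inM24.valid (wl_inM24 ha)) (Golay.inM24.valid (wl_inM24 hb))
    (by rw [h.1]; exact h.2)]

theorem tr_zero : tr 0 = 1 := by
  have h := tr_mul (a := 0) (b := 0) (by norm_num) (by norm_num)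
  rw [Nat.xor_self] at h
  exact mul_eq_left.1 h

theorem tr_sq {a : ℕ} (ha : a < 64) : tr a * tr a = 1 := by rw [tr_mul ha ha, Nat.xor_self, tr_zero]

theorem tr_inv {a : ℕ} (ha : a < 64) : (tr a)⁻¹ = tr a := inv_eq_of_mul_eq_one_right (tr_sq ha)

theorem wl_length : ((List.range 64).all fun a => decide ((RawD.wl a).length = 24)) = true := by decide +kernel

theorem tr_inj {a b : ℕ} (ha : a < 64) (hb : b < 64) (h : tr a = tr b) : a = b := by
  have hl : ∀ {c : ℕ}, c < 64 → (RawD.wl c).length = 24 := fun hc =>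
    of_decide_eq_true (List.all_eq_true.1 wl_length _ (List.mem_range.2 hc))
  have hp := Golay.Classes.pack_congr (hl ha) (hl hb) fun t ht => by
    have hva := Golay.inM24.valid (wl_inM24 ha)
    have hvb := Golay.inM24.valid (wl_inM24 hb)
    have h2 := congrArg (fun σ : Equiv.Perm GolayPt => (Golay.idx (σ (Golay.ptN t))).val) h
    simp only [tr, Golay.idx_toPerm hva, Golay.idx_toPerm hvb, Golay.idx_ptN ht] at h2
    exact h2
  exact List.inj_on_of_nodup_map RawD.wl_nodup (List.mem_range.2 ha) (List.mem_range.2 hb) hp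

theorem tr_surj {σ : Equiv.Perm GolayPt} (h : InW σ) : ∃ a, a < 64 ∧ tr a = σ := by
  obtain ⟨l, hl, rfl⟩ := inW_iff_mem.1 h
  have h2 := List.all_eq_true.1 RawD.wl_all l hl
  simp only [List.any_eq_true, List.mem_range, decide_eq_true_eq] at h2
  obtain ⟨a, ha, rfl⟩ := h2
  exact ⟨a, ha, rfl⟩

theorem act_tr {a : ℕ} (ha : a < 64) (n : ℕ) : act (tr a) n = RawD.cmb a n ^^^ n := by
  rw [tr, act_toPerm (Golay.inM24.valid (wl_inM24 ha)), RawD.cmb, Nat.xor_assoc, Nat.xor_self, Nat.xor_zero]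

theorem cmb_lt {a : ℕ} (ha : a < 64) {n : ℕ} (hn : n < 2048) : RawD.cmb a n < 2048 := by
  rw [RawD.cmb, ← act_toPerm (Golay.inM24.valid (wl_inM24 ha))]
  exact xor_lt (act_lt _ _) hn

theorem cmb_xor {a : ℕ} (ha : a < 64) (m n : ℕ) : RawD.cmb a (m ^^^ n) = RawD.cmb a m ^^^ RawD.cmb a n := by
  simp only [RawD.cmb, ← act_toPerm (Golay.inM24.valid (wl_inM24 ha)), act_xor]
  exact xor_four _ _ _ _

theorem cmb_two {a m : ℕ} (ha : a < 64) (hm : m < 64) :
    RawD.cmb a (2 * m) = if RawD.comB a m then 1 else 0 := by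
  have h := List.all_eq_true.1 RawD.comB_ok a (List.mem_range.2 ha)
  simp only [Bool.and_eq_true, List.all_eq_true, List.mem_range, decide_eq_true_eq] at h
  exact h.2 m hm

theorem cmb_one {a : ℕ} (ha : a < 64) : RawD.cmb a 1 = 0 := by
  have h := List.all_eq_true.1 RawD.comB_ok a (List.mem_range.2 ha)
  simp only [Bool.and_eq_true, decide_eq_true_eq] at h
  exact h.1

theorem low_split : ((List.range 128).all fun n =>
    decide (n = 2 * (n / 2)) || decide (n = 2 * (n / 2) ^^^ 1)) = true := by decide +kernel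

theorem cmb_low {a n : ℕ} (ha : a < 64) (hn : n < 128) :
    RawD.cmb a n = if RawD.comB a (n / 2) then 1 else 0 := by
  have h := List.all_eq_true.1 low_split n (List.mem_range.2 hn)
  simp only [Bool.or_eq_true, decide_eq_true_eq] at h
  rcases h with h | h
  · conv_lhs => rw [h]
    exact cmb_two ha (by omega)
  · conv_lhs => rw [h]
    rw [cmb_xor ha, cmb_one ha, Nat.xor_zero]
    exact cmb_two ha (by omega)

theorem count_fin (f : ℕ → Bool) : Nat.card {m : Fin 64 // f m = true} = (List.range 64).countP f := by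
  rw [Nat.card_eq_fintype_card, Fintype.card_subtype, ← List.map_coe_finRange_eq_range, List.countP_map,
    List.countP_eq_length_filter]
  simp [Finset.card, Finset.filter, Fin.univ_def, Function.comp_def]

theorem count_pairs (f : ℕ → ℕ → Bool) : Nat.card {p : Fin 64 × Fin 64 // f p.1 p.2 = true} =
    ((List.range 64).map fun a => (List.range 64).countP (f a)).sum := by
  rw [Nat.card_congr (Equiv.subtypeProdEquivSigmaSubtype fun (a m : Fin 64) => f a m = true), Nat.card_sigma,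
    ← List.map_coe_finRange_eq_range, List.map_map]
  rw [Finset.sum_congr rfl fun (a : Fin 64) _ => (count_fin (f a) :
    Nat.card {m : Fin 64 // f a m = true} = _)]
  rw [Finset.sum, Fin.univ_def]
  simp [Function.comp_def]

variable {G : Type u} [Group G] [Finite G] {z : G} {P : Subgroup G} {D : HData z P} {X : Plus M22t}
  {L : Lifts D.toJMod X.F} {l : Loc D X L}

theorem eq_kk_one {S : Split56 G z l.T} {σ : Equiv.Perm GolayPt} (hσ : σ ∈ Cfsg.M24) (h : kk S σ ∈ l.T.V) :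
    σ = 1 := by
  have h1 : kk S σ = 1 := split_mem_K_inf S (kk_mem S hσ) h
  obtain ⟨hn, -, hr⟩ := kk_spec S hσ
  rw [show (⟨kk S σ, hn⟩ : ↥(Subgroup.normalizer (l.T.V : Set G))) = 1 from Subtype.ext h1, map_one] at hr
  exact (congrArg Subtype.val hr).symm

variable (S : Split56 G z l.T)

/-- The member of the complement of an index. -/
noncomputable def kt (a : ℕ) : G := kk S (tr a)

theorem kt_zero : kt S 0 = 1 := by rw [kt, tr_zero, kk_one]

theorem kt_mul {a b : ℕ} (ha : a < 64) (hb : b < 64) : kt S a * kt S b = kt S (a ^^^ b) := by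
  rw [kt, kt, kt, ← kk_mul S (tr_mem ha) (tr_mem hb), tr_mul ha hb]

theorem kt_sq {a : ℕ} (ha : a < 64) : kt S a * kt S a = 1 := by rw [kt_mul S ha ha, Nat.xor_self, kt_zero]

theorem kt_inv {a : ℕ} (ha : a < 64) : (kt S a)⁻¹ = kt S a := inv_eq_of_mul_eq_one_right (kt_sq S ha)

theorem kt_norm {a : ℕ} (ha : a < 64) : kt S a ∈ Subgroup.normalizer (l.T.V : Set G) :=
  (kk_spec S (tr_mem ha)).choose

theorem kt_ρ {a : ℕ} (ha : a < 64) : l.T.ρ ⟨kt S a, kt_norm S ha⟩ = ⟨tr a, tr_mem ha⟩ :=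
  (kk_spec S (tr_mem ha)).choose_spec.2

theorem kt_cE {a : ℕ} (ha : a < 64) : kt S a ∈ cE z := by
  obtain ⟨hn, hK, hr⟩ := kk_spec S (tr_mem ha)
  exact S.hW ⟨kt S a, hn⟩ hK (by
    rw [show l.T.ρ ⟨kt S a, hn⟩ = ⟨tr a, tr_mem ha⟩ from hr]
    exact tr_inW ha)

/-- Moving a member of the subgroup past a translation. -/
theorem el_kt {a n : ℕ} (ha : a < 64) (hn : n < 2048) :
    l.T.el n * kt S a = kt S a * l.T.el (RawD.cmb a n ^^^ n) := by
  have h := kk_conj_el S (tr_mem ha) hn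
  rw [act_tr ha] at h
  rw [← h]
  show l.T.el n * kt S a = kt S a * (kt S a * l.T.el n * (kt S a)⁻¹)
  rw [kt_inv S ha, ← mul_assoc, ← mul_assoc, kt_sq S ha, one_mul]

theorem mul_kt {a b m n : ℕ} (ha : a < 64) (hb : b < 64) (hm : m < 2048) (hn : n < 2048) :
    kt S a * l.T.el m * (kt S b * l.T.el n) = kt S (a ^^^ b) * l.T.el (RawD.cmb b m ^^^ m ^^^ n) := by
  rw [l.T.el_xor _ (xor_lt (cmb_lt hb hm) hm) _ hn, ← kt_mul S ha hb,
    show kt S a * l.T.el m * (kt S b * l.T.el n) = kt S a * (l.T.el m * kt S b) * l.T.el n by group,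
    el_kt S hb hm]
  group

theorem sq_kt {a n : ℕ} (ha : a < 64) (hn : n < 2048) :
    kt S a * l.T.el n * (kt S a * l.T.el n) = l.T.el (RawD.cmb a n) := by
  rw [mul_kt S ha ha hn hn, Nat.xor_self, kt_zero, one_mul, Nat.xor_assoc, Nat.xor_self, Nat.xor_zero]

/-- Conjugating by a member of the subgroup. -/
theorem conj_kt {a v n : ℕ} (ha : a < 64) (hv : v < 2048) (hn : n < 2048) :
    l.T.el v * (kt S a * l.T.el n) * l.T.el v = kt S a * l.T.el (RawD.cmb a v ^^^ n) := by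
  rw [show l.T.el v * (kt S a * l.T.el n) * l.T.el v = l.T.el v * kt S a * (l.T.el n * l.T.el v) by group,
    el_kt S ha hv, ← l.T.el_xor _ hn _ hv, mul_assoc,
    ← l.T.el_xor _ (xor_lt (cmb_lt ha hv) hv) _ (xor_lt hn hv), Nat.xor_comm n v, Nat.xor_assoc,
    ← Nat.xor_assoc v v n, Nat.xor_self, Nat.zero_xor]

omit S in
theorem el_even {m : ℕ} (hm : m < 64) :
    l.T.el (2 * m) = (secV D (l.f.vec m) : G) := by
  rw [l.el_eq _ (by omega), show 2 * m % 2 = 0 by omega, show 2 * m / 2 % 64 = m by omega,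
    show 2 * m / 128 = 0 by omega, Split.x_zero_coe l]
  simp [epsW]

include l in
omit S in
theorem mk_secV {v : cV z} (hv : v ∈ D.toJMod.fix X.F.U0) : mk (secV D v) = v := by
  rw [secV, ((secStmt G z P D X L _ (D.toJMod.good_U0 L)).1 _
    (by rw [Function.surjInv_eq mk_surjective]; exact hv)).1, Function.surjInv_eq mk_surjective]

omit S in
theorem el_low_exists {n : ℕ} (hn : n < 128) :
    ∃ e : ↥(cE z), (e : G) = l.T.el n ∧ mk e = l.f.vec (n / 2) := by
  have hm : n / 2 < 64 := by omega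
  refine ⟨⟨z ^ (n % 2), pow_mem (z_mem D.hJ) _⟩ * secV D (l.f.vec (n / 2)), ?_, ?_⟩
  · rw [l.el_eq _ (by omega), show n / 2 % 64 = n / 2 by omega, show n / 128 = 0 by omega, Split.x_zero_coe l]
    simp [epsW]
  · rw [mk_mul, mk_secV (l := l) (l.f.vec_mem _ hm), (mk_eq_zero D.hJ).2 (Split.z_pow D (n % 2)), zero_add]

omit S in
theorem eq_el_of_mk {e : ↥(cE z)} {m : ℕ} (hm : m < 64) (h : mk e = l.f.vec m) :
    ∃ n, n < 128 ∧ n / 2 = m ∧ (e : G) = l.T.el n := by
  obtain ⟨e', he', hm'⟩ := el_low_exists (l := l) (n := 2 * m) (by omega)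
  rw [show 2 * m / 2 = m by omega] at hm'
  rcases (mk_eq D.hJ).1 (hm'.trans h.symm) with h2 | h2 <;> rw [he'] at h2
  · exact ⟨2 * m, by omega, by omega, h2⟩
  · have hx : 2 * m ^^^ 1 = 2 * m + 1 := Nat.xor_one_of_even (even_two_mul m)
    refine ⟨2 * m ^^^ 1, by omega, by omega, ?_⟩
    rw [h2, l.T.el_xor _ (by omega) 1 (by norm_num), l.T.el_z]

omit S in
theorem hy_zero : isHy 0 = false := by decide +kernel

omit S in
theorem low_isD {n : ℕ} (hn : n < 128) (h0 : n / 2 ≠ 0) : isD n = isHy (n / 2) := by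
  have h := List.all_eq_true.1 RawD.low_isD (n / 2) (List.mem_range.2 (by omega))
  simp only [Bool.or_eq_true, Bool.and_eq_true, beq_iff_eq] at h
  obtain ⟨h1, h2⟩ := h.resolve_left h0
  rcases Nat.mod_two_eq_zero_or_one n with e | e
  · rw [show 2 * (n / 2) = n by omega] at h1; exact h1
  · rw [show 2 * (n / 2) + 1 = n by omega] at h2; exact h2

/-- A vector over an involution outside the class of `z`. -/
def Dv (v : cV z) : Prop :=
  ∃ e : ↥(cE z), mk e = v ∧ (e : G) * e = 1 ∧ v ≠ 0 ∧ ¬ IsConj z (e : G)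

omit S in
theorem conj_z_iff {e : ↥(cE z)} {c : ↥(cC z P)} {m : ℕ} (hm : m < 64) (h0 : mk e ≠ 0)
    (hc : c • mk e = l.f.vec m) : IsConj z (e : G) ↔ isHy m = false := by
  have hm0 : m ≠ 0 := fun h => h0 (by
    rw [h, Split.vec_zero l] at hc
    rw [← inv_smul_smul c (mk e), hc, smul_zero])
  obtain ⟨n, hn, hn2, hel⟩ := eq_el_of_mk (l := l) (e := cEAut (c : G) c.2.1 e) hm (by rw [← smul_mk]; exact hc)
  have h1 : IsConj z (e : G) ↔ IsConj z (l.T.el n) := by
    have hconj : IsConj (e : G) (l.T.el n) := isConj_iff.2 ⟨(c : G), by rw [← hel]; rfl⟩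
    exact ⟨fun h => h.trans hconj, fun h => h.trans hconj.symm⟩
  rw [h1, l.T.cls n (by omega), IsQ, low_isD hn (by omega), hn2]
  exact and_iff_right (by omega)

variable (l) in
omit S in
theorem exists_vec {e : ↥(cE z)} (he : (e : G) * e = 1) :
    ∃ (c : ↥(cC z P)) (m : ℕ), m < 64 ∧ c • mk e = l.f.vec m := by
  obtain ⟨U, hU, hUe⟩ := (planesStmt G z P D X L l.f).2.2 e (Subtype.ext he)
  obtain ⟨g, -, hg⟩ := D.toJMod.good_conj L hU (IsPGroup.of_card (n := 4) (by rw [hU.1]; norm_num)) le_rfl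
  obtain ⟨c, rfl⟩ := D.πsurj g
  have hfix : c • mk e ∈ D.toJMod.fix X.F.U0 := by
    refine D.toJMod.mem_fix_smul ?_ hUe
    intro x hx
    rw [← hg] at hx
    obtain ⟨y, hy, rfl⟩ := hx
    show (D.π c)⁻¹ * _ * D.π c ∈ U
    simpa [mul_assoc] using (show y ∈ U from hy)
  obtain ⟨m, hm, hme⟩ := l.f.vec_surj _ hfix
  exact ⟨c, m, hm, hme.symm⟩

include l in
omit S in
theorem Dv_iff {e : ↥(cE z)} (he : (e : G) * e = 1) (h0 : mk e ≠ 0) : Dv (mk e) ↔ ¬ IsConj z (e : G) := by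
  refine ⟨fun ⟨e', h', he', _, hn⟩ => ?_, fun h => ⟨e, rfl, he, h0, h⟩⟩
  obtain ⟨c, m, hm, hc⟩ := exists_vec l he
  rw [conj_z_iff hm h0 hc]
  rw [conj_z_iff (l := l) (e := e') hm (by rw [h']; exact h0) (by rw [h']; exact hc)] at hn
  exact hn

variable (l) in
omit S in
theorem Dv_smul (c : ↥(cC z P)) {m : ℕ} (hm : m < 64) :
    Dv (c • l.f.vec m) ↔ (!(m == 0) && isHy m) = true := by
  rcases Nat.eq_zero_or_pos m with h | h
  · subst h
    rw [Split.vec_zero l, smul_zero]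
    exact ⟨fun ⟨_, _, _, h, _⟩ => absurd rfl h, fun h => by simp at h⟩
  obtain ⟨e, he, hme⟩ := el_low_exists (l := l) (n := 2 * m) (by omega)
  rw [show 2 * m / 2 = m by omega] at hme
  obtain ⟨e', he'⟩ : ∃ e', e' = cEAut (c : G) c.2.1 e := ⟨_, rfl⟩
  have hme' : mk e' = c • l.f.vec m := by rw [he', ← smul_mk, hme]
  have h0 : mk e' ≠ 0 := by
    rw [hme']
    intro hz
    have : l.f.vec m = l.f.vec 0 := by rw [Split.vec_zero l, ← inv_smul_smul c (l.f.vec m), hz, smul_zero]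
    have := l.f.vec_inj m hm 0 (by norm_num) this
    omega
  have hsq : (e' : G) * e' = 1 := by
    rw [he', show ((cEAut (c : G) c.2.1 e : ↥(cE z)) : G) = (c : G) * e * (c : G)⁻¹ from rfl, he,
      show (c : G) * l.T.el (2 * m) * (c : G)⁻¹ * ((c : G) * l.T.el (2 * m) * (c : G)⁻¹)
        = (c : G) * (l.T.el (2 * m) * l.T.el (2 * m)) * (c : G)⁻¹ by group, l.T.el_sq (by omega), mul_one,
      mul_inv_cancel]
  rw [← hme', Dv_iff (l := l) hsq h0, conj_z_iff (l := l) hm h0 (c := c⁻¹) (by rw [hme', inv_smul_smul])]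
  simp [show m ≠ 0 by omega]

variable (l) in
include l in
omit S in
/-- The vectors of the class are counted by the planes and the hyperoval. -/
theorem card_Dv : Nat.card {v : cV z // Dv v} = 1386 := by
  obtain ⟨hP1, -, hP3⟩ := planesStmt G z P D X L l.f
  have hc0 : ∀ j : Fin 77, ∃ c : ↥(cC z P), D.π c = X.pl j := fun j => D.πsurj _
  choose c hc using hc0
  have hmem : ∀ (g : ↥(cC z P)) (w : cV z),
      w ∈ D.toJMod.fix (conjSub (D.π g) X.F.U0) ↔ g⁻¹ • w ∈ D.toJMod.fix X.F.U0 := by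
    intro g w
    constructor
    · intro hw
      refine D.toJMod.mem_fix_smul (g := g⁻¹) (fun x hx => ?_) hw
      refine ⟨x, hx, ?_⟩
      show D.π g * x * (D.π g)⁻¹ = (D.π g⁻¹)⁻¹ * x * D.π g⁻¹
      rw [map_inv, inv_inv]
    · intro hw
      rw [← smul_inv_smul g w]
      refine D.toJMod.mem_fix_smul (g := g) (fun x hx => ?_) hw
      obtain ⟨y, hy, rfl⟩ := hx
      show (D.π g)⁻¹ * (D.π g * y * (D.π g)⁻¹) * D.π g ∈ X.F.U0
      simpa [mul_assoc] using hy
  have hall : ∀ U : Subgroup M22t, D.toJMod.Good U → ∃ j : Fin 77, conjSub (X.pl j) X.F.U0 = U := by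
    intro U hU
    obtain ⟨m, -, hm⟩ := D.toJMod.good_conj L hU (S := U)
      (IsPGroup.of_card (n := 4) (by rw [hU.1]; norm_num)) le_rfl
    obtain ⟨j, hj, he⟩ := X.planes m⁻¹
    refine ⟨⟨j, hj⟩, he.symm.trans ?_⟩
    rw [conjSub, ← hm, Subgroup.map_map]
    ext x
    rw [Subgroup.mem_map]
    exact ⟨fun ⟨y, hy, e⟩ => by simp [mul_assoc] at e; exact e ▸ hy, fun hx => ⟨x, hx, by simp [mul_assoc]⟩⟩
  let F : Fin 77 × {m : Fin 64 // (!((m : ℕ) == 0) && isHy m) = true} → {v : cV z // Dv v} :=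
    fun q => ⟨c q.1 • l.f.vec q.2.1, (Dv_smul l (c q.1) q.2.1.isLt).2 q.2.2⟩
  have hF : Function.Bijective F := by
    constructor
    · rintro ⟨i, ⟨m, hm⟩⟩ ⟨j, ⟨m', hm'⟩⟩ he
      have he' : c i • l.f.vec m = c j • l.f.vec m' := congrArg Subtype.val he
      obtain ⟨g, hg⟩ : ∃ g, g = (c i)⁻¹ * c j := ⟨_, rfl⟩
      have hgv : l.f.vec m ∈ D.toJMod.fix (conjSub (D.π g) X.F.U0) := by
        rw [hmem, hg, mul_inv_rev, inv_inv, mul_smul, he', inv_smul_smul]
        exact l.f.vec_mem _ m'.isLt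
      have hgood : D.toJMod.Good (conjSub (D.π g) X.F.U0) := D.toJMod.good_map L (D.toJMod.good_U0 L) g
      have hm2 : (m : ℕ) ≠ 0 ∧ isHy m = true := by simpa using hm
      have hU := hP1 _ hgood m m.isLt hm2.1 hm2.2 hgv
      have hij : i = j := by
        refine Fin.ext (X.planes_inj i i.2 j j.2 ?_)
        rw [← hc i, ← hc j, show D.π (c j) = D.π (c i) * D.π g by rw [hg, map_mul, map_inv, mul_inv_cancel_left],
          Pl41.conjSub_mul, hU]
      subst hij
      exact Prod.ext rfl (Subtype.ext (Fin.ext (l.f.vec_inj _ m.isLt _ m'.isLt (MulAction.injective (c i) he'))))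
    · rintro ⟨v, hv⟩
      obtain ⟨e, he, hsq, -, -⟩ := id hv
      obtain ⟨U, hU, hUe⟩ := hP3 e (Subtype.ext hsq)
      obtain ⟨j, rfl⟩ := hall U hU
      rw [← hc j, hmem, he] at hUe
      obtain ⟨m, hm, hmv⟩ := l.f.vec_surj _ hUe
      have hv' : v = c j • l.f.vec m := by rw [hmv, smul_inv_smul]
      exact ⟨⟨j, ⟨⟨m, hm⟩, (Dv_smul l (c j) hm).1 (hv' ▸ hv)⟩⟩, Subtype.ext hv'.symm⟩
  rw [← Nat.card_eq_of_bijective F hF, Nat.card_prod, Nat.card_fin, count_fin (fun m => !(m == 0) && isHy m),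
    RawD.hy_card]

theorem kt_el_cE {a n : ℕ} (ha : a < 64) (hn : n < 128) : kt S a * l.T.el n ∈ cE z :=
  mul_mem (kt_cE S ha) (S.hX n hn)

/-- The vector with given coordinates. -/
noncomputable def pr (q : Fin 64 × Fin 64) : cV z :=
  mk (⟨kt S q.1, kt_cE S q.1.isLt⟩ : ↥(cE z)) + l.f.vec q.2

theorem mk_kt_el {a n : ℕ} (ha : a < 64) (hn : n < 128) (e : ↥(cE z)) (he : (e : G) = kt S a * l.T.el n) :
    mk e = pr S (⟨a, ha⟩, ⟨n / 2, by omega⟩) := by
  obtain ⟨f, hf, hmf⟩ := el_low_exists (l := l) hn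
  rw [show e = ⟨kt S a, kt_cE S ha⟩ * f from Subtype.ext (by rw [he, Subgroup.coe_mul, hf]), mk_mul, hmf]
  rfl

theorem pr_bijective : Function.Bijective (pr S) := by
  have := D.toJMod.finiteV
  refine (Nat.bijective_iff_injective_and_card _).2 ⟨fun q q' h => ?_, ?_⟩
  swap
  · rw [Nat.card_prod, Nat.card_fin, D.toJMod.cardV]; norm_num
  obtain ⟨a, m⟩ := q
  obtain ⟨b, m'⟩ := q'
  obtain ⟨eb, heb⟩ : ∃ e : ↥(cE z), (e : G) = kt S (a ^^^ (b : ℕ)) :=
    ⟨⟨_, kt_cE S (Nat.xor_lt_two_pow (n := 6) a.isLt b.isLt)⟩, rfl⟩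
  have hmk : mk eb = l.f.vec (m ^^^ (m' : ℕ)) := by
    rw [show eb = ⟨kt S a, kt_cE S a.isLt⟩ * ⟨kt S b, kt_cE S b.isLt⟩ from
      Subtype.ext (by rw [heb]; exact (kt_mul S a.isLt b.isLt).symm), mk_mul, l.f.vec_xor _ m.isLt _ m'.isLt]
    have h' : mk (⟨kt S a, kt_cE S a.isLt⟩ : ↥(cE z)) = pr S (b, m') + l.f.vec m := by
      rw [← h, pr, add_assoc, cV_two D.hJ, add_zero]
    rw [h', pr]
    rw [show ∀ x y w : cV z, x + y + w + x = w + y + (x + x) from fun x y w => by abel, cV_two D.hJ, add_zero]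
  have hlt : (m : ℕ) ^^^ (m' : ℕ) < 64 := Nat.xor_lt_two_pow (n := 6) m.isLt m'.isLt
  obtain ⟨n, hn, hn2, hel⟩ := eq_el_of_mk hlt hmk
  rw [heb] at hel
  have hab : (a : ℕ) ^^^ (b : ℕ) < 64 := Nat.xor_lt_two_pow (n := 6) a.isLt b.isLt
  have h1 := eq_kk_one (S := S) (tr_mem hab) (show kt S _ ∈ l.T.V by rw [hel]; exact l.T.el_mem (by omega))
  rw [← tr_zero] at h1
  have hab0 := tr_inj hab (by norm_num) h1
  rw [hab0, kt_zero] at hel
  have hn0 := l.T.eq_zero_of_el (by omega) hel.symm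
  exact Prod.ext (Fin.ext (Nat.xor_eq_zero_iff.1 hab0)) (Fin.ext (Nat.xor_eq_zero_iff.1 (hn2.symm.trans (by rw [hn0]))))

end Cfsg.Agent.Lib.J4Iso59.RawP
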