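import Cfsg.Agent.Lib.J4Iso59.RawData
import Cfsg.Agent.Lib.J4Two56.Cover
import Cfsg.Agent.Lib.J4Two56.Frame

/-! Kernel checks for the existence of the second subgroup. -/

set_option autoImplicit false
set_option maxRecDepth 100000

namespace Cfsg.Agent.Lib.J4Iso59.RawD

open Cfsg.Agent.Lib Cfsg.Agent.Lib.J4Two56

/-- A translation as a list. -/
def wl (a : ℕ) : List ℕ := J4Iso59.wList.getD a []

/-- The commutator of a member with a translation, in numbers. -/
def cmb (a n : ℕ) : ℕ := actL (wl a) n ^^^ n

/-- The commutator bit. -/
def comB (a m : ℕ) : Bool := (comMasks.getD a 0).testBit m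

/-- Lying in a class. -/
def inLab (L a m : ℕ) : Bool := ((labMasks.getD L []).getD a 0).testBit m

/-- The entry of the certificate. -/
def entry (a m : ℕ) : ℕ × ℕ × ℕ :=
  (cert.getD a []).getD ((List.range m).countP fun k => !comB a k) (0, 0, 0)

/-- The classes assigned by four choices. -/
def dOpt (o : Bool × Bool × Bool × Bool) (a m : ℕ) : Bool :=
  if a = 0 then !(m == 0) && isHy m
  else (o.1 && inLab 0 a m) || (o.2.1 && inLab 1 a m) || (o.2.2.1 && inLab 2 a m) || (o.2.2.2 && inLab 3 a m)

/-- The action of the element of order three on numbers. -/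
def qTgt (n : ℕ) : ℕ := n % 2 ^^^ 2 * sc 2 (n / 2 % 64) ^^^ 128 * (n / 128)

/-- The linear map of three values. -/
def lin (x0 x1 x2 a : ℕ) : ℕ := sc (a % 4) x0 ^^^ sc (a / 4 % 4) x1 ^^^ sc (a / 16) x2

/-- The symmetry of a graph on listed translations. -/
def symOK (x0 x1 x2 : ℕ) (B : List ℕ) : Bool :=
  B.all fun a => B.all fun b => comB a (lin x0 x1 x2 b) == comB b (lin x0 x1 x2 a)

/-- The number of members of the distinguished class on a graph. -/
def graphCount (o : Bool × Bool × Bool × Bool) (x0 x1 x2 : ℕ) : ℕ :=
  (List.range 64).countP fun a => dOpt o a (lin x0 x1 x2 a)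

/-- The two possible choices of classes. -/
def optA : Bool × Bool × Bool × Bool := (false, true, true, false)

/-- The two possible choices of classes. -/
def optB : Bool × Bool × Bool × Bool := (false, true, false, true)

/-- The test of a graph. -/
def candOK (x0 x1 x2 : ℕ) : Bool :=
  (!(graphCount optA x0 x1 x2 == 18) || vList.any fun v =>
    (List.range 64).all fun a => lin x0 x1 x2 a == cmb a v / 2) &&
  (!(graphCount optB x0 x1 x2 == 18) || vList.any fun v =>
    (List.range 64).all fun a => lin x0 x1 x2 a == (cmb a v ^^^ twList.getD a 0) / 2)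

theorem wl_ok : ((List.range 64).all fun a => inWL (wl a)) = true := by decide +kernel

theorem wl_nodup : ((List.range 64).map fun a => Golay.Classes.pack (wl a)).Nodup := by decide +kernel

theorem wl_all : (J4Two56.wList.all fun l => (List.range 64).any fun a => decide (l = wl a)) = true := by
  decide +kernel

theorem wl_mul : ((List.range 64).all fun a => (List.range 64).all fun b =>
    decide (Golay.compList (wl a) (wl b) = wl (a ^^^ b)) && Golay.validList (wl (a ^^^ b))) = true := by
  decide +kernel

theorem wl_q : ((List.range 64).all fun a => decide (sc 2 a < 64) &&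
    decide (Golay.compList qL (wl a) = Golay.compList (wl (sc 2 a)) qL)) = true := by decide +kernel

theorem qL_ok : (Golay.inM24 qL && decide (Golay.compList qL (Golay.compList qL qL) = List.range 24)) = true := by
  decide +kernel

theorem qL_act : ((List.range 11).all fun k => decide (actL qL (2 ^ k) = qTgt (2 ^ k))) = true := by decide +kernel

theorem qTgt_low : ((List.range 2048).all fun b => decide (qTgt b < 2048) &&
    (!decide (b ^^^ qTgt b ^^^ qTgt (qTgt b) = 0) || decide (b < 128))) = true := by decide +kernel

theorem comB_ok : ((List.range 64).all fun a => decide (cmb a 1 = 0) && (List.range 64).all fun m =>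
    decide (cmb a (2 * m) = if comB a m then 1 else 0)) = true := by decide +kernel

theorem gLists_ok : (gLists.all fun g => Golay.inM24 g && decide (actL g 1 = 1)) = true := by decide +kernel

theorem cert_ok : ((List.range 64).all fun a => a == 0 || (List.range 64).all fun m => comB a m ||
    (let e := entry a m
     let g := gLists.getD e.2.1 []
     let r := rootList.getD e.1 (0, 0)
     decide (e.1 < 4) && decide (e.2.1 < gLists.length) && decide (e.2.2 < 2048) &&
     decide (Golay.compList g (wl r.1) = Golay.compList (wl a) g) &&
     decide (actL g (2 * r.2) < 128) && decide (cmb a e.2.2 < 128) &&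
     decide ((actL g (2 * r.2) ^^^ cmb a e.2.2) / 2 = m) &&
     (List.range 4).all fun L => inLab L a m == decide (L = e.1))) = true := by decide +kernel

theorem roots_ok : (decide (rootList.length = 4) && rootList.all fun r =>
    decide (0 < r.1) && decide (r.1 < 64) && decide (r.2 < 64) && !comB r.1 r.2) = true := by decide +kernel

theorem lab_perp : ((List.range 64).all fun a => a == 0 || (List.range 64).all fun m =>
    !comB a m || (List.range 4).all fun L => !inLab L a m) = true := by decide +kernel

theorem low_isD : ((List.range 64).all fun m => m == 0 ||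
    (isD (2 * m) == isHy m && isD (2 * m + 1) == isHy m)) = true := by decide +kernel

theorem hy_card : ((List.range 64).countP fun m => !(m == 0) && isHy m) = 18 := by decide +kernel

theorem opt_count : ([false, true].all fun c0 => [false, true].all fun c1 => [false, true].all fun f0 =>
    [false, true].all fun f1 => !((((List.range 64).map fun a =>
      (List.range 64).countP fun m => dOpt (c0, c1, f0, f1) a m).sum) == 1386) ||
      decide ((c0, c1, f0, f1) = optA ∨ (c0, c1, f0, f1) = optB)) = true := by decide +kernel

theorem twList_ok : ((List.range 64).all fun a => decide (twList.getD a 0 < 128) &&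
    decide (twList.getD a 0 = J4Two56.cdList.getD (Golay.applyNum (wl a) 0) 0 ^^^ J4Two56.cdList.getD 0 0)) = true := by
  decide +kernel

theorem vList_ok : (vList.all fun v => decide (v < 2048) &&
    (List.range 64).all fun a => decide (cmb a v < 128)) = true := by decide +kernel

theorem sc_ok : ((List.range 64).all fun a => decide (sc 0 a = 0) && decide (sc 1 a = a) &&
    decide (sc 3 a = sc 2 (sc 2 a)) &&
    decide (sc (a % 4) 1 ^^^ sc (a / 4 % 4) 4 ^^^ sc (a / 16) 16 = a) &&
    decide (sc 0 a < 64) && decide (sc 2 a < 64)) = true := by decide +kernel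

theorem cand_ok : ((List.range 64).all fun x0 => comB 1 x0 || (List.range 64).all fun x1 =>
    comB 4 x1 || !symOK x0 x1 0 [1, 2, 4, 8] || (List.range 64).all fun x2 =>
      comB 16 x2 || !symOK x0 x1 x2 [1, 2, 4, 8, 16, 32] || candOK x0 x1 x2) = true := by decide +kernel

end Cfsg.Agent.Lib.J4Iso59.RawD
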