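import Cfsg.Agent.Lib.J4Iso59.RawOpts

/-!
# The section over the second plane as a graph over the translations

Its members are `kk a * el (d a)`; halving `d` gives a map linear over the field of order four with
symmetric commutator, determined by three values.
-/

set_option autoImplicit false
set_option maxRecDepth 100000

universe u

namespace Cfsg.Agent.Lib.J4Iso59.RawP

open Cfsg Cfsg.Agent.Lib Cfsg.Agent.Lib.J4Two56 Cfsg.Agent.Lib.J4Type19

attribute [local instance] m22_finite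

theorem qL_all : ((List.range 2048).all fun n => decide (actL RawD.qL n = RawD.qTgt n) &&
    decide (RawD.qTgt n % 2 = n % 2) && decide (RawD.qTgt n / 2 % 64 = sc 2 (n / 2 % 64)) &&
    decide (RawD.qTgt n / 128 = n / 128)) = true := by decide +kernel

theorem q_low : ((List.range 128).all fun n => [0, 1].all fun c =>
    decide (RawD.qTgt (c ^^^ n) < 128) && decide (RawD.qTgt (c ^^^ n) / 2 = sc 2 (n / 2))) = true := by
  decide +kernel

theorem qL_facts {n : ℕ} (hn : n < 2048) : actL RawD.qL n = RawD.qTgt n ∧ RawD.qTgt n % 2 = n % 2 ∧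
    RawD.qTgt n / 2 % 64 = sc 2 (n / 2 % 64) ∧ RawD.qTgt n / 128 = n / 128 ∧ RawD.qTgt n < 2048 := by
  have h := List.all_eq_true.1 qL_all n (List.mem_range.2 hn)
  have h2 := List.all_eq_true.1 RawD.qTgt_low n (List.mem_range.2 hn)
  simp only [Bool.and_eq_true, decide_eq_true_eq] at h h2
  exact ⟨h.1.1.1, h.1.1.2, h.1.2, h.2, h2.1⟩

theorem qL_mem : Golay.inM24 RawD.qL = true := by
  have h := RawD.qL_ok
  rw [Bool.and_eq_true] at h
  exact h.1

theorem qL_cube : Golay.toPerm RawD.qL * (Golay.toPerm RawD.qL * Golay.toPerm RawD.qL) = 1 := by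
  have h := RawD.qL_ok
  simp only [Bool.and_eq_true, decide_eq_true_eq] at h
  have hv := Golay.inM24.valid h.1
  refine Equiv.ext fun p => Golay.ptEquiv.injective (Fin.ext ?_)
  show (Golay.idx (Golay.toPerm RawD.qL (Golay.toPerm RawD.qL (Golay.toPerm RawD.qL p)))).val = (Golay.idx p).val
  rw [Golay.idx_toPerm hv, Golay.idx_toPerm hv, Golay.idx_toPerm hv,
    ← Golay.applyNum_compList _ _ (Golay.idx p).isLt, ← Golay.applyNum_compList _ _ (Golay.idx p).isLt, h.2]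
  exact of_decide_eq_true (List.all_eq_true.1 applyNum_range _ (List.mem_range.2 (Golay.idx p).isLt))

variable {G : Type u} [Group G] [Finite G] {z : G} {P : Subgroup G} {D : HData z P} {X : Plus M22t}
  {L : Lifts D.toJMod X.F}

variable (l : Loc D X L)

/-- The element of order three in the chosen power acts as listed. -/
theorem conj_pp {n : ℕ} (hn : n < 2048) :
    D.p ^ L.e * l.T.el n * (D.p ^ L.e)⁻¹ = l.T.el (RawD.qTgt n) := by
  obtain ⟨-, h1, h2, h3, h4⟩ := qL_facts hn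
  have hU := D.toJMod.good_U0 L
  obtain ⟨hmk, hcong, -, hequi⟩ := secStmt G z P D X L _ hU
  have hm : n / 2 % 64 < 64 := Nat.mod_lt _ (by norm_num)
  have hpp : D.p ^ L.e ∈ cH z := pow_mem D.pH _
  have hcp : ∀ g : G, Commute g D.p → D.p ^ L.e * g * (D.p ^ L.e)⁻¹ = g := fun g hg => by
    rw [← (hg.pow_right L.e).eq, mul_inv_cancel_right]
  have hz : D.p ^ L.e * z * (D.p ^ L.e)⁻¹ = z := Split.z_conj hpp
  have hzp : ∀ k : ℕ, D.p ^ L.e * z ^ k * (D.p ^ L.e)⁻¹ = z ^ k := fun k => by rw [← conj_pow, hz]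
  obtain ⟨e, hedef⟩ : ∃ e, e = Function.surjInv mk_surjective (l.f.vec (n / 2 % 64)) := ⟨_, rfl⟩
  have he : mk e = l.f.vec (n / 2 % 64) := by rw [hedef, Function.surjInv_eq mk_surjective]
  have hef : mk e ∈ D.toJMod.fix X.F.U0 := he ▸ l.f.vec_mem _ hm
  have hmap : mk (cEAut _ hpp e) = l.f.vec (sc 2 (n / 2 % 64)) := by
    rw [← l.f.vec_w _ hm, ← he, ← Split.pC_pow_smul (D := D), smul_mk]
    exact congrArg mk (Subtype.ext (by
      show ((D.pC ^ L.e : ↥(cC z P)) : G) * (e : G) * ((D.pC ^ L.e : ↥(cC z P)) : G)⁻¹ =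
        D.p ^ L.e * (e : G) * (D.p ^ L.e)⁻¹
      rw [SubgroupClass.coe_pow]; rfl))
  have hlt : sc 2 (n / 2 % 64) < 64 := by rw [← h2]; exact Nat.mod_lt _ (by norm_num)
  have hsec : D.p ^ L.e * (secV D (l.f.vec (n / 2 % 64)) : G) * (D.p ^ L.e)⁻¹ =
      (secV D (l.f.vec (sc 2 (n / 2 % 64))) : G) := by
    rw [secV, secV, ← hedef]
    show ((cEAut _ hpp (sec D e) : ↥(cE z)) : G) = _
    rw [← hequi _ hpp (Or.inl (by rw [(Commute.self_pow D.p L.e).symm.eq, mul_inv_cancel_right])) e hef]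
    refine congrArg Subtype.val (hcong _ _ (hmap ▸ l.f.vec_mem _ hlt) ?_ ?_)
    · rw [Function.surjInv_eq mk_surjective]; exact l.f.vec_mem _ hlt
    · rw [Function.surjInv_eq mk_surjective]; exact hmap
  rw [l.el_eq n hn, l.el_eq _ h4, h1, h2, h3, ← hsec]
  conv_rhs => rw [← hzp (n % 2), ← hcp (l.x (n / 128) : G) (D.comm_p (l.x (n / 128))).symm, ← hzp (epsW _)]
  group

variable (S : Split56 G z l.T)

theorem conj_qk {n : ℕ} (hn : n < 2048) :
    kk S (Golay.toPerm RawD.qL) * l.T.el n * (kk S (Golay.toPerm RawD.qL))⁻¹ = l.T.el (RawD.qTgt n) := by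
  rw [kk_conj_el S (Golay.toPerm_mem_M24 qL_mem) hn, act_toPerm (Golay.inM24.valid qL_mem), (qL_facts hn).1]

/-- The element of order three in the complement's coordinates. -/
theorem exists_pp : ∃ b, b < 128 ∧ D.p ^ L.e = kk S (Golay.toPerm RawD.qL) * l.T.el b := by
  have hσ := Golay.toPerm_mem_M24 qL_mem
  have hpn : D.p ^ L.e ∈ Subgroup.normalizer (l.T.V : Set G) :=
    Split.mem_N_of_norms l (pow_mem (Split.p_mem_nrm (D := D) X.F.U0) L.e)
  obtain ⟨hqn, -, hqr⟩ := kk_spec S hσ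
  have hρ : l.T.ρ ⟨D.p ^ L.e, hpn⟩ = ⟨_, hσ⟩ := by
    refine Subtype.ext (act_inj (l.T.ρ _).2 hσ fun n hn => ?_)
    have h := l.T.ρ_spec ⟨D.p ^ L.e, hpn⟩ n hn
    rw [conj_pp l hn] at h
    rw [act_toPerm (Golay.inM24.valid qL_mem), (qL_facts hn).1]
    exact l.T.el_inj _ (act_lt _ _) _ (qL_facts hn).2.2.2.2 h.symm
  have hV := l.T.mem_V_of_ρ (n := (⟨kk S (Golay.toPerm RawD.qL), hqn⟩ :
    ↥(Subgroup.normalizer (l.T.V : Set G)))⁻¹ * ⟨D.p ^ L.e, hpn⟩)
    (by rw [map_mul, map_inv, hρ, hqr, inv_mul_cancel])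
  obtain ⟨b, hb, hbe⟩ := (l.T.mem_V _).1 hV
  have hpe : D.p ^ L.e = kk S (Golay.toPerm RawD.qL) * l.T.el b := by
    rw [hbe]
    exact (mul_inv_cancel_left _ _).symm
  refine ⟨b, ?_, hpe⟩
  obtain ⟨q, hq⟩ : ∃ q, q = kk S (Golay.toPerm RawD.qL) := ⟨_, rfl⟩
  have hq3 : q * (q * q) = 1 := by
    rw [hq, ← kk_mul S hσ hσ, ← kk_mul S hσ (mul_mem hσ hσ), qL_cube, kk_one]
  have h1 : RawD.qTgt b < 2048 := (qL_facts hb).2.2.2.2
  have h2 : RawD.qTgt (RawD.qTgt b) < 2048 := (qL_facts h1).2.2.2.2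
  have hcube : l.T.el (b ^^^ RawD.qTgt b ^^^ RawD.qTgt (RawD.qTgt b)) = 1 := by
    have e1 := conj_qk l S hb
    have e2 := conj_qk l S h1
    rw [← hq] at e1 e2 hpe
    have hp3 : (D.p ^ L.e) * ((D.p ^ L.e) * (D.p ^ L.e)) = 1 := by
      rw [← pow_add, ← pow_add, show L.e + (L.e + L.e) = 3 * L.e by ring, pow_mul, D.p3, one_pow]
    rw [hpe] at hp3
    rw [l.T.el_xor _ (xor_lt hb h1) _ h2, l.T.el_xor _ hb _ h1, ← e2, ← e1]
    have hqi : q⁻¹ = q * q := inv_eq_of_mul_eq_one_right hq3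
    have h5 : l.T.el b * (q * l.T.el b * (q * l.T.el b * q)) = 1 := by
      calc l.T.el b * (q * l.T.el b * (q * l.T.el b * q))
          = q⁻¹ * (q * l.T.el b * (q * l.T.el b * (q * l.T.el b))) * q := by group
        _ = 1 := by rw [hp3, mul_one, inv_mul_cancel]
    calc l.T.el b * (q * l.T.el b * q⁻¹) * (q * (q * l.T.el b * q⁻¹) * q⁻¹)
        = l.T.el b * (q * l.T.el b * (q * l.T.el b * (q⁻¹ * q⁻¹))) := by group
      _ = 1 := by
        rw [show q⁻¹ * q⁻¹ = q by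
          rw [hqi, show q * q * (q * q) = q * (q * (q * q)) by group, hq3, mul_one]]
        exact h5
  have h0 := l.T.eq_zero_of_el (xor_lt (xor_lt hb h1) h2) hcube
  have h := List.all_eq_true.1 RawD.qTgt_low b (List.mem_range.2 hb)
  simp only [Bool.and_eq_true, Bool.or_eq_true, Bool.not_eq_true', decide_eq_false_iff_not,
    decide_eq_true_eq] at h
  exact h.2.resolve_left (fun hne => hne h0)

omit S in
theorem lt_of_el_cE {n : ℕ} (hn : n < 2048) (h : l.T.el n ∈ cE z) : n < 128 := by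
  have hx : (l.x (n / 128) : G) ∈ cE z := by
    rw [l.el_eq n hn] at h
    have h1 : z ^ (n % 2) * (secV D (l.f.vec (n / 2 % 64)) : G) ∈ cE z :=
      mul_mem (pow_mem (z_mem D.hJ) _) (secV D _).2
    have h2 := mul_mem (mul_mem (inv_mem h1) h) (inv_mem (pow_mem (z_mem D.hJ) (epsW (n / 128))))
    rwa [inv_mul_cancel_left, mul_inv_cancel_right] at h2
  have h16 : n / 128 < 16 := by omega
  have hφ := D.π_eq (l.x (n / 128))
  rw [l.x_π _ h16, D.φ_cE hx] at hφ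
  have h1 : X.u (n / 128) = 1 := m22_conj_injective (by rw [hφ, map_one])
  have h0 := X.u_inj _ h16 0 (by norm_num) (h1.trans (Split.u_zero X).symm)
  omega

/-- The properties of the graph. -/
structure Graph (d : ℕ → ℕ) : Prop where
  lt : ∀ a, a < 64 → d a < 128
  mem : ∀ a, a < 64 → ∀ e : ↥(cE z), (e : G) = kt S a * l.T.el (d a) →
    mk e ∈ D.toJMod.fix (conjSub X.t₁ X.F.U0)
  sq : ∀ a, a < 64 → RawD.comB a (d a / 2) = false
  sym : ∀ a, a < 64 → ∀ b, b < 64 → RawD.comB a (d b / 2) = RawD.comB b (d a / 2)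
  add : ∀ a, a < 64 → ∀ b, b < 64 → d (a ^^^ b) / 2 = d a / 2 ^^^ d b / 2
  scal : ∀ a, a < 64 → d (sc 2 a) / 2 = sc 2 (d a / 2)

omit S in
theorem sc_facts {a : ℕ} (ha : a < 64) : sc 0 a = 0 ∧ sc 1 a = a ∧ sc 3 a = sc 2 (sc 2 a) ∧
    sc (a % 4) 1 ^^^ sc (a / 4 % 4) 4 ^^^ sc (a / 16) 16 = a ∧ sc 2 a < 64 := by
  have h := List.all_eq_true.1 RawD.sc_ok a (List.mem_range.2 ha)
  simp only [Bool.and_eq_true, decide_eq_true_eq] at h
  exact ⟨h.1.1.1.1.1, h.1.1.1.1.2, h.1.1.1.2, h.1.1.2, h.2⟩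

theorem half_xor (a b : ℕ) : (a ^^^ b) / 2 = a / 2 ^^^ b / 2 := Nat.xor_div_two

theorem exists_graph : ∃ d : ℕ → ℕ, Graph l S d := by
  have hS := secStmt.{u}
  have hU := Split.u1_good (D := D) l
  obtain ⟨hmk, hcong, hmul, hequi⟩ := hS G z P D X L _ hU
  obtain ⟨W, hW⟩ : ∃ W, W = Split.wSub hS hU L := ⟨_, rfl⟩
  have hWm : ∀ {w : G}, w ∈ W → ∃ e : ↥(cE z), mk e ∈ D.toJMod.fix (conjSub X.t₁ X.F.U0) ∧ w = (sec D e : G) :=
    fun {w} hw => by rw [hW] at hw; exact hw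
  have hWE : ∀ {w : G}, w ∈ W → w ∈ cE z := fun {w} hw => by
    obtain ⟨e, -, rfl⟩ := hWm hw
    exact (sec D e).2
  have hW2 : ∀ {w : G}, w ∈ W → w * w = 1 := fun {w} hw => by
    obtain ⟨e, he, rfl⟩ := hWm hw
    exact (hmk e he).2
  have hWV : ∀ {w : G}, w ∈ W → w ∈ l.T.V → w = 1 := fun {w} hw hV =>
    Split.wSub_inf l hS planesStmt hU (hW ▸ hw) hV
  -- the translation of a member
  have hidx : ∀ w : ↥W, ∃ a, a < 64 ∧
      tr a = ((l.T.ρ ⟨(w : G), Split.cE_le_N l (hWE w.2)⟩ : ↥Cfsg.M24) : Equiv.Perm GolayPt) := by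
    rintro ⟨w, hw⟩
    obtain ⟨σ, hσ⟩ : ∃ σ, σ = ((l.T.ρ ⟨w, Split.cE_le_N l (hWE hw)⟩ : ↥Cfsg.M24) : Equiv.Perm GolayPt) := ⟨_, rfl⟩
    have hsp : ∀ n, n < 2048 → w * l.T.el n * w⁻¹ = l.T.el (act σ n) := fun n hn =>
      hσ ▸ l.T.ρ_spec ⟨w, Split.cE_le_N l (hWE hw)⟩ n hn
    have h1 : act σ 1 = 1 := by
      have h := hsp 1 (by norm_num)
      have hz : w * l.T.el 1 * w⁻¹ = l.T.el 1 := by rw [l.T.el_z]; exact Split.z_conj (cE_le z (hWE hw))
      exact (l.T.el_inj _ (by norm_num) _ (act_lt _ _) (hz.symm.trans h)).symm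
    refine hσ ▸ tr_surj ⟨hσ ▸ (l.T.ρ _).2, h1, fun n hn => ?_⟩
    obtain ⟨f, hf, -⟩ := el_low_exists (l := l) hn
    have h := hsp n (by omega)
    rcases comm_or D.hJ ⟨w, hWE hw⟩ f with h2 | h2 <;> rw [hf] at h2 <;>
      rw [mul_inv_eq_iff_eq_mul] at h2
    · left
      rw [h, one_mul] at h2
      exact l.T.el_inj _ (act_lt _ _) _ (by omega) h2
    · right
      have hzn : l.T.el (n ^^^ 1) = z * l.T.el n := by
        rw [Nat.xor_comm, l.T.el_xor _ (by norm_num) _ (by omega), l.T.el_z]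
      rw [h, ← hzn] at h2
      exact l.T.el_inj _ (act_lt _ _) _ (xor_lt (by omega) (by norm_num)) h2
  choose idx hidx64 hidxρ using hidx
  have hinj : Function.Injective fun w : ↥W => (⟨idx w, hidx64 w⟩ : Fin 64) := by
    intro w w' h
    have h' : idx w = idx w' := congrArg Fin.val h
    have hρ : l.T.ρ ⟨(w : G), Split.cE_le_N l (hWE w.2)⟩ = l.T.ρ ⟨(w' : G), Split.cE_le_N l (hWE w'.2)⟩ :=
      Subtype.ext (by rw [← hidxρ w, ← hidxρ w', h'])
    have hV := l.T.mem_V_of_ρ (n := (⟨(w : G), Split.cE_le_N l (hWE w.2)⟩ :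
      ↥(Subgroup.normalizer (l.T.V : Set G)))⁻¹ * ⟨(w' : G), Split.cE_le_N l (hWE w'.2)⟩)
      (by rw [map_mul, map_inv, hρ, inv_mul_cancel])
    exact Subtype.ext (inv_mul_eq_one.1 (hWV (mul_mem (inv_mem w.2) w'.2) hV))
  have hsurj : Function.Surjective fun w : ↥W => (⟨idx w, hidx64 w⟩ : Fin 64) := by
    refine ((Nat.bijective_iff_injective_and_card _).2 ⟨hinj, ?_⟩).2
    rw [Nat.card_fin, hW, Split.card_wSub hS hU]; norm_num
  have hex : ∀ a, a < 64 → ∃ d, d < 128 ∧ kt S a * l.T.el d ∈ W := by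
    intro a ha
    obtain ⟨w, hw⟩ := hsurj ⟨a, ha⟩
    have hw' : idx w = a := congrArg Fin.val hw
    have hV := l.T.mem_V_of_ρ (n := (⟨kt S a, kt_norm S ha⟩ :
      ↥(Subgroup.normalizer (l.T.V : Set G)))⁻¹ * ⟨(w : G), Split.cE_le_N l (hWE w.2)⟩)
      (by
        rw [map_mul, map_inv, kt_ρ S ha, inv_mul_eq_one]
        exact Subtype.ext (by rw [← hidxρ w, hw']))
    obtain ⟨n, hn, hne⟩ := (l.T.mem_V _).1 hV
    simp only [Subgroup.coe_mul, Subgroup.coe_inv] at hne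
    refine ⟨n, lt_of_el_cE l hn (hne ▸ mul_mem (inv_mem (kt_cE S ha)) (hWE w.2)), ?_⟩
    rw [hne, mul_inv_cancel_left]; exact w.2
  have huniq : ∀ {a d d' : ℕ}, a < 64 → d < 2048 → d' < 2048 → kt S a * l.T.el d ∈ W →
      kt S a * l.T.el d' ∈ W → d = d' := by
    intro a d d' ha hd hd' h h'
    have h2 := mul_mem (inv_mem h) h'
    rw [mul_inv_rev, show (l.T.el d)⁻¹ * (kt S a)⁻¹ * (kt S a * l.T.el d') = (l.T.el d)⁻¹ * l.T.el d' by group,
      l.T.el_inv hd, ← l.T.el_xor _ hd _ hd'] at h2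
    have h3 := l.T.eq_zero_of_el (xor_lt hd hd') (hWV h2 (l.T.el_mem (xor_lt hd hd')))
    exact Nat.xor_eq_zero_iff.1 h3
  choose! d hd128 hdW using hex
  have hd2048 : ∀ a, a < 64 → d a < 2048 := fun a ha => lt_trans (hd128 a ha) (by norm_num)
  have hcz : ∀ {a b : ℕ}, a < 64 → b < 64 → RawD.cmb a (d b) / 2 = 0 := fun {a b} ha hb => by
    rw [cmb_low ha (hd128 b hb)]; split <;> rfl
  refine ⟨d, hd128, fun a ha e he => ?_, fun a ha => ?_, fun a ha b hb => ?_, fun a ha b hb => ?_,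
    fun a ha => ?_⟩
  · obtain ⟨e', he', hw⟩ := hWm (hdW a ha)
    rw [show e = sec D e' from Subtype.ext (he.trans hw), (hmk e' he').1]
    exact he'
  · have h := hW2 (hdW a ha)
    rw [sq_kt S ha (hd2048 a ha)] at h
    have h0 := l.T.eq_zero_of_el (cmb_lt ha (hd2048 a ha)) h
    rw [cmb_low ha (hd128 a ha)] at h0
    cases hc : RawD.comB a (d a / 2)
    · rfl
    · rw [hc, if_pos rfl] at h0; exact absurd h0 one_ne_zero
  · have hwa := hdW a ha
    have hwb := hdW b hb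
    have hcomm : kt S a * l.T.el (d a) * (kt S b * l.T.el (d b)) =
        kt S b * l.T.el (d b) * (kt S a * l.T.el (d a)) := by
      have h := inv_eq_of_mul_eq_one_right (hW2 (mul_mem hwa hwb))
      rw [mul_inv_rev, inv_eq_of_mul_eq_one_right (hW2 hwa), inv_eq_of_mul_eq_one_right (hW2 hwb)] at h
      exact h.symm
    rw [mul_kt S ha hb (hd2048 a ha) (hd2048 b hb), mul_kt S hb ha (hd2048 b hb) (hd2048 a ha),
      Nat.xor_comm b a] at hcomm
    have h := l.T.el_inj _ (xor_lt (xor_lt (cmb_lt hb (hd2048 a ha)) (hd2048 a ha)) (hd2048 b hb))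
      _ (xor_lt (xor_lt (cmb_lt ha (hd2048 b hb)) (hd2048 b hb)) (hd2048 a ha)) (mul_left_cancel hcomm)
    rw [Nat.xor_assoc, Nat.xor_assoc, Nat.xor_comm (d b) (d a)] at h
    have h' := congrArg (fun t => t ^^^ (d a ^^^ d b)) h
    simp only [Nat.xor_assoc, Nat.xor_self, Nat.xor_zero] at h'
    rw [cmb_low hb (hd128 a ha), cmb_low ha (hd128 b hb)] at h'
    cases h1 : RawD.comB a (d b / 2) <;> cases h2 : RawD.comB b (d a / 2) <;>
      first | rfl | (rw [h1, h2] at h'; simp at h')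
  · have hab : a ^^^ b < 64 := Nat.xor_lt_two_pow (n := 6) ha hb
    have h := mul_mem (hdW a ha) (hdW b hb)
    rw [mul_kt S ha hb (hd2048 a ha) (hd2048 b hb)] at h
    rw [huniq hab (hd2048 _ hab) (xor_lt (xor_lt (cmb_lt hb (hd2048 a ha)) (hd2048 a ha)) (hd2048 b hb))
      (hdW _ hab) h, half_xor, half_xor, hcz hb ha, Nat.zero_xor]
  · obtain ⟨hsa, hcomp⟩ : sc 2 a < 64 ∧
        Golay.compList RawD.qL (RawD.wl a) = Golay.compList (RawD.wl (sc 2 a)) RawD.qL := by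
      have h := List.all_eq_true.1 RawD.wl_q a (List.mem_range.2 ha)
      simpa only [Bool.and_eq_true, decide_eq_true_eq] using h
    obtain ⟨b, hb, hpe⟩ := exists_pp l S
    obtain ⟨hh, hp, -⟩ : Split.Norms D (conjSub X.t₁ X.F.U0) (D.p ^ L.e) :=
      pow_mem (Split.p_mem_nrm (D := D) (conjSub X.t₁ X.F.U0)) L.e
    obtain ⟨e, he, hw⟩ := hWm (hdW a ha)
    have hmemW : D.p ^ L.e * (kt S a * l.T.el (d a)) * (D.p ^ L.e)⁻¹ ∈ W := by
      rw [hW]
      refine ⟨cEAut _ hh e, ?_, ?_⟩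
      · exact Split.fix_map (pow_mem (Split.p_mem_nrm (D := D) (conjSub X.t₁ X.F.U0)) L.e) hh he
      · rw [hequi _ hh hp e he, hw]; rfl
    have hx : RawD.cmb a b ^^^ d a < 2048 := xor_lt (cmb_lt ha (by omega)) (hd2048 a ha)
    have hcalc : D.p ^ L.e * (kt S a * l.T.el (d a)) * (D.p ^ L.e)⁻¹ =
        kt S (sc 2 a) * l.T.el (RawD.qTgt (RawD.cmb a b ^^^ d a)) := by
      have hq := Golay.inM24.valid qL_mem
      have hk : kk S (Golay.toPerm RawD.qL) * kt S a = kt S (sc 2 a) * kk S (Golay.toPerm RawD.qL) := by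
        rw [kt, kt, ← kk_mul S (Golay.toPerm_mem_M24 qL_mem) (tr_mem ha),
          ← kk_mul S (tr_mem hsa) (Golay.toPerm_mem_M24 qL_mem), tr, tr,
          mul_of_compList hq (Golay.inM24.valid (wl_inM24 ha)) (Golay.inM24.valid (wl_inM24 hsa)) hcomp]
      rw [hpe, mul_inv_rev, l.T.el_inv (show b < 2048 by omega),
        show kk S (Golay.toPerm RawD.qL) * l.T.el b * (kt S a * l.T.el (d a)) *
            (l.T.el b * (kk S (Golay.toPerm RawD.qL))⁻¹) =
          kk S (Golay.toPerm RawD.qL) * (l.T.el b * (kt S a * l.T.el (d a)) * l.T.el b) *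
            (kk S (Golay.toPerm RawD.qL))⁻¹ by group,
        conj_kt S ha (by omega) (hd2048 a ha), ← conj_qk l S hx, ← mul_assoc _ (kt S a) _, hk]
      group
    rw [hcalc] at hmemW
    rw [huniq hsa (hd2048 _ hsa) (qL_facts hx).2.2.2.2 (hdW _ hsa) hmemW]
    have h := List.all_eq_true.1 q_low (d a) (List.mem_range.2 (hd128 a ha))
    have hc : RawD.cmb a b ∈ ([0, 1] : List ℕ) := by
      rw [cmb_low ha hb]; split <;> simp
    have h2 := List.all_eq_true.1 h _ hc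
    simp only [Bool.and_eq_true, decide_eq_true_eq] at h2
    exact h2.2

variable {l S}

theorem Graph.zero {d : ℕ → ℕ} (h : Graph l S d) : d 0 / 2 = 0 := by
  have h1 := h.add 0 (by norm_num) 0 (by norm_num)
  rw [Nat.xor_self, Nat.xor_self] at h1
  exact h1

theorem Graph.x_lt {d : ℕ → ℕ} (h : Graph l S d) {a : ℕ} (ha : a < 64) : d a / 2 < 64 := by
  have := h.lt a ha; omega

theorem Graph.sc_eq {d : ℕ → ℕ} (h : Graph l S d) {a : ℕ} (ha : a < 64) {s : ℕ} (hs : s < 4) :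
    sc s a < 64 ∧ d (sc s a) / 2 = sc s (d a / 2) := by
  obtain ⟨a0, a1, a3, -, a2⟩ := sc_facts ha
  obtain ⟨x0, x1, x3, -, -⟩ := sc_facts (h.x_lt ha)
  interval_cases s
  · rw [a0, x0]; exact ⟨by norm_num, h.zero⟩
  · rw [a1, x1]; exact ⟨ha, rfl⟩
  · exact ⟨a2, h.scal a ha⟩
  · rw [a3, x3, h.scal _ a2, h.scal a ha]; exact ⟨(sc_facts a2).2.2.2.2, rfl⟩

/-- The graph is determined by three values. -/
theorem Graph.lin_eq {d : ℕ → ℕ} (h : Graph l S d) {a : ℕ} (ha : a < 64) :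
    d a / 2 = RawD.lin (d 1 / 2) (d 4 / 2) (d 16 / 2) a := by
  obtain ⟨l0, e0⟩ := h.sc_eq (a := 1) (by norm_num) (s := a % 4) (by omega)
  obtain ⟨l1, e1⟩ := h.sc_eq (a := 4) (by norm_num) (s := a / 4 % 4) (by omega)
  obtain ⟨l2, e2⟩ := h.sc_eq (a := 16) (by norm_num) (s := a / 16) (by omega)
  rw [RawD.lin, ← e0, ← e1, ← e2, ← h.add _ l0 _ l1,
    ← h.add _ (Nat.xor_lt_two_pow (n := 6) l0 l1) _ l2, (sc_facts ha).2.2.2.1]

/-- The graph meets the chosen classes in eighteen members. -/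
theorem Graph.count {d : ℕ → ℕ} (h : Graph l S d) {o : Bool × Bool × Bool × Bool}
    (ho : ∀ a m, ∀ (ha : a < 64) (hm : m < 64), (Dv (pr S (⟨a, ha⟩, ⟨m, hm⟩)) ↔ RawD.dOpt o a m = true)) :
    RawD.graphCount o (d 1 / 2) (d 4 / 2) (d 16 / 2) = 18 := by
  obtain ⟨c, hc⟩ := D.πsurj X.t₁
  have hμ : ∀ a : Fin 64, ∃ m : Fin 64, pr S (a, ⟨d a / 2, h.x_lt a.isLt⟩) = c • l.f.vec m := by
    intro a
    obtain ⟨e, he⟩ : ∃ e : ↥(cE z), (e : G) = kt S a * l.T.el (d a) :=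
      ⟨⟨_, kt_el_cE S a.isLt (h.lt a a.isLt)⟩, rfl⟩
    have hfix : c⁻¹ • J4Type19.mk e ∈ D.toJMod.fix X.F.U0 := by
      refine D.toJMod.mem_fix_smul (g := c⁻¹) (fun x hx => ?_) (h.mem a a.isLt e he)
      refine ⟨x, hx, ?_⟩
      show X.t₁ * x * X.t₁⁻¹ = (D.π c⁻¹)⁻¹ * x * D.π c⁻¹
      rw [map_inv, inv_inv, hc]
    obtain ⟨m, hm, hme⟩ := l.f.vec_surj _ hfix
    refine ⟨⟨m, hm⟩, ?_⟩
    rw [hme, smul_inv_smul, mk_kt_el S a.isLt (h.lt a a.isLt) e he]
  choose μ hμ using hμ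
  have hbij : Function.Bijective μ := Finite.injective_iff_bijective.1 fun a b he => by
    have h2 := hμ a
    rw [he, ← hμ b] at h2
    exact congrArg Prod.fst ((pr_bijective S).1 h2)
  have hiff : ∀ a : Fin 64, RawD.dOpt o a (RawD.lin (d 1 / 2) (d 4 / 2) (d 16 / 2) a) = true ↔
      (!((μ a : ℕ) == 0) && isHy (μ a)) = true := by
    intro a
    rw [← h.lin_eq a.isLt, ← ho a _ a.isLt (h.x_lt a.isLt), hμ a]
    exact Dv_smul l c (μ a).isLt
  rw [← RawD.hy_card, RawD.graphCount, ← count_fin, ← count_fin (fun m => !(m == 0) && isHy m)]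
  exact Nat.card_congr ((Equiv.ofBijective μ hbij).subtypeEquiv hiff)

/-- One of the possible graphs. -/
theorem Graph.candidate {d : ℕ → ℕ} (h : Graph l S d) :
    RawD.candOK (d 1 / 2) (d 4 / 2) (d 16 / 2) = true := by
  have hx0 := h.x_lt (a := 1) (by norm_num)
  have hx1 := h.x_lt (a := 4) (by norm_num)
  have hx2 := h.x_lt (a := 16) (by norm_num)
  have hsym : ∀ B : List ℕ, (∀ a ∈ B, a < 64) → ∀ x2, (∀ a ∈ B, RawD.lin (d 1 / 2) (d 4 / 2) x2 a = d a / 2) →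
      RawD.symOK (d 1 / 2) (d 4 / 2) x2 B = true := by
    intro B hB x2 hl
    simp only [RawD.symOK, List.all_eq_true, beq_iff_eq]
    intro a ha b hb
    rw [hl a ha, hl b hb]
    exact h.sym a (hB a ha) b (hB b hb)
  have hB6 : ∀ a ∈ ([1, 2, 4, 8, 16, 32] : List ℕ), a < 64 := by decide
  have hB4 : ∀ a ∈ ([1, 2, 4, 8] : List ℕ), a < 64 ∧ a / 16 = 0 := by decide
  have h1 := hsym _ hB6 (d 16 / 2) fun a ha => (h.lin_eq (hB6 a ha)).symm
  have h0 := hsym [1, 2, 4, 8] (fun a ha => (hB4 a ha).1) 0 fun a ha => by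
    obtain ⟨ha64, ha16⟩ := hB4 a ha
    rw [h.lin_eq ha64, RawD.lin, RawD.lin, ha16, (sc_facts hx2).1, (sc_facts (a := 0) (by norm_num)).1]
  have hc := List.all_eq_true.1 RawD.cand_ok _ (List.mem_range.2 hx0)
  simp only [Bool.or_eq_true, h.sq 1 (by norm_num), Bool.false_eq_true, false_or] at hc
  have hc2 := List.all_eq_true.1 hc _ (List.mem_range.2 hx1)
  simp only [Bool.or_eq_true, h.sq 4 (by norm_num), h0, Bool.not_true, Bool.false_eq_true, false_or] at hc2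
  have hc3 := List.all_eq_true.1 hc2 _ (List.mem_range.2 hx2)
  simpa only [Bool.or_eq_true, h.sq 16 (by norm_num), h1, Bool.not_true, Bool.false_eq_true, false_or] using hc3

end Cfsg.Agent.Lib.J4Iso59.RawP
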