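import Cfsg.Agent.Lib.J4Iso59.RawBase

/-!
# The two possible distributions of the classes on the extraspecial group

Conjugation fuses the members into four classes; exactly 1386 of the vectors lie over involutions outside
the class of `z`, which leaves two choices.
-/

set_option autoImplicit false

universe u

namespace Cfsg.Agent.Lib.J4Iso59.RawP

open Cfsg Cfsg.Agent.Lib Cfsg.Agent.Lib.J4Two56 Cfsg.Agent.Lib.J4Type19

attribute [local instance] m22_finite

theorem applyNum_range : ((List.range 24).all fun i => decide (Golay.applyNum (List.range 24) i = i)) = true := by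
  decide +kernel

/-- Equal compositions of lists give equal products. -/
theorem mul_of_compList {g w w' : List ℕ} (hg : Golay.validList g = true) (hw : Golay.validList w = true)
    (hw' : Golay.validList w' = true) (h : Golay.compList g w = Golay.compList w' g) :
    Golay.toPerm g * Golay.toPerm w = Golay.toPerm w' * Golay.toPerm g := by
  refine Equiv.ext fun p => Golay.ptEquiv.injective (Fin.ext ?_)
  show (Golay.idx (Golay.toPerm g (Golay.toPerm w p))).val = (Golay.idx (Golay.toPerm w' (Golay.toPerm g p))).val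
  rw [Golay.idx_toPerm hg, Golay.idx_toPerm hw, Golay.idx_toPerm hw', Golay.idx_toPerm hg,
    ← Golay.applyNum_compList _ _ (Golay.idx p).isLt, h, Golay.applyNum_compList _ _ (Golay.idx p).isLt]

theorem root_facts {r : ℕ} (hr : r < 4) : 0 < (RawD.rootList.getD r (0, 0)).1 ∧
    (RawD.rootList.getD r (0, 0)).1 < 64 ∧ (RawD.rootList.getD r (0, 0)).2 < 64 ∧
    RawD.comB (RawD.rootList.getD r (0, 0)).1 (RawD.rootList.getD r (0, 0)).2 = false := by
  have h := RawD.roots_ok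
  simp only [Bool.and_eq_true, decide_eq_true_eq, List.all_eq_true, Bool.not_eq_true'] at h
  obtain ⟨hl, h⟩ := h
  have hm : RawD.rootList.getD r (0, 0) ∈ RawD.rootList := by
    rw [List.getD_eq_getElem _ _ (hl ▸ hr)]; exact List.getElem_mem _
  obtain ⟨⟨⟨h1, h2⟩, h3⟩, h4⟩ := h _ hm
  exact ⟨h1, h2, h3, h4⟩

variable {G : Type u} [Group G] [Finite G] {z : G} {P : Subgroup G} {D : HData z P} {X : Plus M22t}
  {L : Lifts D.toJMod X.F} {l : Loc D X L}

variable (S : Split56 G z l.T)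

theorem pr_zero_left (m : Fin 64) : pr S (⟨0, by norm_num⟩, m) = l.f.vec m := by
  rw [pr, show (⟨kt S ((⟨0, by norm_num⟩ : Fin 64) : ℕ), kt_cE S (by norm_num)⟩ : ↥(cE z)) = 1 from
    Subtype.ext (kt_zero S), mk_one, zero_add]

theorem pr_ne_zero {a m : ℕ} (ha : a < 64) (hm : m < 64) (h : a ≠ 0) :
    pr S (⟨a, ha⟩, ⟨m, hm⟩) ≠ 0 := by
  intro h0
  have h2 : pr S (⟨0, by norm_num⟩, ⟨0, by norm_num⟩) = 0 := by rw [pr_zero_left]; exact Split.vec_zero l
  exact h (congrArg (fun q : Fin 64 × Fin 64 => (q.1 : ℕ)) ((pr_bijective S).1 (h0.trans h2.symm)))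

theorem sq_kt_el {a m : ℕ} (ha : a < 64) (hm : m < 64) (h : RawD.comB a m = false) :
    kt S a * l.T.el (2 * m) * (kt S a * l.T.el (2 * m)) = 1 := by
  rw [sq_kt S ha (by omega), cmb_two ha hm, if_neg (by simp [h]), l.T.el_zero]

/-- A member perpendicular to its translation is conjugate to a root. -/
theorem Dv_root {a m : ℕ} (ha : a < 64) (hm : m < 64) (ha0 : a ≠ 0) (hc : RawD.comB a m = false) :
    ∃ r, ∃ hr : r < 4, (∀ L, L < 4 → RawD.inLab L a m = decide (L = r)) ∧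
      (Dv (pr S (⟨a, ha⟩, ⟨m, hm⟩)) ↔ Dv (pr S (⟨(RawD.rootList.getD r (0, 0)).1, (root_facts hr).2.1⟩,
        ⟨(RawD.rootList.getD r (0, 0)).2, (root_facts hr).2.2.1⟩))) := by
  have h := List.all_eq_true.1 RawD.cert_ok a (List.mem_range.2 ha)
  simp only [Bool.or_eq_true, beq_iff_eq, List.all_eq_true, List.mem_range] at h
  have h := (h.resolve_left ha0 m hm).resolve_left (by simp [hc])
  simp only [Bool.and_eq_true, decide_eq_true_eq, List.all_eq_true, List.mem_range, beq_iff_eq] at h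
  obtain ⟨⟨⟨⟨⟨⟨⟨hr, hgi⟩, hv⟩, hcomp⟩, hlow⟩, hclow⟩, hdiv⟩, hlab⟩ := h
  refine ⟨(RawD.entry a m).1, hr, hlab, ?_⟩
  obtain ⟨hr0, hra, hrm, hrc⟩ := root_facts hr
  obtain ⟨a0, ha0'⟩ : ∃ a0, a0 = (RawD.rootList.getD (RawD.entry a m).1 (0, 0)).1 := ⟨_, rfl⟩
  obtain ⟨m0, hm0'⟩ : ∃ m0, m0 = (RawD.rootList.getD (RawD.entry a m).1 (0, 0)).2 := ⟨_, rfl⟩
  obtain ⟨g, hgdef⟩ : ∃ g, g = RawD.gLists.getD (RawD.entry a m).2.1 [] := ⟨_, rfl⟩
  obtain ⟨v, hvdef⟩ : ∃ v, v = (RawD.entry a m).2.2 := ⟨_, rfl⟩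
  simp only [← ha0', ← hm0', ← hgdef, ← hvdef] at hr0 hra hrm hrc hv hcomp hlow hclow hdiv ⊢
  have hg : Golay.inM24 g = true := by
    have h2 := RawD.gLists_ok
    simp only [List.all_eq_true, Bool.and_eq_true] at h2
    exact (h2 g (by rw [hgdef, List.getD_eq_getElem _ _ hgi]; exact List.getElem_mem _)).1
  have hσ := Golay.toPerm_mem_M24 hg
  obtain ⟨n', hn'⟩ : ∃ n', n' = actL g (2 * m0) := ⟨_, rfl⟩
  rw [← hn'] at hlow hdiv
  have hx : RawD.cmb a v ^^^ n' < 128 := Nat.xor_lt_two_pow (n := 7) hclow hlow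
  obtain ⟨e0, he0⟩ : ∃ e0 : ↥(cE z), (e0 : G) = kt S a0 * l.T.el (2 * m0) :=
    ⟨⟨_, kt_el_cE S hra (by omega)⟩, rfl⟩
  obtain ⟨e1, he1⟩ : ∃ e1 : ↥(cE z), (e1 : G) = kt S a * l.T.el (RawD.cmb a v ^^^ n') :=
    ⟨⟨_, kt_el_cE S ha hx⟩, rfl⟩
  have hmk0 : mk e0 = pr S (⟨a0, hra⟩, ⟨m0, hrm⟩) := by
    rw [mk_kt_el S hra (by omega) e0 he0]
    exact congrArg (fun k => pr S (⟨a0, hra⟩, k)) (Fin.ext (show 2 * m0 / 2 = m0 by omega))
  have hmk1 : mk e1 = pr S (⟨a, ha⟩, ⟨m, hm⟩) := by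
    rw [mk_kt_el S ha hx e1 he1]
    refine congrArg (fun k => pr S (⟨a, ha⟩, k)) (Fin.ext ?_)
    show (RawD.cmb a v ^^^ n') / 2 = m
    rw [Nat.xor_comm]; exact hdiv
  have hgk : kk S (Golay.toPerm g) * kt S a0 = kt S a * kk S (Golay.toPerm g) := by
    rw [kt, kt, ← kk_mul S hσ (tr_mem hra), ← kk_mul S (tr_mem ha) hσ, tr, tr,
      mul_of_compList (Golay.inM24.valid hg) (Golay.inM24.valid (wl_inM24 hra))
        (Golay.inM24.valid (wl_inM24 ha)) hcomp]
  have hconj : l.T.el v * kk S (Golay.toPerm g) * (e0 : G) * (l.T.el v * kk S (Golay.toPerm g))⁻¹ = (e1 : G) := by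
    rw [he0, he1, ← conj_kt S ha hv (lt_trans hlow (by norm_num))]
    have h2 := kk_conj_el S hσ (show 2 * m0 < 2048 by omega)
    rw [act_toPerm (Golay.inM24.valid hg), ← hn'] at h2
    rw [← h2, mul_inv_rev, l.T.el_inv hv]
    calc l.T.el v * kk S (Golay.toPerm g) * (kt S a0 * l.T.el (2 * m0)) *
          ((kk S (Golay.toPerm g))⁻¹ * l.T.el v)
        = l.T.el v * (kk S (Golay.toPerm g) * kt S a0) * l.T.el (2 * m0) *
          (kk S (Golay.toPerm g))⁻¹ * l.T.el v := by group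
      _ = _ := by rw [hgk]; group
  have hIC : IsConj (e0 : G) (e1 : G) := isConj_iff.2 ⟨_, hconj⟩
  have hsq0 : (e0 : G) * e0 = 1 := by rw [he0]; exact sq_kt_el S hra hrm hrc
  have hsq1 : (e1 : G) * e1 = 1 := by
    rw [← hconj, show ∀ t : G, t * (e0 : G) * t⁻¹ * (t * (e0 : G) * t⁻¹) = t * ((e0 : G) * e0) * t⁻¹ from
      fun t => by group, hsq0, mul_one, mul_inv_cancel]
  rw [← hmk1, ← hmk0, Dv_iff (l := l) hsq1 (hmk1 ▸ pr_ne_zero S ha hm ha0),
    Dv_iff (l := l) hsq0 (hmk0 ▸ pr_ne_zero S hra hrm (by omega))]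
  exact not_congr ⟨fun h => h.trans hIC.symm, fun h => h.trans hIC⟩

/-- A member not perpendicular to its translation has order four. -/
theorem not_Dv {a m : ℕ} (ha : a < 64) (hm : m < 64) (hc : RawD.comB a m = true) :
    ¬ Dv (pr S (⟨a, ha⟩, ⟨m, hm⟩)) := by
  rintro ⟨e, he, hsq, -, -⟩
  obtain ⟨f, hf⟩ : ∃ f : ↥(cE z), (f : G) = kt S a * l.T.el (2 * m) := ⟨⟨_, kt_el_cE S ha (by omega)⟩, rfl⟩
  have hmk : mk f = pr S (⟨a, ha⟩, ⟨m, hm⟩) := by
    rw [mk_kt_el S ha (by omega) f hf]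
    exact congrArg (fun k => pr S (⟨a, ha⟩, k)) (Fin.ext (show 2 * m / 2 = m by omega))
  have hff : (f : G) * f = z := by
    rw [hf, sq_kt S ha (by omega), cmb_two ha hm, if_pos hc, l.T.el_z]
  refine z_ne D.hJ ?_
  rcases (mk_eq D.hJ).1 (hmk.trans he.symm) with h | h
  · rwa [h, hff] at hsq
  · have hzf : z * (f : G) = f * z := (Subgroup.mem_centralizer_singleton_iff.1 (cE_le z f.2)).symm
    rwa [h, show (f : G) * z * (f * z) = f * (z * f) * z by group, hzf,
      show (f : G) * (f * z) * z = f * f * (z * z) by group, z_sq D.hJ, mul_one, hff] at hsq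

/-- The two distributions. -/
theorem options : ∃ o, (o = RawD.optA ∨ o = RawD.optB) ∧ ∀ a m, ∀ (ha : a < 64) (hm : m < 64),
    (Dv (pr S (⟨a, ha⟩, ⟨m, hm⟩)) ↔ RawD.dOpt o a m = true) := by
  classical
  obtain ⟨b, hb⟩ : ∃ b : ℕ → Bool, ∀ r, ∀ hr : r < 4,
      b r = decide (Dv (pr S (⟨(RawD.rootList.getD r (0, 0)).1, (root_facts hr).2.1⟩,
        ⟨(RawD.rootList.getD r (0, 0)).2, (root_facts hr).2.2.1⟩))) :=
    ⟨fun r => if hr : r < 4 then decide (Dv (pr S (⟨(RawD.rootList.getD r (0, 0)).1, (root_facts hr).2.1⟩,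
        ⟨(RawD.rootList.getD r (0, 0)).2, (root_facts hr).2.2.1⟩))) else false, fun r hr => dif_pos hr⟩
  have key : ∀ a m, ∀ (ha : a < 64) (hm : m < 64),
      (Dv (pr S (⟨a, ha⟩, ⟨m, hm⟩)) ↔ RawD.dOpt (b 0, b 1, b 2, b 3) a m = true) := by
    intro a m ha hm
    by_cases ha0 : a = 0
    · subst ha0
      rw [pr_zero_left, RawD.dOpt, if_pos rfl]
      have h := Dv_smul l (1 : ↥(cC z P)) hm
      rwa [one_smul] at h
    cases hc : RawD.comB a m
    · obtain ⟨r, hr, hlab, hiff⟩ := Dv_root S ha hm ha0 hc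
      rw [hiff]
      have h := hb r hr
      rw [show (Dv (pr S (⟨(RawD.rootList.getD r (0, 0)).1, (root_facts hr).2.1⟩,
        ⟨(RawD.rootList.getD r (0, 0)).2, (root_facts hr).2.2.1⟩)) ↔ b r = true) by rw [h, decide_eq_true_iff]]
      have h0 := hlab 0 (by norm_num)
      have h1 := hlab 1 (by norm_num)
      have h2 := hlab 2 (by norm_num)
      have h3 := hlab 3 (by norm_num)
      interval_cases r <;> simp [RawD.dOpt, ha0, h0, h1, h2, h3]
    · have h := List.all_eq_true.1 RawD.lab_perp a (List.mem_range.2 ha)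
      simp only [Bool.or_eq_true, beq_iff_eq, List.all_eq_true, List.mem_range, Bool.not_eq_true'] at h
      have h2 := (h.resolve_left ha0 m hm).resolve_left (by simp [hc])
      refine iff_of_false (not_Dv S ha hm hc) ?_
      simp [RawD.dOpt, ha0, h2 0 (by norm_num), h2 1 (by norm_num), h2 2 (by norm_num), h2 3 (by norm_num)]
  refine ⟨_, ?_, key⟩
  have hcount : ((List.range 64).map fun a =>
      (List.range 64).countP fun m => RawD.dOpt (b 0, b 1, b 2, b 3) a m).sum = 1386 := by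
    rw [← count_pairs (RawD.dOpt (b 0, b 1, b 2, b 3)), ← card_Dv l]
    exact Nat.card_congr ((Equiv.ofBijective _ (pr_bijective S)).subtypeEquiv
      fun q => (key q.1 q.2 q.1.isLt q.2.isLt).symm)
  have hmem : ∀ c : Bool, c ∈ [false, true] := fun c => by cases c <;> simp
  have h := List.all_eq_true.1 (List.all_eq_true.1 (List.all_eq_true.1 (List.all_eq_true.1 RawD.opt_count
    (b 0) (hmem _)) (b 1) (hmem _)) (b 2) (hmem _)) (b 3) (hmem _)
  simp only [Bool.or_eq_true, Bool.not_eq_true', beq_eq_false_iff_ne, decide_eq_true_eq] at h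
  exact h.resolve_left (fun hne => hne hcount)

end Cfsg.Agent.Lib.J4Iso59.RawP
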