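import Cfsg.Agent.Lib.J4Iso59.Coord

/-!
# Certificates for the two long relators

A move records a listed permutation as `g h w`: `g` names a copy, `h` fixes the first sextet and acts on
the second subgroup by `m`, and `w` is a word in the generators of the trio stabiliser (`true` for `qK`).
-/

set_option autoImplicit false

namespace Cfsg.Agent.Lib.J4Iso59

/-- A move. -/
structure Mv where
  g : List ℕ
  h : List ℕ
  m : List ℕ
  w : List Bool

namespace RelData

/-- The conjugator of the first long relator. -/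
def fS : List ℕ := [23, 5, 22, 21, 15, 17, 10, 8, 14, 18, 9, 12, 20, 2, 0, 16, 1, 4, 3, 7, 13, 6, 11, 19]

/-- The conjugator of the second long relator. -/
def fV : List ℕ := [4, 15, 6, 23, 16, 8, 2, 12, 7, 1, 22, 3, 5, 21, 9, 19, 11, 14, 13, 17, 0, 20, 18, 10]

/-- The inverse of the head of the second long relator. -/
def fP : List ℕ := [21, 18, 20, 13, 16, 22, 14, 15, 7, 23, 19, 17, 8, 1, 6, 12, 10, 11, 3, 4, 0, 2, 5, 9]

/-- The head of the second long relator. -/
def fHead : List ℕ := [20, 13, 21, 18, 19, 22, 14, 8, 12, 23, 16, 17, 15, 3, 6, 7, 4, 11, 1, 10, 2, 0, 5, 9]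

/-- A permutation carrying the trio to the one shared in the second long relator. -/
def hC : List ℕ := [6, 22, 9, 11, 8, 14, 0, 19, 4, 2, 16, 3, 15, 20, 5, 12, 10, 23, 21, 7, 13, 18, 1, 17]

/-- The permutation induced by the conjugate of the third generator. -/
def tau : List ℕ := [14, 2, 1, 17, 12, 23, 9, 13, 16, 6, 18, 15, 4, 7, 0, 11, 8, 3, 10, 22, 21, 20, 19, 5]

/-- A move for the first long relator. -/
def a1 : Mv :=
  ⟨[12, 13, 11, 6, 5, 18, 14, 4, 23, 1, 17, 8, 21, 15, 2, 0, 22, 10, 20, 19, 16, 7, 9, 3],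
   [0, 1, 3, 2, 10, 6, 17, 4, 19, 23, 12, 5, 7, 20, 9, 15, 16, 11, 13, 8, 21, 18, 14, 22],
   [23, 5, 17, 14, 22, 1, 7, 6, 18, 12, 11, 10, 9, 19, 3, 20, 21, 2, 8, 13, 15, 16, 4, 0],
   [true, true, false, true, false, true, true, false, true, false, true, false, true, false, true, true, true, false, true, true, true, false]⟩

/-- A move for the first long relator. -/
def a2 : Mv :=
  ⟨[12, 13, 11, 6, 5, 18, 14, 4, 23, 1, 17, 8, 21, 15, 2, 0, 22, 10, 20, 19, 16, 7, 9, 3],
   [6, 22, 9, 11, 8, 14, 0, 19, 4, 2, 16, 3, 15, 20, 5, 12, 10, 23, 21, 7, 13, 18, 1, 17],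
   [20, 18, 21, 13, 4, 6, 5, 7, 8, 17, 10, 14, 12, 3, 11, 15, 16, 9, 1, 19, 0, 2, 23, 22],
   [true, false, true, true, false, true, false, true, false, true, false, true, true, false, true, false, true, true, true, false, true, true, false]⟩

/-- A move for the first long relator. -/
def a3 : Mv :=
  ⟨[12, 13, 11, 6, 5, 18, 14, 4, 23, 1, 17, 8, 21, 15, 2, 0, 22, 10, 20, 19, 16, 7, 9, 3],
   [0, 1, 2, 3, 4, 5, 6, 7, 8, 9, 10, 11, 12, 13, 14, 15, 16, 17, 18, 19, 20, 21, 22, 23],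
   [0, 1, 2, 3, 4, 5, 6, 7, 8, 9, 10, 11, 12, 13, 14, 15, 16, 17, 18, 19, 20, 21, 22, 23],
   [true, true, false, true, false, true, false, true, true, true, false, true, true, false, true, false, true, false, true, true, true, false, true, false, true, true]⟩

/-- A move for the second long relator. -/
def b1 : Mv :=
  ⟨[2, 0, 13, 18, 17, 23, 7, 5, 1, 12, 22, 19, 11, 15, 9, 3, 20, 6, 10, 21, 8, 4, 16, 14],
   [23, 5, 14, 17, 4, 20, 3, 7, 11, 0, 10, 2, 12, 19, 21, 22, 6, 18, 16, 9, 15, 8, 1, 13],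
   [21, 20, 18, 13, 8, 7, 6, 15, 2, 9, 19, 11, 16, 14, 10, 0, 1, 4, 17, 3, 23, 5, 22, 12],
   [true, false, true, true, true, false, true, false, true, true, false, true, false, true, true, false, true, true, true, false, true, false, true, false, true, false]⟩

/-- A move for the second long relator. -/
def b2 : Mv :=
  ⟨[2, 0, 13, 18, 17, 23, 7, 5, 1, 12, 22, 19, 11, 15, 9, 3, 20, 6, 10, 21, 8, 4, 16, 14],
   [0, 3, 2, 1, 10, 19, 17, 12, 20, 23, 7, 5, 4, 6, 8, 13, 21, 16, 22, 18, 11, 9, 14, 15],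
   [0, 2, 1, 3, 23, 9, 8, 5, 12, 15, 14, 19, 17, 13, 11, 7, 4, 6, 20, 10, 18, 21, 16, 22],
   [true, true, true, false, true, true, false, true, true, false, true, true, false, true, true]⟩

/-- A move for the second long relator. -/
def b3 : Mv :=
  ⟨[2, 0, 13, 18, 17, 23, 7, 5, 1, 12, 22, 19, 11, 15, 9, 3, 20, 6, 10, 21, 8, 4, 16, 14],
   [0, 1, 2, 3, 11, 15, 5, 22, 20, 17, 9, 14, 6, 12, 16, 13, 18, 19, 4, 21, 7, 10, 23, 8],
   [8, 15, 16, 19, 22, 5, 0, 9, 21, 2, 11, 3, 6, 10, 14, 20, 18, 17, 7, 13, 4, 12, 1, 23],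
   [true, true, true, false, true, false, true, true, true, false, true, false, true, false, true, true, false, true, false]⟩

/-- The shared trio in the second subgroup. -/
def c0 : Mv :=
  ⟨[0, 1, 2, 3, 4, 5, 6, 7, 8, 9, 10, 11, 12, 13, 14, 15, 16, 17, 18, 19, 20, 21, 22, 23],
   [6, 22, 9, 11, 8, 14, 0, 19, 4, 2, 16, 3, 15, 20, 5, 12, 10, 23, 21, 7, 13, 18, 1, 17],
   [20, 18, 21, 13, 4, 6, 5, 7, 8, 17, 10, 14, 12, 3, 11, 15, 16, 9, 1, 19, 0, 2, 23, 22],
   []⟩

/-- The word of the head. -/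
def headW : List Bool := [false, true, true, false, true, true, true, false, true, false, true, true, true, false, true, false, true, false, true, false, true, true, false, true, true, true, false, true, false]

/-- A translation fixed by the conjugate: coordinate 84. -/
def wf0 : List Bool := [true, true, false, true, false, true, true, true, false, true, false, true, true, true, false, true, false, true, true, true, false, true, true]

/-- A translation fixed by the conjugate: coordinate 114. -/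
def wf1 : List Bool := [true, true, true, false, true, false, true, true, true, false, true, false, true, false, true, false, true, false, true, false, true, false, true, true, false]

/-- A translation fixed by the conjugate: coordinate 6. -/
def wf2 : List Bool := [true, false, true, true, true, false, true, false, true, false, true, true, false, true, true, false, true, true, false, true, true, true, false, true, true]

/-- A translation fixed by the conjugate: coordinate 16. -/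
def wf3 : List Bool := [true, false, true, false, true, false, true, false, true, true, false, true, true, false, true, true, false, true, true, true, false, true, true]

/-- A fixed member: coordinate 1665. -/
def u0 : Mv :=
  ⟨[0, 1, 2, 3, 4, 5, 6, 7, 8, 9, 10, 11, 12, 13, 14, 15, 16, 17, 18, 19, 20, 21, 22, 23],
   [1, 0, 3, 2, 5, 18, 9, 14, 8, 11, 17, 6, 23, 7, 20, 16, 19, 21, 10, 15, 12, 4, 22, 13],
   [17, 5, 23, 14, 22, 15, 21, 9, 0, 18, 11, 13, 6, 10, 19, 1, 2, 8, 7, 3, 4, 12, 20, 16],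
   []⟩

/-- The same in a shared copy. -/
def u0e : Mv :=
  ⟨[14, 15, 23, 8, 17, 22, 18, 5, 2, 20, 16, 0, 19, 6, 11, 21, 13, 7, 4, 1, 10, 9, 3, 12],
   [3, 0, 2, 1, 5, 7, 22, 23, 20, 6, 14, 11, 17, 16, 4, 21, 13, 12, 8, 18, 15, 19, 9, 10],
   [22, 9, 6, 11, 16, 23, 1, 8, 4, 0, 19, 3, 15, 13, 14, 7, 12, 5, 21, 10, 18, 20, 2, 17],
   [false, true, true, false, true, false, true, false, true, false, true, true, true, false, true, true, true, false, true, true, false, true, true, false]⟩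

/-- The conjugate in that copy. -/
def u0d : Mv :=
  ⟨[14, 15, 23, 8, 17, 22, 18, 5, 2, 20, 16, 0, 19, 6, 11, 21, 13, 7, 4, 1, 10, 9, 3, 12],
   [2, 1, 3, 0, 4, 13, 22, 12, 14, 11, 7, 9, 10, 15, 21, 17, 23, 20, 8, 5, 19, 16, 6, 18],
   [4, 7, 12, 10, 23, 2, 15, 17, 20, 8, 14, 19, 5, 11, 3, 18, 21, 1, 6, 13, 9, 22, 16, 0],
   [true, true, true, false, true, true, true, false, true, false, true, false, true, false, true, false, true, false, true, false, true, false, true, true]⟩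

/-- A fixed member: coordinate 1025. -/
def u1 : Mv :=
  ⟨[0, 1, 2, 3, 4, 5, 6, 7, 8, 9, 10, 11, 12, 13, 14, 15, 16, 17, 18, 19, 20, 21, 22, 23],
   [6, 22, 9, 11, 8, 14, 0, 19, 4, 2, 16, 3, 15, 20, 5, 12, 10, 23, 21, 7, 13, 18, 1, 17],
   [20, 18, 21, 13, 4, 6, 5, 7, 8, 17, 10, 14, 12, 3, 11, 15, 16, 9, 1, 19, 0, 2, 23, 22],
   []⟩

/-- The same in a shared copy. -/
def u1e : Mv :=
  ⟨[2, 0, 13, 18, 17, 23, 7, 5, 1, 12, 22, 19, 11, 15, 9, 3, 20, 6, 10, 21, 8, 4, 16, 14],
   [0, 1, 2, 3, 11, 15, 5, 22, 20, 17, 9, 14, 6, 12, 16, 13, 18, 19, 4, 21, 7, 10, 23, 8],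
   [8, 15, 16, 19, 22, 5, 0, 9, 21, 2, 11, 3, 6, 10, 14, 20, 18, 17, 7, 13, 4, 12, 1, 23],
   [true, true, true, false, true, false, true, true, true, false, true, false, true, false, true, true, false, true, false]⟩

/-- The conjugate in that copy. -/
def u1d : Mv :=
  ⟨[2, 0, 13, 18, 17, 23, 7, 5, 1, 12, 22, 19, 11, 15, 9, 3, 20, 6, 10, 21, 8, 4, 16, 14],
   [23, 5, 14, 17, 4, 20, 3, 7, 11, 0, 10, 2, 12, 19, 21, 22, 6, 18, 16, 9, 15, 8, 1, 13],
   [21, 20, 18, 13, 8, 7, 6, 15, 2, 9, 19, 11, 16, 14, 10, 0, 1, 4, 17, 3, 23, 5, 22, 12],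
   [true, false, true, true, true, false, true, false, true, true, false, true, false, true, true, false, true, true, true, false, true, false, true, false, true, false]⟩

/-- The conjugate, in a copy shared with its image. -/
def vd : Mv :=
  ⟨[14, 15, 23, 8, 17, 22, 18, 5, 2, 20, 16, 0, 19, 6, 11, 21, 13, 7, 4, 1, 10, 9, 3, 12],
   [2, 1, 3, 0, 4, 13, 22, 12, 14, 11, 7, 9, 10, 15, 21, 17, 23, 20, 8, 5, 19, 16, 6, 18],
   [4, 7, 12, 10, 23, 2, 15, 17, 20, 8, 14, 19, 5, 11, 3, 18, 21, 1, 6, 13, 9, 22, 16, 0],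
   [true, true, true, false, true, true, true, false, true, false, true, false, true, false, true, false, true, false, true, false, true, false, true, true]⟩

/-- Its image. -/
def vw : Mv :=
  ⟨[14, 15, 23, 8, 17, 22, 18, 5, 2, 20, 16, 0, 19, 6, 11, 21, 13, 7, 4, 1, 10, 9, 3, 12],
   [18, 20, 21, 13, 2, 7, 8, 0, 23, 19, 1, 16, 3, 9, 10, 17, 14, 12, 22, 5, 6, 11, 15, 4],
   [21, 18, 20, 13, 1, 6, 23, 0, 15, 17, 3, 14, 2, 10, 11, 8, 16, 22, 4, 19, 7, 12, 5, 9],
   [true, true, false, true, true, false, true, true, true, false, true, false, true, false, true, false, true, true, false, true, false, true, true, false, true, true, false]⟩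

/-- A conjugate of the third generator in the second subgroup. -/
def z0 : Mv :=
  ⟨[0, 1, 2, 3, 4, 5, 6, 7, 8, 9, 10, 11, 12, 13, 14, 15, 16, 17, 18, 19, 20, 21, 22, 23],
   [6, 22, 9, 11, 8, 14, 0, 19, 4, 2, 16, 3, 15, 20, 5, 12, 10, 23, 21, 7, 13, 18, 1, 17],
   [20, 18, 21, 13, 4, 6, 5, 7, 8, 17, 10, 14, 12, 3, 11, 15, 16, 9, 1, 19, 0, 2, 23, 22],
   []⟩

/-- A conjugate of the third generator in the second subgroup. -/
def z1 : Mv :=
  ⟨[0, 1, 2, 3, 4, 5, 6, 7, 8, 9, 10, 11, 12, 13, 14, 15, 16, 17, 18, 19, 20, 21, 22, 23],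
   [0, 3, 2, 1, 10, 19, 17, 12, 20, 23, 7, 5, 4, 6, 8, 13, 21, 16, 22, 18, 11, 9, 14, 15],
   [0, 2, 1, 3, 23, 9, 8, 5, 12, 15, 14, 19, 17, 13, 11, 7, 4, 6, 20, 10, 18, 21, 16, 22],
   []⟩

/-- A conjugate of the third generator in the second subgroup. -/
def z2 : Mv :=
  ⟨[0, 1, 2, 3, 4, 5, 6, 7, 8, 9, 10, 11, 12, 13, 14, 15, 16, 17, 18, 19, 20, 21, 22, 23],
   [17, 14, 23, 5, 20, 8, 0, 18, 10, 2, 21, 1, 13, 11, 19, 4, 7, 15, 9, 12, 6, 22, 3, 16],
   [18, 20, 21, 13, 23, 8, 9, 5, 12, 6, 14, 11, 17, 3, 19, 7, 4, 15, 2, 10, 0, 1, 22, 16],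
   []⟩

/-- A conjugate of the third generator in the second subgroup. -/
def z3 : Mv :=
  ⟨[0, 1, 2, 3, 4, 5, 6, 7, 8, 9, 10, 11, 12, 13, 14, 15, 16, 17, 18, 19, 20, 21, 22, 23],
   [0, 1, 2, 3, 11, 15, 5, 22, 20, 17, 9, 14, 6, 12, 16, 13, 18, 19, 4, 21, 7, 10, 23, 8],
   [8, 15, 16, 19, 22, 5, 0, 9, 21, 2, 11, 3, 6, 10, 14, 20, 18, 17, 7, 13, 4, 12, 1, 23],
   []⟩

end RelData

end Cfsg.Agent.Lib.J4Iso59
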