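import Cfsg.Agent.Lib.J4Iso59.Basic
import Cfsg.Agent.Lib.J4Iso59.RelData
import Cfsg.Agent.Lib.J4Two56.Rank
import Cfsg.Prelude.Def_Spor_J4

/-!
# The relators of J4 hold

`x`, `y` are the members of the complement given by `qX`, `qY`, and `t` is the member of the second
subgroup numbered `tNum`.  The two long relators are linear identities in second subgroups.
-/

set_option autoImplicit false

universe u

namespace Cfsg.Agent.Lib.J4Iso59

open Cfsg Cfsg.Agent.Lib Cfsg.Agent.Lib.J4Two56 Subgroup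

/-- The list of a word in the generators of the trio stabiliser. -/
def wordL : List Bool → List ℕ
  | [] => List.range 24
  | b :: w => Golay.compList (if b then qK else qX) (wordL w)

/-- All tails of a word give members of `M24`. -/
def wordOK : List Bool → Bool
  | [] => Golay.inM24 (List.range 24)
  | b :: w => Golay.inM24 (wordL (b :: w)) && wordOK w

/-- The test of a move. -/
def moveOK (σ : List ℕ) (v : Mv) : Bool :=
  Golay.inM24 v.g && thetaOK v.h v.m && wordOK v.w && Golay.inM24 (Golay.compList v.h (wordL v.w)) &&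
    Golay.inM24 σ && Golay.compList v.g (Golay.compList v.h (wordL v.w)) == σ

/-- The coordinate reached by a move. -/
def num (v : Mv) : ℕ := actL v.m tNum

/-- The exclusive or combinations of a list. -/
def spanL : List ℕ → List ℕ
  | [] => [0]
  | a :: l => spanL l ++ (spanL l).map (a ^^^ ·)

theorem act_spanL {σ : Equiv.Perm GolayPt} : ∀ l : List ℕ, (∀ a ∈ l, act σ a = a) → ∀ n ∈ spanL l, act σ n = n
  | [], _, n, hn => by
    obtain rfl : n = 0 := by simpa [spanL] using hn
    exact act_zero σ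
  | a :: l, h, n, hn => by
    have ih := act_spanL l fun b hb => h b (List.mem_cons_of_mem _ hb)
    rcases List.mem_append.1 hn with h1 | h1
    · exact ih n h1
    · obtain ⟨m, hm, rfl⟩ := List.mem_map.1 h1
      rw [act_xor, h a List.mem_cons_self, ih m hm]

theorem qX_ok : Golay.inM24 qX = true := by decide +kernel
theorem qY_ok : Golay.inM24 qY = true := by decide +kernel
theorem qK_ok : Golay.inM24 qK = true := by decide +kernel
theorem id_ok : Golay.inM24 (List.range 24) = true := by decide +kernel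

theorem toPerm_id : Golay.toPerm (List.range 24) = 1 := by
  rw [Golay.toPerm_eq_iff (Golay.inM24.valid id_ok)]
  intro i
  rw [Equiv.Perm.one_apply, Golay.idx_pt]
  simp [Golay.applyNum, List.getD_eq_getElem?_getD, Nat.mod_eq_of_lt i.isLt]

/-- The unordered fixed space of the listed permutation. -/
def fixBasis : List ℕ := [84, 114, 6, 16, 1665, 1025]

theorem tau_ok : (Golay.inM24 RelData.tau && (List.range 24).all (fun i =>
    decide (Golay.applyNum RelData.tau i ≠ i ∧ Golay.applyNum RelData.tau (Golay.applyNum RelData.tau i) = i) &&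
      decide (cdList.getD i 0 ^^^ cdList.getD (Golay.applyNum RelData.tau i) 0 ∈ spanL fixBasis)) &&
    (List.range 2048).all fun n => !(actL RelData.tau n == n) || decide (n ∈ spanL fixBasis)) = true := by
  decide +kernel

/-- The only non-trivial member of `M24` fixing the fixed basis. -/
theorem eq_tau {σ : Equiv.Perm GolayPt} (hσ : σ ∈ Cfsg.M24) (h1 : σ ≠ 1)
    (h : ∀ a ∈ fixBasis, act σ a = a) : σ = Golay.toPerm RelData.tau := by
  have hok := tau_ok
  simp only [Bool.and_eq_true, List.all_eq_true, List.mem_range, decide_eq_true_eq, Bool.or_eq_true,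
    Bool.not_eq_true', beq_eq_false_iff_ne] at hok
  obtain ⟨⟨hτ, hpt⟩, hfix⟩ := hok
  have hv := Golay.inM24.valid hτ
  set τ := Golay.toPerm RelData.tau with hτdef
  have hsp := act_spanL _ h
  have hidx : ∀ p, (Golay.idx (τ p)).val = Golay.applyNum RelData.tau (Golay.idx p).val := Golay.idx_toPerm hv
  have hne : ∀ p, τ p ≠ p := fun p e => (hpt _ (Golay.idx p).isLt).1.1 (by rw [← hidx, e])
  have hττ : ∀ p, τ (τ p) = p := fun p => Golay.ptEquiv.injective (Fin.ext (by
    show (Golay.idx (τ (τ p))).val = (Golay.idx p).val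
    rw [hidx, hidx]; exact (hpt _ (Golay.idx p).isLt).1.2))
  have hpair : ∀ p, σ p = p ∨ σ p = τ p := by
    intro p
    have he : act σ (cd p ^^^ cd (τ p)) = cd p ^^^ cd (τ p) := hsp _ (by
      show cdList.getD (Golay.idx p).val 0 ^^^ cdList.getD (Golay.idx (τ p)).val 0 ∈ _
      rw [hidx]; exact (hpt _ (Golay.idx p).isLt).2)
    rw [act_pair hσ] at he
    have := pair_inj (fun e => hne p (σ.injective e).symm) (fun e => hne p e.symm) he
    rcases pair_eq_cases this with ⟨e, -⟩ | ⟨e, -⟩
    · exact Or.inl e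
    · exact Or.inr e
  have hcomm : Commute σ τ := by
    refine Equiv.ext fun p => ?_
    show σ (τ p) = τ (σ p)
    rcases hpair p with e | e
    · rw [e]
      rcases hpair (τ p) with e' | e'
      · exact e'
      · rw [hττ] at e'
        exact absurd (σ.injective (e'.trans e.symm)) (hne p)
    · rw [e, hττ]
      rcases hpair (τ p) with e' | e'
      · exact absurd (σ.injective (e'.trans e.symm)) (hne p)
      · rw [e', hττ]
  have hσ2 : orderOf σ = 2 := orderOf_eq_prime (Equiv.ext fun p => by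
    show σ (σ p) = p
    rcases hpair p with e | e
    · rw [e, e]
    · rw [e, show σ (τ p) = τ (σ p) from congrArg (fun f : Equiv.Perm GolayPt => f p) hcomm.eq, e, hττ]) h1
  have hτ2 : orderOf τ = 2 := orderOf_eq_prime (Equiv.ext fun p => hττ p) fun e => hne (Golay.pt 0) (by rw [e]; rfl)
  refine (fix_inj (Golay.toPerm_mem_M24 hτ) hσ hτ2 hσ2 hcomm.symm fun n hn e => hsp n ?_).symm
  rcases hfix n hn with h' | h'
  · exact absurd (by rwa [act_toPerm hv] at e) h'
  · exact h'

section

variable {G : Type u} [Group G] {z : G} {T : Todd G z} (S : Split56 G z T)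

/-- The members of the complement, as a homomorphism. -/
noncomputable def kkHom : ↥Cfsg.M24 →* G where
  toFun σ := kk S σ
  map_one' := kk_one S
  map_mul' σ τ := kk_mul S σ.2 τ.2

variable {S} (R : Second S)

/-- The third generator. -/
noncomputable def tee : G := R.T2.el tNum

theorem tee_lt : tNum < 2048 := by decide

theorem comm_wordL (hX : Commute (kl S qX) (tee R)) (hK : Commute (kl S qK) (tee R)) :
    ∀ w, wordOK w = true → Golay.inM24 (wordL w) = true ∧ Commute (kl S (wordL w)) (tee R)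
  | [], _ => ⟨id_ok, by
      show Commute (kl S (List.range 24)) (tee R)
      rw [kl, toPerm_id, kk_one]; exact Commute.one_left _⟩
  | b :: w, h => by
    simp only [wordOK, Bool.and_eq_true] at h
    obtain ⟨h1, h2⟩ := comm_wordL hX hK w h.2
    refine ⟨h.1, ?_⟩
    show Commute (kl S (Golay.compList _ (wordL w))) _
    cases b with
    | false => rw [kl_comp S (by exact qX_ok) h1 (Golay.inM24.valid h.1)]; exact hX.mul_left h2
    | true => rw [kl_comp S (by exact qK_ok) h1 (Golay.inM24.valid h.1)]; exact hK.mul_left h2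

/-- The conjugate of `tee` by a moved permutation. -/
noncomputable def cj (σ : List ℕ) : G := kl S σ * tee R * (kl S σ)⁻¹

variable (hX : Commute (kl S qX) (tee R)) (hK : Commute (kl S qK) (tee R))

include hX hK in
theorem cj_move {σ : List ℕ} {v : Mv} (h : moveOK σ v = true) :
    cj R σ = kl S v.g * R.T2.el (num v) * (kl S v.g)⁻¹ := by
  simp only [moveOK, Bool.and_eq_true, beq_iff_eq] at h
  obtain ⟨⟨⟨⟨⟨hg, hth⟩, hw⟩, hi⟩, hσ⟩, e⟩ := h
  obtain ⟨hwl, hc⟩ := comm_wordL R hX hK v.w hw
  have hh : Golay.inM24 v.h = true := by simp only [thetaOK, Bool.and_eq_true] at hth; exact hth.1.1.1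
  have hkey := theta (R := R) hth tee_lt
  rw [cj, ← e, kl_comp S hg hi (Golay.inM24.valid (e ▸ hσ)), kl_comp S hh hwl (Golay.inM24.valid hi)]
  show kl S v.g * (kl S v.h * kl S (wordL v.w)) * tee R * (kl S v.g * (kl S v.h * kl S (wordL v.w)))⁻¹ = _
  calc kl S v.g * (kl S v.h * kl S (wordL v.w)) * tee R * (kl S v.g * (kl S v.h * kl S (wordL v.w)))⁻¹
      = kl S v.g * (kl S v.h * (kl S (wordL v.w) * tee R) * (kl S (wordL v.w))⁻¹ * (kl S v.h)⁻¹) * (kl S v.g)⁻¹ := by
        group
    _ = kl S v.g * (kl S v.h * tee R * (kl S v.h)⁻¹) * (kl S v.g)⁻¹ := by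
        rw [hc.eq, ← mul_assoc (kl S v.h), mul_inv_cancel_right]
    _ = _ := by
        show kl S v.g * (kl S v.h * R.T2.el tNum * (kl S v.h)⁻¹) * (kl S v.g)⁻¹ = _
        rw [hkey]; rfl

theorem num_lt {σ : List ℕ} {v : Mv} (h : moveOK σ v = true) : num v < 2048 := by
  simp only [moveOK, thetaOK, Bool.and_eq_true] at h
  rw [num, ← act_toPerm (Golay.inM24.valid h.1.1.1.1.2.1.1.2)]
  exact act_lt _ _

include hX hK in
/-- Two conjugates named in one copy commute. -/
theorem cj_comm {σ ρ : List ℕ} {v w : Mv} (hv : moveOK σ v = true) (hw : moveOK ρ w = true) (hg : v.g = w.g) :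
    Commute (cj R σ) (cj R ρ) := by
  rw [cj_move R hX hK hv, cj_move R hX hK hw, hg]
  show _ * _ * _ * (_ * _ * _) = _ * _ * _ * (_ * _ * _)
  calc kl S w.g * R.T2.el (num v) * (kl S w.g)⁻¹ * (kl S w.g * R.T2.el (num w) * (kl S w.g)⁻¹)
      = kl S w.g * (R.T2.el (num v) * R.T2.el (num w)) * (kl S w.g)⁻¹ := by group
    _ = kl S w.g * (R.T2.el (num w) * R.T2.el (num v)) * (kl S w.g)⁻¹ := by
        rw [R.T2.el_comm (num_lt hv) (num_lt hw)]
    _ = _ := by group

include hX hK in
/-- Three conjugates named in one copy with numbers adding to zero have product one. -/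
theorem cj_three {σ ρ π : List ℕ} {a b c : Mv} (ha : moveOK σ a = true) (hb : moveOK ρ b = true)
    (hc : moveOK π c = true) (e1 : a.g = c.g) (e2 : b.g = c.g) (e : num a ^^^ num b ^^^ num c = 0) :
    cj R σ * cj R ρ * cj R π = 1 := by
  rw [cj_move R hX hK ha, cj_move R hX hK hb, cj_move R hX hK hc, e1, e2]
  calc kl S c.g * R.T2.el (num a) * (kl S c.g)⁻¹ * (kl S c.g * R.T2.el (num b) * (kl S c.g)⁻¹) *
        (kl S c.g * R.T2.el (num c) * (kl S c.g)⁻¹)
      = kl S c.g * (R.T2.el (num a) * R.T2.el (num b) * R.T2.el (num c)) * (kl S c.g)⁻¹ := by group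
    _ = 1 := by
      rw [← R.T2.el_xor _ (num_lt ha) _ (num_lt hb), ← R.T2.el_xor _ (xor_lt (num_lt ha) (num_lt hb)) _ (num_lt hc),
        e, R.T2.el_zero, mul_one, mul_inv_cancel]

theorem kl_conj_cj {l σ : List ℕ} (hl : Golay.inM24 l = true) (hσ : Golay.inM24 σ = true)
    (h : Golay.validList (Golay.compList l σ) = true) :
    kl S l * cj R σ * (kl S l)⁻¹ = cj R (Golay.compList l σ) := by
  rw [cj, cj, kl_comp S hl hσ h]; group

theorem tee_sq : tee R * tee R = 1 := R.T2.el_sq tee_lt

theorem cj_sq (σ : List ℕ) : cj R σ * cj R σ = 1 := by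
  rw [cj]
  calc kl S σ * tee R * (kl S σ)⁻¹ * (kl S σ * tee R * (kl S σ)⁻¹)
      = kl S σ * (tee R * tee R) * (kl S σ)⁻¹ := by group
    _ = 1 := by rw [tee_sq]; group

theorem cj_id : cj R (List.range 24) = tee R := by
  rw [cj, kl, toPerm_id, kk_one]; group

open RelData in
theorem first_checks :
    moveOK (Golay.compList qY fS) a1 = true ∧ moveOK (Golay.compList qY (Golay.compList qY fS)) a2 = true ∧
      moveOK fS a3 = true ∧ a1.g = a3.g ∧ a2.g = a3.g ∧ num a1 ^^^ num a2 ^^^ num a3 = 0 ∧
      Golay.compList qY (Golay.compList qY qY) = List.range 24 ∧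
      Golay.inM24 fS = true ∧ Golay.inM24 (Golay.compList qY fS) = true ∧
      Golay.inM24 (Golay.compList qY qY) = true ∧
      Golay.inM24 (Golay.compList qY (Golay.compList qY fS)) = true := by decide +kernel

theorem y_cube : kl S qY * kl S qY * kl S qY = 1 := by
  obtain ⟨-, -, -, -, -, -, e, -, -, hyy, -⟩ := first_checks
  rw [mul_assoc, ← kl_comp S qY_ok qY_ok (Golay.inM24.valid hyy),
    ← kl_comp S qY_ok hyy (by rw [e]; exact Golay.inM24.valid id_ok), e, kl, toPerm_id, kk_one]

include hX hK in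
/-- The first long relator. -/
theorem rel_first : (kl S qY * cj R RelData.fS) ^ 3 = 1 := by
  obtain ⟨h1, h2, h3, g1, g2, hx, -, hS, hyS, -, hyyS⟩ := first_checks
  have e1 := kl_conj_cj R qY_ok hS (Golay.inM24.valid hyS)
  have e2 := kl_conj_cj R qY_ok hyS (Golay.inM24.valid hyyS)
  have hp := cj_three R hX hK h1 h2 h3 g1 g2 hx
  rw [← e2, ← e1] at hp
  set y := kl S qY
  set c := cj R RelData.fS
  calc (y * c) ^ 3 = (y * c * y⁻¹) * (y * (y * c * y⁻¹) * y⁻¹) * (y * y * y * c) := by
        rw [pow_succ, pow_succ, pow_one]; group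
    _ = _ := by rw [y_cube, one_mul]; exact hp

open RelData in
theorem second_checks :
    moveOK fV b1 = true ∧ moveOK (Golay.compList fP fV) b2 = true ∧ moveOK hC b3 = true ∧
      b1.g = b3.g ∧ b2.g = b3.g ∧ num b1 ^^^ num b2 ^^^ num b3 = 0 ∧
      moveOK hC c0 = true ∧ c0.g = List.range 24 ∧ num c0 = 1025 ∧
      wordOK headW = true ∧ wordL headW = fHead ∧ Golay.inM24 (Golay.compList fHead fHead) = true ∧
      Golay.compList fHead fHead = wl 98 ∧ Golay.compList fHead fP = List.range 24 ∧ Golay.inM24 fP = true ∧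
      Golay.inM24 fV = true ∧ Golay.inM24 (Golay.compList fP fV) = true ∧
      actL tau tNum = 98 ^^^ 1025 ^^^ tNum := by decide +kernel

open RelData in
theorem fixed_checks :
    (([(84, wf0), (114, wf1), (6, wf2), (16, wf3)] : List (ℕ × List Bool)).all fun q =>
        Golay.inM24 fV && wordOK q.2 && decide (q.1 < 128) && decide (q.1 % 2 = 0) &&
          Golay.inM24 (Golay.compList fV (wordL q.2)) && Golay.inM24 (Golay.compList (wl q.1) fV) &&
          Golay.compList fV (wordL q.2) == Golay.compList (wl q.1) fV) = true ∧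
      isD 84 = true ∧ moveOK u0.h u0e = true ∧ moveOK u0.h u0 = true ∧ moveOK fV u0d = true ∧ u0e.g = u0d.g ∧
      u0.g = List.range 24 ∧ num u0 = 1665 ∧
      moveOK u1.h u1e = true ∧ moveOK u1.h u1 = true ∧ moveOK fV u1d = true ∧ u1e.g = u1d.g ∧
      u1.g = List.range 24 ∧ num u1 = 1025 ∧
      moveOK fV vd = true ∧ moveOK (Golay.compList (wl 14) fV) vw = true ∧ vd.g = vw.g ∧ num vd ≠ num vw ∧
      Golay.inM24 (Golay.compList (wl 14) fV) = true := by decide +kernel

include hX hK in
theorem cj_low {σ : List ℕ} {v : Mv} {n : ℕ} (h : moveOK σ v = true) (hg : v.g = List.range 24) (hn : num v = n) :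
    cj R σ = R.T2.el n := by
  rw [cj_move R hX hK h, hg, hn, kl, toPerm_id, kk_one]; group

theorem el_wl {a : ℕ} (ha : a < 128) (he : a % 2 = 0) : R.T2.el a = kl S (wl a) := by
  rw [R.low a ha, he, pow_zero, one_mul]; rfl

include hX hK in
/-- The conjugate of the third generator acts on the second subgroup as the listed permutation. -/
theorem conj_tee :
    cj R RelData.fV * tee R * (cj R RelData.fV)⁻¹ = R.T2.el (98 ^^^ 1025 ^^^ tNum) := by
  obtain ⟨hw, hD84, h1e, h1, h1d, g1, g1', n1, h2e, h2, h2d, g2, g2', n2, hd, hdw, gdw, ndw, hwV⟩ := fixed_checks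
  obtain ⟨-, -, -, -, -, -, -, -, -, -, -, -, -, -, -, hV, -, hτ⟩ := second_checks
  set c := cj R RelData.fV with hc
  have hfixw : ∀ q ∈ ([(84, RelData.wf0), (114, RelData.wf1), (6, RelData.wf2), (16, RelData.wf3)] : List (ℕ × List Bool)),
      Commute c (R.T2.el q.1) := by
    intro q hq
    have := List.all_eq_true.1 hw q hq
    simp only [Bool.and_eq_true, decide_eq_true_eq, beq_iff_eq] at this
    obtain ⟨⟨⟨⟨⟨⟨hfV, hwq⟩, hlt⟩, hev⟩, hc1⟩, hc2⟩, e⟩ := this
    obtain ⟨hwl, hcw⟩ := comm_wordL R hX hK q.2 hwq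
    have e' : kl S RelData.fV * kl S (wordL q.2) = kl S (wl q.1) * kl S RelData.fV := by
      rw [← kl_comp S hfV hwl (Golay.inM24.valid hc1), e, kl_comp S (wl_ok _ hlt) hfV (Golay.inM24.valid hc2)]
    rw [el_wl R hlt hev, show kl S (wl q.1) = kl S RelData.fV * kl S (wordL q.2) * (kl S RelData.fV)⁻¹ by
      rw [e']; group, hc, cj]
    show _ = _
    calc kl S RelData.fV * tee R * (kl S RelData.fV)⁻¹ * (kl S RelData.fV * kl S (wordL q.2) * (kl S RelData.fV)⁻¹)
        = kl S RelData.fV * (tee R * kl S (wordL q.2)) * (kl S RelData.fV)⁻¹ := by group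
      _ = kl S RelData.fV * (kl S (wordL q.2) * tee R) * (kl S RelData.fV)⁻¹ := by rw [hcw.eq]
      _ = _ := by group
  have hfix : ∀ a ∈ fixBasis, Commute c (R.T2.el a) := by
    intro a ha
    simp only [fixBasis, List.mem_cons, List.not_mem_nil, or_false] at ha
    rcases ha with rfl | rfl | rfl | rfl | rfl | rfl
    · exact hfixw (84, RelData.wf0) (by simp)
    · exact hfixw (114, RelData.wf1) (by simp)
    · exact hfixw (6, RelData.wf2) (by simp)
    · exact hfixw (16, RelData.wf3) (by simp)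
    · rw [← cj_low R hX hK h1 g1' n1]; exact cj_comm R hX hK h1d h1e g1.symm
    · rw [← cj_low R hX hK h2 g2' n2]; exact cj_comm R hX hK h2d h2e g2.symm
  have conj_of_comm : ∀ a, Commute c (R.T2.el a) → c * R.T2.el a * c⁻¹ = R.T2.el a := fun a h => by
    rw [h.eq, mul_inv_cancel_right]
  have hN : c ∈ normalizer (R.T2.V : Set G) :=
    R.norm_of_conj (by norm_num) (by norm_num) hD84 hD84 (conj_of_comm 84 (hfix 84 (by simp [fixBasis])))
  set σ : Equiv.Perm GolayPt := ((R.T2.ρ ⟨c, hN⟩ : ↥Cfsg.M24) : Equiv.Perm GolayPt) with hσdef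
  have hfa : ∀ a ∈ fixBasis, act σ a = a := by
    intro a ha
    have hlt : a < 2048 := by
      have : ∀ b ∈ fixBasis, b < 2048 := by decide
      exact this a ha
    exact R.T2.el_inj _ (act_lt _ _) _ hlt ((R.T2.ρ_spec ⟨c, hN⟩ a hlt).symm.trans (conj_of_comm a (hfix a ha)))
  have hne : σ ≠ 1 := by
    intro h1'
    have hV2 : c ∈ R.T2.V := R.T2.mem_V_of_ρ (n := ⟨c, hN⟩) (Subtype.ext h1')
    obtain ⟨n, hn, hnc⟩ := (R.T2.mem_V c).1 hV2
    have hcm : Commute c (R.T2.el 14) := by rw [← hnc]; exact R.T2.el_comm hn (by norm_num)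
    rw [el_wl R (by norm_num) (by norm_num)] at hcm
    have e := kl_conj_cj R (wl_ok 14 (by norm_num)) hV (Golay.inM24.valid hwV)
    rw [← hc, ← hcm.eq, mul_inv_cancel_right, hc, cj_move R hX hK hd, cj_move R hX hK hdw, gdw] at e
    exact ndw (R.T2.el_inj _ (num_lt hd) _ (num_lt hdw) (mul_left_cancel (mul_right_cancel e)))
  have hσ := eq_tau (R.T2.ρ ⟨c, hN⟩).2 hne hfa
  have h := R.T2.ρ_spec ⟨c, hN⟩ tNum tee_lt
  rw [hσ, act_toPerm (Golay.inM24.valid ?_), hτ] at h
  · exact h
  · have := tau_ok; simp only [Bool.and_eq_true] at this; exact this.1.1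

include hX hK in
/-- The second long relator. -/
theorem rel_second : (kl S RelData.fHead * tee R * cj R RelData.fV) ^ 2 = 1 := by
  obtain ⟨h1, h2, h3, g1, g2, hx, hc, hcg, hcn, hwok, hw, hHH, eHH, eHP, hP, hV, hPV, -⟩ := second_checks
  obtain ⟨hHead, hcomm⟩ := comm_wordL R hX hK _ hwok
  rw [hw] at hHead hcomm
  have hinv : kl S RelData.fP = (kl S RelData.fHead)⁻¹ := by
    refine eq_inv_of_mul_eq_one_right ?_
    rw [← kl_comp S hHead hP (by rw [eHP]; exact Golay.inM24.valid id_ok), eHP, kl, toPerm_id, kk_one]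
  have hb : kl S RelData.fHead * kl S RelData.fHead = R.T2.el 98 := by
    rw [← kl_comp S hHead hHead (Golay.inM24.valid hHH), eHH, el_wl R (by norm_num) (by norm_num)]
  have htc : cj R RelData.hC = R.T2.el 1025 := cj_low R hX hK hc hcg hcn
  have ht2' : cj R (Golay.compList RelData.fP RelData.fV) = (kl S RelData.fHead)⁻¹ * cj R RelData.fV * kl S RelData.fHead := by
    rw [← kl_conj_cj R hP hV (Golay.inM24.valid hPV), hinv, inv_inv]
  have hprod := cj_three R hX hK h1 h2 h3 g1 g2 hx
  have hconj := conj_tee R hX hK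
  set P := kl S RelData.fHead
  set c := cj R RelData.fV with hcdef
  set c' := cj R (Golay.compList RelData.fP RelData.fV)
  set d := cj R RelData.hC
  have hcc : c * c = 1 := cj_sq R _
  have hdd : d * d = 1 := cj_sq R _
  have hc' : c' = c * d := by
    calc c' = c * (c * c' * d) * d := by
          rw [show c * (c * c' * d) * d = (c * c) * c' * (d * d) by group, hcc, hdd]; group
      _ = c * d := by rw [hprod, mul_one]
  have hcd : Commute c d := cj_comm R hX hK h1 h3 g1
  have htd : Commute (tee R) d := by rw [htc]; exact R.T2.el_comm tee_lt (by norm_num)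
  have hci : c⁻¹ = c := inv_eq_of_mul_eq_one_right hcc
  have hP' : c * P = P * c' := by rw [ht2']; group
  rw [hci] at hconj
  calc (P * tee R * c) ^ 2 = P * tee R * (c * P) * tee R * c := by rw [pow_two]; group
    _ = P * (tee R * P) * (c' * tee R * c) := by rw [hP']; group
    _ = P * (P * tee R) * (c' * tee R * c) := by rw [hcomm.eq]
    _ = (P * P) * (tee R * (c * d) * tee R * c) := by rw [hc']; group
    _ = (P * P) * (tee R * d * (c * tee R * c)) := by rw [hcd.eq]; group
    _ = R.T2.el 98 * (R.T2.el tNum * R.T2.el 1025 * R.T2.el (98 ^^^ 1025 ^^^ tNum)) := by rw [hb, htc, hconj]; rfl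
    _ = 1 := by
      rw [← R.T2.el_xor _ tee_lt _ (by norm_num), ← R.T2.el_xor _ (by decide) _ (by decide),
        ← R.T2.el_xor _ (by norm_num) _ (by decide)]
      exact R.T2.el_zero

end

end Cfsg.Agent.Lib.J4Iso59
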